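import Cfsg.Agent.Lib.JankoFour.Rigid.Basic

/-!
# The facts do not depend on the choice of the generator of the normal subgroup of order three
-/

set_option autoImplicit false
set_option linter.unusedSectionVars false

namespace CfsgLib.JankoFour

variable {V : Type*} [AddCommGroup V] [Module (ZMod 2) V] [Finite V]
  {K : Type*} [Group K] [Finite K] [DistribMulAction K V]
  {q : QuadraticForm (ZMod 2) V} {n : K} {M : Subgroup K} {φ : ↥M →* ↥Cfsg.Spor.M22}

theorem Core.n_four (c : Core q n M φ) : n * n * (n * n) = n := by rw [← mul_assoc, c.n_three, one_mul]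

theorem Core.ln_sq (c : Core q n M φ) (v : V) : ln (n * n) v = ln n v := by
  unfold ln
  rw [smul_smul (n * n) (n * n) v, c.n_four, mul_smul n n v]
  ext x; simp only [Set.mem_insert_iff, Set.mem_singleton_iff]; tauto

theorem Hex.sq (c : Core q n M φ) {s : V} {A : Subgroup K} (h : Hex q n M s A) : Hex q (n * n) M s A where
  le := h.le
  elem := h.elem
  card := h.card
  sing := h.sing
  fix_card := h.fix_card
  fix_n := fun v hv a ha => by
    rw [mul_smul]
    exact h.fix_n (n • v) (fun b hb => h.fix_n v hv b hb) a ha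
  fix_perp := h.fix_perp
  quad := h.quad
  rg_card := h.rg_card
  transitive := h.transitive
  eq_of_cent := h.eq_of_cent
  norm_card := h.norm_card
  cset_card := h.cset_card
  six := by
    obtain ⟨T, h1, h2, h3, h4⟩ := h.six
    refine ⟨T, h1, ?_, ?_, ?_⟩
    · intro v hv; simp only [c.ln_sq]; exact h2 v hv
    · intro i j; simp only [c.ln_sq]; exact h3 i j
    · intro σ hσ
      obtain ⟨k, hk1, hk2, hk3⟩ := h4 σ hσ
      exact ⟨k, hk1, hk2, fun i => by rw [c.ln_sq]; exact hk3 i⟩

theorem Hex.of_sq (c : Core q n M φ) {s : V} {A : Subgroup K} (h : Hex q (n * n) M s A) : Hex q n M s A := by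
  have := h.sq c.symm
  rwa [c.n_four] at this

theorem Facts.sq (c : Core q n M φ) (F : Facts q n M) : Facts q (n * n) M where
  elem_le := F.elem_le
  orbit_cases := F.orbit_cases
  orbit_eq := F.orbit_eq
  cent_orbit := F.cent_orbit
  exists_hex := fun s h1 h2 h3 => (F.exists_hex s h1 h2 h3).imp fun _ h => h.sq c
  big_class := fun s h1 h2 h3 B W h4 h5 h6 h7 =>
    ⟨((F.big_class s h1 h2 h3 B W h4 h5 h6 h7).1).sq c, (F.big_class s h1 h2 h3 B W h4 h5 h6 h7).2⟩
  hex_unique := fun s A B P hA hB => F.hex_unique s A B P (hA.of_sq c) (hB.of_sq c)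
  nc_hex := fun s A B v hA hB => F.nc_hex s A B v (hA.of_sq c) (hB.of_sq c)
  inv_hex := fun s A B k hA hB => F.inv_hex s A B k (hA.of_sq c) (hB.of_sq c)
  inv_conj := fun s A hA => F.inv_conj s A (hA.of_sq c)

end CfsgLib.JankoFour
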