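import Cfsg.Agent.Lib.JankoFour.Rigid.Hexad

/-!
# The fields of the facts concerning the hexad groups
-/

set_option autoImplicit false
set_option linter.unusedSectionVars false
set_option linter.style.haveILetI false

namespace CfsgLib.JankoFour

open Subgroup QuadraticMap
open CfsgLib.LargeFischer (perpSub perpSub_card vadd_self eq_of_vadd q_add z2_cases)

variable {V : Type*} [AddCommGroup V] [Module (ZMod 2) V] [Finite V]
  {K : Type*} [Group K] [Finite K] [DistribMulAction K V]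
  {q : QuadraticForm (ZMod 2) V} {n : K} {M : Subgroup K} {crd : ℕ → V} {a f u t : K}

theorem mem_map_conj {A : Subgroup K} {y x : K} :
    x ∈ A.map (MulAut.conj y).toMonoidHom ↔ y⁻¹ * x * y ∈ A := by
  constructor
  · rintro ⟨z, hz, rfl⟩; simpa [mul_assoc] using hz
  · intro h; exact ⟨_, h, by simp [mul_assoc]⟩

theorem ln_map {y : K} (hyn : ∀ v : V, y • n • v = n • y • v) {v w : V} (h : w ∈ ln n v) :
    y • w ∈ ln n (y • v) := by
  simp only [ln, Set.mem_insert_iff, Set.mem_singleton_iff] at h ⊢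
  rcases h with rfl | rfl | rfl | rfl <;> simp [hyn]

/-- The hexad property is preserved by conjugation in the index-two subgroup. -/
theorem Hex.conjM {φ : ↥M →* ↥Cfsg.Spor.M22} (c : Core q n M φ) {s : V} {A : Subgroup K} (h : Hex q n M s A)
    {y : K} (hy : y ∈ M) : Hex q n M s (A.map (MulAut.conj y).toMonoidHom) := by
  set A' := A.map (MulAut.conj y).toMonoidHom with hA'
  have hfix : fixSet (V := V) A' = (fun v => y • v) '' fixSet A := fixSet_map A y
  have hyn : ∀ v : V, y • n • v = n • y • v := fun v => c.smul_n_comm hy v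
  have hMn : M.Normal := Subgroup.normal_of_index_eq_two c.indexM
  have hcls : ∀ v : V, (v ≠ 0 ∧ v ∈ MulAction.orbit K s) → (y • v ≠ 0 ∧ y • v ∈ MulAction.orbit K s) :=
    fun v hv => ⟨fun e => hv.1 ((smul_eq_zero_iff_eq y).1 e), MulAction.mem_orbit_of_mem_orbit _ hv.2⟩
  have hncls : ∀ v : V, v ∈ ncsetK A s → y • v ∈ ncsetK A' s := by
    rintro v ⟨h1, h2, h3⟩
    refine ⟨?_, fun e => h2 ((smul_eq_zero_iff_eq y).1 e), fun e => h3 ?_⟩
    · show y • v ∈ fixSet A'
      rw [hfix]; exact ⟨v, h1, rfl⟩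
    · simpa using MulAction.mem_orbit_of_mem_orbit (y⁻¹) e
  refine ⟨?_, elem_map_conj h.elem y, ?_, ?_, ?_, ?_, ?_, ?_, ?_, ?_, ?_, ?_, ?_, ?_⟩
  · rintro _ ⟨x, hx, rfl⟩
    exact hMn.conj_mem x (h.le hx) y
  · rw [hA', card_map_of_injective (MulEquiv.injective _)]; exact h.card
  · intro v hv
    have hv' : v ∈ fixSet A' := hv
    rw [hfix] at hv'
    obtain ⟨w, hw, rfl⟩ := hv'
    rw [c.isom]; exact h.sing w hw
  · show (fixSet (V := V) A').ncard = 64
    rw [hfix, ncard_smul_image]; exact h.fix_card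
  · intro v hv x hx
    have hv' : v ∈ fixSet A' := hv
    rw [hfix] at hv'
    obtain ⟨w, hw, rfl⟩ := hv'
    have : n • y • w ∈ fixSet A' := by
      rw [hfix]; exact ⟨n • w, h.fix_n w hw, hyn w⟩
    exact this x hx
  · intro v hv x hx
    have : v ∈ fixSet A' := by
      rw [hfix]
      refine ⟨y⁻¹ • v, h.fix_perp _ fun w hw => ?_, smul_inv_smul _ _⟩
      have h1 := hv (y • w) (show y • w ∈ fixSet A' by rw [hfix]; exact ⟨w, hw, rfl⟩)
      rwa [← c.pol_smul y, smul_inv_smul]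
    exact this x hx
  · intro x hx x' hx' v
    obtain ⟨x, hxA, rfl⟩ := hx
    obtain ⟨x', hxA', rfl⟩ := hx'
    simp only [MulEquiv.coe_toMonoidHom, MulAut.conj_apply]
    have h1 := h.quad x hxA x' hxA' (y⁻¹ • v)
    have e : (y * x * y⁻¹) • v + v = y • (x • y⁻¹ • v + y⁻¹ • v) := by
      rw [smul_add, smul_inv_smul, mul_smul, mul_smul]
    rw [e, mul_smul, mul_smul, inv_smul_smul, h1]
  · intro x hx hx1
    obtain ⟨x, hxA, rfl⟩ := hx
    simp only [MulEquiv.coe_toMonoidHom, MulAut.conj_apply] at hx1 ⊢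
    have hx1' : x ≠ 1 := fun e => hx1 (by rw [e]; group)
    rw [← h.rg_card x hxA hx1']
    have key : ∀ v : V, (y * x * y⁻¹) • v + v = y • (x • y⁻¹ • v + y⁻¹ • v) := fun v => by
      rw [smul_add, smul_inv_smul, mul_smul, mul_smul]
    refine Nat.card_congr
      { toFun := fun w => ⟨y⁻¹ • (w : V), by
          obtain ⟨v, hv⟩ := mem_rg.1 w.2
          exact mem_rg.2 ⟨y⁻¹ • v, by rw [← hv, key, inv_smul_smul]⟩⟩
        invFun := fun w => ⟨y • (w : V), by
          obtain ⟨v, hv⟩ := mem_rg.1 w.2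
          exact mem_rg.2 ⟨y • v, by rw [← hv, key, inv_smul_smul]⟩⟩
        left_inv := fun w => Subtype.ext (smul_inv_smul _ _)
        right_inv := fun w => Subtype.ext (inv_smul_smul _ _) }
  · intro x hx hx1 z hz hz1
    obtain ⟨x, hxA, rfl⟩ := hx
    obtain ⟨z, hzA, rfl⟩ := hz
    have hx1' : x ≠ 1 := fun e => hx1 (by rw [e, map_one])
    have hz1' : z ≠ 1 := fun e => hz1 (by rw [e, map_one])
    obtain ⟨g, hg1, hg2, hg3⟩ := h.transitive x hxA hx1' z hzA hz1'
    refine ⟨y * g * y⁻¹, ?_, mul_mem (mul_mem hy hg2) (inv_mem hy), ?_⟩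
    · refine mem_normalizer_iff.2 fun w => ?_
      rw [hA', mem_map_conj, mem_map_conj,
        show y⁻¹ * (y * g * y⁻¹ * w * (y * g * y⁻¹)⁻¹) * y = g * (y⁻¹ * w * y) * g⁻¹ by group]
      exact mem_normalizer_iff.1 hg1 _
    · simp only [MulEquiv.coe_toMonoidHom, MulAut.conj_apply, ← hg3]; group
  · intro k hk hfixk
    rw [hA', mem_map_conj]
    refine h.eq_of_cent _ (fun x hx => ?_) fun w hw => ?_
    · have h1 := hk (y * x * y⁻¹) ⟨x, hx, by simp⟩
      calc y⁻¹ * k * y * x = y⁻¹ * (k * (y * x * y⁻¹)) * y := by group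
        _ = x * (y⁻¹ * k * y) := by rw [h1]; group
    · have h1 := hfixk (y • w) (show y • w ∈ fixSet A' by rw [hfix]; exact ⟨w, hw, rfl⟩)
      rw [mul_smul, mul_smul, h1, inv_smul_smul]
  · rw [← h.norm_card]
    refine Nat.card_congr
      { toFun := fun k => ⟨y⁻¹ * (k : K) * y, ?_⟩
        invFun := fun k => ⟨y * (k : K) * y⁻¹, ?_⟩
        left_inv := fun k => Subtype.ext (by simp [mul_assoc])
        right_inv := fun k => Subtype.ext (by simp [mul_assoc]) }
    · refine mem_normalizer_iff.2 fun w => ?_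
      have h1 := mem_normalizer_iff.1 k.2 (y * w * y⁻¹)
      simp only [hA', mem_map_conj] at h1
      simpa [mul_assoc] using h1
    · refine mem_normalizer_iff.2 fun w => ?_
      rw [hA', mem_map_conj, mem_map_conj,
        show y⁻¹ * (y * (k : K) * y⁻¹ * w * (y * (k : K) * y⁻¹)⁻¹) * y =
          (k : K) * (y⁻¹ * w * y) * (k : K)⁻¹ by group]
      exact mem_normalizer_iff.1 k.2 _
  · rw [← h.cset_card, ← ncard_smul_image y (csetK A s)]
    congr 1
    ext v
    constructor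
    · rintro ⟨h1, h2, h3⟩
      have h1' : v ∈ fixSet A' := h1
      rw [hfix] at h1'
      obtain ⟨w, hw, rfl⟩ := h1'
      refine ⟨w, ⟨hw, fun e => h2 (by simp [e]), ?_⟩, rfl⟩
      simpa using MulAction.mem_orbit_of_mem_orbit (y⁻¹) h3
    · rintro ⟨w, ⟨hw, h2, h3⟩, rfl⟩
      refine ⟨?_, hcls w ⟨h2, h3⟩⟩
      show y • w ∈ fixSet A'
      rw [hfix]; exact ⟨w, hw, rfl⟩
  · obtain ⟨T, hT1, hT2, hT3, hT4⟩ := h.six
    refine ⟨fun i => y • T i, fun i => hncls _ (hT1 i), ?_, ?_, ?_⟩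
    · intro v hv
      have hv' : y⁻¹ • v ∈ ncsetK A s := by
        obtain ⟨h1, h2, h3⟩ := hv
        have h1' : v ∈ fixSet A' := h1
        rw [hfix] at h1'
        obtain ⟨w, hw, rfl⟩ := h1'
        rw [inv_smul_smul]
        exact ⟨hw, fun e => h2 (by simp [e]), fun e => h3 (MulAction.mem_orbit_of_mem_orbit _ e)⟩
      obtain ⟨i, hi⟩ := hT2 _ hv'
      exact ⟨i, by simpa using ln_map hyn hi⟩
    · intro i j hij
      refine hT3 i j ?_
      have hyn' : ∀ v : V, y⁻¹ • n • v = n • y⁻¹ • v := fun v => c.smul_n_comm (inv_mem hy) v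
      simpa using ln_map hyn' hij
    · intro σ hσ
      obtain ⟨k, hk1, hk2, hk3⟩ := hT4 σ hσ
      refine ⟨y * k * y⁻¹, ?_, mul_mem (mul_mem hy hk2) (inv_mem hy), fun i => ?_⟩
      · refine mem_normalizer_iff.2 fun w => ?_
        rw [hA', mem_map_conj, mem_map_conj,
          show y⁻¹ * (y * k * y⁻¹ * w * (y * k * y⁻¹)⁻¹) * y = k * (y⁻¹ * w * y) * k⁻¹ by group]
        exact mem_normalizer_iff.1 hk1 _
      · rw [mul_smul, mul_smul, inv_smul_smul]; exact ln_map hyn (hk3 i)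

namespace Rig

variable (R : Rig q n M crd a f u t)

include R

theorem hex_a0 {s : V} (hs : MulAction.orbit K s = crd '' {x | x < 4096 ∧ Rigid.cls693.testBit x = true}) :
    Hex q n M s (a0Sub crd : Subgroup K) := by
  have hfix : ∀ v : V, v ∈ fixSet (a0Sub crd : Subgroup K) → v ∈ (w0Set crd : Set V) := fun v hv => R.fix_a0 ▸ hv
  have hfix' : ∀ v : V, v ∈ (w0Set crd : Set V) → v ∈ fixSet (a0Sub crd : Subgroup K) := fun v hv => R.fix_a0.symm ▸ hv
  have hmem : ∀ {x : ℕ}, x ∈ Rigid.w0L → (crd x ∈ MulAction.orbit K s ↔ Rigid.cls693.testBit x = true) :=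
    fun hx => by rw [hs]; exact R.crd_mem_cls (R.w0_lt hx)
  have hne : ∀ v : V, v ∈ MulAction.orbit K s → v ≠ 0 := by
    rw [hs]
    rintro _ ⟨x, ⟨hx, hb⟩, rfl⟩ e
    rw [R.crd_eq_zero hx] at e
    subst e
    revert hb
    decide +kernel
  refine ⟨R.a0_le, R.a0_elem, R.a0_card, fun v hv => R.w0_sing (hfix v hv), R.hexLike_a0.2.2.2,
    fun v hv => hfix' _ (R.w0_smul_n (hfix v hv)), fun v hv => hfix' v (R.w0_perp fun w hw => hv w (hfix' w hw)),
    ?_, fun x hx hx1 => (R.a0_rg hx hx1).2, R.a0_transitive, fun k _ hk => R.pointwise fun v hv => hk v (hfix' v hv),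
    R.a0_norm_card, ?_, ?_⟩
  · intro x hx z hz v
    by_cases hx1 : x = 1
    · rw [hx1, one_smul, vadd_self, smul_zero]
    · exact hfix' _ ((R.a0_rg hx hx1).1 v) z hz
  · have e : csetK (a0Sub crd : Subgroup K) s =
        {v : V | v ∈ (w0Set crd : Set V) ∧ v ∈ MulAction.orbit K s} :=
      Set.ext fun v => ⟨fun h => ⟨hfix v h.1, h.2.2⟩, fun h => ⟨hfix' v h.1, hne v h.2, h.2⟩⟩
    rw [e, R.w0_count _ _ fun x hx => hmem hx]
    exact eq_of_beq Rigid.class_checks.1
  · obtain ⟨h1, h2, h3, -⟩ := Rigid.six_checks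
    simp only [Bool.and_eq_true, beq_iff_eq, List.all_eq_true, Bool.not_eq_true', List.contains_iff_mem,
      beq_eq_false_iff_ne, ne_eq] at h1
    have hlt : ∀ i : Fin 6, Rigid.sixL.getD i 0 ∈ Rigid.sixL := fun i => by
      rw [List.getD_eq_getElem _ _ (by rw [h1.1]; exact i.2)]; exact List.getElem_mem _
    refine ⟨fun i => crd (Rigid.sixL.getD i 0), fun i => ?_, ?_, ?_, R.six_perm⟩
    · obtain ⟨⟨ha, hb⟩, hc⟩ := h1.2 _ (hlt i)
      refine ⟨hfix' _ ⟨_, ha, rfl⟩, fun e => hc ((R.crd_eq_zero (R.w0_lt ha)).1 e), fun e => ?_⟩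
      rw [hmem ha, hb] at e
      exact Bool.false_ne_true e
    · rintro v ⟨hv1, hv2, hv3⟩
      obtain ⟨x, hx, rfl⟩ := hfix v hv1
      have h := List.all_eq_true.1 h2 x hx
      simp only [Bool.or_eq_true, beq_iff_eq, List.any_eq_true, List.contains_iff_mem] at h
      rcases h with (h | h) | ⟨r, hr, hl⟩
      · exact absurd (h ▸ R.crd_zero) hv2
      · exact absurd ((hmem hx).2 h) hv3
      · obtain ⟨i, hi, rfl⟩ := List.mem_iff_getElem.1 hr
        refine ⟨⟨i, h1.1 ▸ hi⟩, ?_⟩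
        show crd x ∈ ln n (crd (Rigid.sixL.getD i 0))
        rw [List.getD_eq_getElem _ _ hi]
        exact R.line_mem hl
    · intro i j hij
      have h := List.all_eq_true.1 (List.all_eq_true.1 h3 i (List.mem_range.2 i.2)) j (List.mem_range.2 j.2)
      simp only [Bool.or_eq_true, beq_iff_eq, Bool.not_eq_true'] at h
      rcases h with h | h
      · exact Fin.ext h
      · exfalso
        have h' := R.mem_line (R.w0_lt (h1.2 _ (hlt i)).1.1) (R.w0_lt (h1.2 _ (hlt j)).1.1) hij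
        rw [← List.contains_iff_mem, h] at h'
        exact Bool.false_ne_true h'

theorem exists_hex (s : V) (hs : s ≠ 0) (hq : q s = 0) (h : (MulAction.orbit K s).ncard = 693) :
    ∃ A : Subgroup K, Hex q n M s A :=
  ⟨_, R.hex_a0 (R.orbit_cls hs hq h)⟩

theorem hex_unique (s : V) (A B P : Subgroup K) (hA : Hex q n M s A) (hB : Hex q n M s B) (hP : IsPGroup 2 ↥P)
    (hAP : A ≤ P) (hBP : B ≤ P) : A = B := by
  have hP' : IsPGroup 2 ↥(P ⊓ M) := hP.to_le inf_le_left
  obtain ⟨y, -, hy⟩ := R.conj_into hP' inf_le_right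
  have key : ∀ C : Subgroup K, HexLike M V C → C ≤ P → C.map (MulAut.conj y).toMonoidHom = a0Sub crd := by
    intro C hC hCP
    have h' := R.hexLike_conj hC y
    refine R.p0_hex h'.2.1 ((map_mono (le_inf hCP hC.1)).trans hy) h'.2.2.1.ge ?_
    rw [h'.2.2.2]; norm_num
  exact map_injective (MulEquiv.injective _) ((key A hA.like hAP).trans (key B hB.like hBP).symm)

/-- Two hexad groups meeting in a way seen in the coordinates coincide. -/
theorem pair_reduce {A B : Subgroup K} (hA : HexLike M V A) (hB : HexLike M V B) :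
    ∃ y ∈ M, A.map (MulAut.conj y).toMonoidHom = a0Sub crd ∧ ∃ i < 77,
      fixSet (B.map (MulAut.conj y).toMonoidHom) = (wSet crd i : Set V) ∧ (i = 0 → A = B) := by
  obtain ⟨y, hy, hyA⟩ := R.hexLike_exists hA
  have hA' : A.map (MulAut.conj y⁻¹).toMonoidHom = a0Sub crd := by rw [hyA, map_conj_inv]
  obtain ⟨i, hi, hf, h0⟩ := R.hexLike_fix (R.hexLike_conj hB y⁻¹)
  exact ⟨y⁻¹, inv_mem hy, hA', i, hi, hf, fun h =>
    map_injective (MulEquiv.injective _) (hA'.trans (h0 h).symm)⟩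

theorem inv_hex (s : V) (A B : Subgroup K) (k : K) (hA : Hex q n M s A) (hB : Hex q n M s B)
    (hkA : k ∈ A) (hkB : k ∈ B) (hk : k ≠ 1) : A = B := by
  obtain ⟨y, -, hA', i, hi, hf, h0⟩ := R.pair_reduce hA.like hB.like
  refine h0 ?_
  by_contra hi0
  set k' := y * k * y⁻¹
  have hk' : k' ∈ (a0Sub crd : Subgroup K) := hA' ▸ ⟨k, hkA, rfl⟩
  obtain ⟨j, hj, hkj⟩ := R.a0_acts hk'
  have h := List.all_eq_true.1 Rigid.class_checks.2.2 i (List.mem_range.2 hi)
  simp only [Bool.or_eq_true, beq_iff_eq, hi0, false_or, List.all_eq_true, List.any_eq_true,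
    Bool.not_eq_true', beq_eq_false_iff_ne, ne_eq] at h
  rcases h j hj with hj0 | ⟨x, hx, hxne⟩
  · exact hk (conj_eq_one_iff.1 (R.acts_unique (hj0 ▸ hkj) R.p0_one))
  · have hxs := spanX_self _ hx
    have hv : crd x ∈ fixSet (B.map (MulAut.conj y).toMonoidHom) := by rw [hf]; exact ⟨x, hxs, rfl⟩
    have e := hv k' ⟨k, hkB, rfl⟩
    rw [hkj] at e
    exact hxne (R.inj _ _ (Rigid.app_lt (R.p0_valid j (R.a0_idx_lt hj)) x) (R.wOrb_lt hi hxs) e)

theorem nc_hex (s : V) (A B : Subgroup K) (v : V) (hA : Hex q n M s A) (hB : Hex q n M s B)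
    (hvA : v ∈ ncsetK A s) (hvB : v ∈ ncsetK B s) : A = B := by
  have hcls := R.hex_class hA
  obtain ⟨y, -, hA', i, hi, hf, h0⟩ := R.pair_reduce hA.like hB.like
  refine h0 ?_
  by_contra hi0
  have h1 : y • v ∈ fixSet (A.map (MulAut.conj y).toMonoidHom) := by rw [fixSet_map]; exact ⟨v, hvA.1, rfl⟩
  have h2 : y • v ∈ fixSet (B.map (MulAut.conj y).toMonoidHom) := by rw [fixSet_map]; exact ⟨v, hvB.1, rfl⟩
  rw [hA', R.fix_a0] at h1
  rw [hf] at h2
  obtain ⟨x, hx, hxe⟩ := h1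
  obtain ⟨z, hz, hze⟩ := h2
  have hzx : z = x := R.inj z x (R.wOrb_lt hi hz) (R.w0_lt hx) (hze.trans hxe.symm)
  subst hzx
  have h := List.all_eq_true.1 Rigid.class_checks.2.1 i (List.mem_range.2 hi)
  simp only [Bool.or_eq_true, beq_iff_eq, hi0, false_or, List.all_eq_true, Bool.not_eq_true'] at h
  rcases h z hx with (h | h) | h
  · subst h
    rw [R.crd_zero] at hxe
    exact hvA.2.1 ((smul_eq_zero_iff_eq y).1 hxe.symm)
  · have hmem : y • v ∈ MulAction.orbit K s := by
      rw [hcls, ← hxe]; exact ⟨z, ⟨R.w0_lt hx, h⟩, rfl⟩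
    exact hvA.2.2 (by simpa using MulAction.mem_orbit_of_mem_orbit (y⁻¹) hmem)
  · rw [List.contains_iff_mem.2 hz] at h
    exact Bool.false_ne_true h.symm

theorem inv_conj (s : V) (A : Subgroup K) (hA : Hex q n M s A) (k : K) (hkM : k ∈ M) (h2 : k * k = 1) (hk : k ≠ 1) :
    ∃ y ∈ M, y * k * y⁻¹ ∈ A := by
  obtain ⟨y0, hy0, rfl⟩ := R.hexLike_exists hA.like
  have hz : IsPGroup 2 ↥(zpowers k) := IsPGroup.of_card (n := 1) (by
    rw [Nat.card_zpowers, pow_one]; exact orderOf_eq_prime (by rw [pow_two, h2]) hk)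
  obtain ⟨y, hy, hyle⟩ := R.conj_into hz (zpowers_le.2 hkM)
  have hk' : y * k * y⁻¹ ∈ (p0Sub crd : Subgroup K) := hyle ⟨k, mem_zpowers k, rfl⟩
  have hk2 : y * k * y⁻¹ * (y * k * y⁻¹) = 1 := by
    rw [show y * k * y⁻¹ * (y * k * y⁻¹) = y * (k * k) * y⁻¹ by group, h2]; group
  obtain ⟨i, hi, hki⟩ := R.p0_invol hk' hk2 (fun e => hk (conj_eq_one_iff.1 e))
  obtain ⟨hw, -, hw3⟩ := Rigid.word_checks
  simp only [Bool.and_eq_true, beq_iff_eq, List.all_eq_true] at hw
  have h := List.all_eq_true.1 hw3 i (List.mem_range.2 hi)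
  rw [beq_iff_eq] at h
  set e := Rigid.invWords.getD i (0, []) with he
  have hmem : e ∈ Rigid.invWords := by
    rw [he, List.getD_eq_getElem _ _ (by rw [hw.1.1.1.2]; exact hi)]; exact List.getElem_mem _
  obtain ⟨g, hg, hgj⟩ := R.a0_elt (i := Rigid.a0Idx.getD e.1 0) (by
    have h1 := Rigid.group_checks.1
    simp only [Bool.and_eq_true, beq_iff_eq] at h1
    rw [List.getD_eq_getElem _ _ (by rw [h1.1.1.1]; exact Nat.le_of_ble_eq_true (hw.1.2 e hmem).2)]
    exact List.getElem_mem _)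
  refine ⟨y0 * (wordK a f u n t e.2 * y), mul_mem hy0 (mul_mem (R.word_mem (List.all_eq_true.2 (hw.1.2 e hmem).1)) hy), ?_⟩
  have hc : wordK a f u n t e.2 * (y * k * y⁻¹) = g * wordK a f u n t e.2 :=
    R.acts_unique (h ▸ (R.acts_word e.2).mul hki) (hgj.mul (R.acts_word e.2))
  refine ⟨g, hg, ?_⟩
  simp only [MulEquiv.coe_toMonoidHom, MulAut.conj_apply]
  calc y0 * g * y0⁻¹ = y0 * (g * wordK a f u n t e.2) * (wordK a f u n t e.2)⁻¹ * y0⁻¹ := by group
    _ = y0 * (wordK a f u n t e.2 * y) * k * (y0 * (wordK a f u n t e.2 * y))⁻¹ := by rw [← hc]; group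

theorem big_class (s : V) (hs : s ≠ 0) (hq : q s = 0) (h693 : (MulAction.orbit K s).ncard = 693)
    (B : Subgroup K) (W : AddSubgroup V) (hB : Cfsg.IsElementaryAbelian 2 B) (hfix : ∀ b ∈ B, ∀ w ∈ W, b • w = w)
    (hsing : ∀ w ∈ W, q w = 0) (hbig : 2 ^ 10 ≤ Nat.card ↥B * Nat.card ↥W) :
    Hex q n M s B ∧ Nat.card ↥W = 64 := by
  obtain ⟨φ, c⟩ := R.core
  have hW : Nat.card ↥W ≤ 64 := R.totSing_card hsing
  have hBM : B ≤ M := by
    by_contra hnle
    obtain ⟨b, hb, hbM⟩ := SetLike.not_le_iff_exists.1 hnle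
    haveI : M.Normal := Subgroup.normal_of_index_eq_two c.indexM
    set B1 := B ⊓ M with hB1
    have hel1 : Cfsg.IsElementaryAbelian 2 B1 := ⟨⟨⟨fun x z => Subtype.ext (by
      haveI := hB.1
      exact congrArg (fun w : ↥B => (w : K)) (mul_comm' (⟨x, x.2.1⟩ : ↥B) ⟨z, z.2.1⟩))⟩⟩,
      fun x hx => hB.2 x hx.1⟩
    have h1 : Nat.card ↥B1 ≤ 16 := R.elem_le B1 inf_le_right hel1
    have h2 : Nat.card ↥B ≤ 2 * Nat.card ↥B1 := by
      have hr := relIndex_mul_relIndex ⊥ B1 B bot_le inf_le_left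
      have hd := relIndex_dvd_index_of_normal M B
      rw [c.indexM] at hd
      simp only [relIndex_bot_left, hB1, inf_relIndex_left] at hr
      have := Nat.le_of_dvd (by norm_num) hd
      rw [hB1, ← hr]
      nlinarith
    obtain ⟨r, hr, hr1⟩ : ∃ r ∈ B1, r ≠ 1 := by
      by_contra hall
      simp only [not_exists, not_and, not_not] at hall
      have : Nat.card ↥B1 = 1 := by rw [show B1 = ⊥ from (eq_bot_iff_forall _).2 hall]; simp
      nlinarith
    have hwn : ∀ w ∈ W, n • w ∈ W → w = 0 := by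
      intro w hw hnw
      have e1 := hfix b hb _ hnw
      have e2 : b • n • w = (b * n * b⁻¹) • b • w := by rw [← mul_smul, ← mul_smul]; group
      rw [e2, c.flip hbM, hfix b hb w hw, mul_smul] at e1
      exact c.nfix w (smul_left_cancel n e1)
    let f2 : ↥W × ↥W → {v : V // r • v = v} := fun p => ⟨(p.1 : V) + n • (p.2 : V), by
      rw [smul_add, hfix r hr.1 _ p.1.2, c.smul_n_comm hr.2, hfix r hr.1 _ p.2.2]⟩
    have hinj : Function.Injective f2 := by
      rintro ⟨x1, x2⟩ ⟨z1, z2⟩ e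
      have e' : (x1 : V) + n • (x2 : V) = (z1 : V) + n • (z2 : V) := congrArg Subtype.val e
      have e3 : n • ((x2 : V) + z2) = (x1 : V) + z1 := by
        have h0 : ((x1 : V) + n • (x2 : V)) + ((z1 : V) + n • (z2 : V)) = 0 := by rw [e', vadd_self]
        refine (eq_of_vadd ?_).symm
        rw [smul_add, ← h0]; abel
      have e4 := hwn _ (add_mem x2.2 z2.2) (by rw [e3]; exact add_mem x1.2 z1.2)
      rw [e4, smul_zero] at e3
      exact Prod.ext (Subtype.ext (eq_of_vadd e3.symm)) (Subtype.ext (eq_of_vadd e4))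
    have h256 : Nat.card {v : V // r • v = v} = 256 := by
      obtain ⟨y, -, hyle⟩ := R.conj_into (IsPGroup.of_card (n := 1) (G := ↥(zpowers r)) (by
        rw [Nat.card_zpowers, pow_one]; exact orderOf_eq_prime (hB.2 r hr.1) hr1)) (zpowers_le.2 hr.2)
      obtain ⟨g, hgM, hg⟩ := R.inv_conj s _ (R.hex_a0 (R.orbit_cls hs hq h693)) r hr.2
        (by rw [← pow_two]; exact hB.2 r hr.1) hr1
      have hker : ∀ x ∈ (a0Sub crd : Subgroup K), x ≠ 1 → Nat.card {v : V // x • v = v} = 256 := by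
        intro x hx hx1
        let ψ : V →+ V := AddMonoidHom.mk' (fun v : V => x • v + v) fun a b => by simp only [smul_add]; abel
        have hc := ψ.ker.card_mul_index
        rw [AddSubgroup.index_ker, show Nat.card ↥ψ.range = 16 from (R.a0_rg hx hx1).2, c.cardV] at hc
        have he : Nat.card {v : V // x • v = v} = Nat.card ↥ψ.ker :=
          Nat.card_congr (Equiv.subtypeEquivRight fun v => by
            show x • v = v ↔ x • v + v = 0
            exact ⟨fun h => by rw [h, vadd_self], eq_of_vadd⟩)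
        omega
      rw [← hker _ hg (fun e => hr1 (conj_eq_one_iff.1 e))]
      refine Nat.card_congr
        { toFun := fun v => ⟨g • (v : V), by rw [mul_smul, mul_smul, inv_smul_smul, v.2]⟩
          invFun := fun v => ⟨g⁻¹ • (v : V), by
            have h := v.2
            rw [mul_smul, mul_smul] at h
            exact smul_left_cancel g (by rw [smul_inv_smul]; exact h)⟩
          left_inv := fun v => Subtype.ext (inv_smul_smul _ _)
          right_inv := fun v => Subtype.ext (smul_inv_smul _ _) }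
    have h3 := Nat.card_le_card_of_injective f2 hinj
    rw [Nat.card_prod, h256] at h3
    nlinarith
  have hB16 := R.elem_le B hBM hB
  have hBe : Nat.card ↥B = 16 := by nlinarith
  have hWe : Nat.card ↥W = 64 := by nlinarith
  obtain ⟨y, hy, hyle⟩ := R.conj_into (isPGroup_of_elem hB) hBM
  have hB' : B.map (MulAut.conj y).toMonoidHom = a0Sub crd := by
    refine R.p0_hex (elem_map_conj hB y) hyle (by rw [card_map_of_injective (MulEquiv.injective _), hBe]) ?_
    rw [fixSet_map, ncard_smul_image]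
    have hsub : (W : Set V) ⊆ fixSet B := fun w hw b hb => hfix b hb w hw
    have h1 := Set.ncard_le_ncard hsub (Set.toFinite _)
    have h2 : (W : Set V).ncard = 64 := by rw [← hWe]; exact (Nat.card_coe_set_eq _).symm
    omega
  refine ⟨?_, hWe⟩
  have := (R.hex_a0 (R.orbit_cls hs hq h693)).conjM c (inv_mem hy)
  rwa [← hB', map_conj_inv] at this

end Rig

end CfsgLib.JankoFour
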