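import Mathlib.Data.Nat.Notation

/-!
Data of the module of dimension twelve over two elements for the extension 3.M22:2:
vectors are numbers below 4096, six coordinates over GF(4) of two bits each, a map is the list of the
images of the twelve unit vectors.
-/

set_option autoImplicit false

namespace CfsgLib.JankoFour.Rigid

/-- The element of order eleven. -/
def mA : List ℕ := [4,8,16,32,64,128,256,512,857,430,1024,2048]

/-- The element of order five. -/
def mF : List ℕ := [1,2,256,512,748,884,4,8,857,430,1024,2048]

/-- The element normalising the element of order five. -/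
def mU : List ℕ := [2048,3072,1060,2104,3195,1181,1731,2881,1330,2579,3,1]

/-- The scalar of order three. -/
def mW : List ℕ := [2,3,8,12,32,48,128,192,512,768,2048,3072]

/-- The scalar on the five dimensional part. -/
def mC : List ℕ := [2,3,8,12,32,48,128,192,512,768,1024,2048]

/-- The semilinear involution. -/
def mT : List ℕ := [2,1,619,470,807,542,884,748,221,187,1024,3072]

/-- The semilinear map inverting `mA` and fixing the two base vectors. -/
def mT0 : List ℕ := [1,3,470,957,542,313,748,408,187,102,1024,3072]

/-- The rows of the polar form. -/
def gramMask : List ℕ := [374,1005,475,950,877,731,439,878,735,442,2048,1024]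

/-- The values of the form on the unit vectors. -/
def quadMask : ℕ := 4095

/-- Coefficients of the five base vectors in the orbit of the second one. -/
def coefOrb : List ℕ := [682,1,948,256,4]

/-- The orbit of the second base vector. -/
def orbBase : List ℕ := [4,256,857,542,64]

/-- The element of order eleven on 22 points. -/
def permA : List ℕ := [21,7,14,11,18,1,15,0,16,8,5,12,19,10,4,3,20,2,6,17,13,9]

/-- The element of order five on 22 points. -/
def permF : List ℕ := [0,8,18,15,2,7,12,10,21,5,13,19,4,9,11,14,20,17,6,3,1,16]

/-- The element of order four on 22 points. -/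
def permU : List ℕ := [17,1,9,11,10,18,13,12,21,4,2,19,5,6,14,3,8,0,7,15,16,20]

/-- `permF` in the standard generators. -/
def wordF : List ℕ := [1,0,0,0,0,1,0,0,0,1,0,0,1,0,0,0,0,0,1,0,1,0,0,0,0,1,0]

/-- `permU` in the standard generators. -/
def wordU : List ℕ := [1,0,0,0,1,0,0,0,1,0,0,0,0,1,0,0,0,1,0,0,1,0,1]

/-- The standard involution in the three elements. -/
def wordStar : List ℕ := [0,0,0,2,0,2,1,0,2,0,1,1,1,0]

end CfsgLib.JankoFour.Rigid
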