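import Cfsg.Agent.Lib.M22Sub.Table
import Cfsg.Agent.Lib.MTwentyTwoUnique.Concrete
import Cfsg.Agent.Lib.JankoFour.Rigid.Data

/-!
Three generators of M22 with the relations used for the rigidity of the module.
-/

set_option autoImplicit false
set_option maxRecDepth 100000
set_option Elab.async false

namespace CfsgLib.JankoFour.Rigid

open Subgroup Cfsg CfsgLib.Golay CfsgLib.M22Sub

/-- The permutation list of a word. -/
def wordL (gs : List (List ℕ)) : List ℕ → List ℕ
  | [] => List.range 22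
  | i :: w => compL (gs.getD i (List.range 22)) (wordL gs w)

theorem perm_checks :
    (wordL [M22Sub.elevenL, M22Sub.starL] wordF == permF) = true ∧ (wordL [M22Sub.elevenL, M22Sub.starL] wordU == permU) = true ∧
    (wordL [permA, permF, permU] wordStar == M22Sub.starL) = true ∧ (permA == M22Sub.elevenL) = true ∧
    ([permA, permF, permU, List.range 22].all (validL 22)) = true ∧
    (compL permF permA == compL (powL permA 4) permF) = true ∧
    (compL permU permF == compL (powL permF 2) permU) = true ∧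
    (powL permF 5 == List.range 22) = true ∧ (permF == List.range 22) = false ∧
    (powL (compL permA permU) 5 == List.range 22) = true := by
  refine ⟨?_, ?_, ?_, ?_, ?_, ?_, ?_, ?_, ?_, ?_⟩ <;> decide +kernel

theorem word_mem {K : Subgroup (Equiv.Perm (Fin 22))} {gs : List (List ℕ)}
    (hv : ∀ g ∈ gs, validL 22 g = true) (hK : ∀ g ∈ gs, perm22 g ∈ K) :
    ∀ w : List ℕ, validL 22 (wordL gs w) = true ∧ perm22 (wordL gs w) ∈ K
  | [] => ⟨valid_range, by rw [wordL, perm22_range]; exact one_mem _⟩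
  | i :: w => by
    obtain ⟨h1, h2⟩ := word_mem hv hK w
    have hg : validL 22 (gs.getD i (List.range 22)) = true ∧ perm22 (gs.getD i (List.range 22)) ∈ K := by
      by_cases hi : i < gs.length
      · rw [List.getD_eq_getElem _ _ hi]
        exact ⟨hv _ (List.getElem_mem hi), hK _ (List.getElem_mem hi)⟩
      · rw [List.getD_eq_default _ _ (not_lt.1 hi)]
        exact ⟨valid_range, by rw [perm22_range]; exact one_mem _⟩
    exact ⟨valid_compL hg.1 h1, by rw [wordL, perm22_comp hg.1 h1]; exact mul_mem hg.2 h2⟩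

theorem valid_gens : validL 22 permA = true ∧ validL 22 permF = true ∧ validL 22 permU = true := by
  have h := List.all_eq_true.1 perm_checks.2.2.2.2.1
  exact ⟨h _ (by simp), h _ (by simp), h _ (by simp)⟩

theorem gens_mem : perm22 permA ∈ M22Idx.grp ∧ perm22 permF ∈ M22Idx.grp ∧ perm22 permU ∈ M22Idx.grp := by
  obtain ⟨h1, h2, -, h4, -⟩ := perm_checks
  have hv : ∀ g ∈ [M22Sub.elevenL, M22Sub.starL], validL 22 g = true := by
    simp only [List.mem_cons, List.not_mem_nil, or_false]
    rintro g (rfl | rfl)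
    exacts [eleven_facts.1, star_facts.1]
  have hm : ∀ g ∈ [M22Sub.elevenL, M22Sub.starL], perm22 g ∈ M22Idx.grp := by
    simp only [List.mem_cons, List.not_mem_nil, or_false]
    rintro g (rfl | rfl)
    exacts [eleven_facts.2.1, star_facts.2]
  refine ⟨?_, ?_, ?_⟩
  · rw [eq_of_beq h4]; exact eleven_facts.2.1
  · rw [← eq_of_beq h1]; exact (word_mem hv hm _).2
  · rw [← eq_of_beq h2]; exact (word_mem hv hm _).2

theorem grp_le_of_gens {K : Subgroup (Equiv.Perm (Fin 22))} (ha : perm22 permA ∈ K) (hf : perm22 permF ∈ K)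
    (hu : perm22 permU ∈ K) : M22Idx.grp ≤ K := by
  obtain ⟨-, -, h3, h4, -⟩ := perm_checks
  refine grp_le (by rw [← eq_of_beq h4]; exact ha) ?_
  rw [← eq_of_beq h3]
  refine (word_mem ?_ ?_ _).2
  · obtain ⟨a, b, c⟩ := valid_gens
    simp only [List.mem_cons, List.not_mem_nil, or_false]
    rintro g (rfl | rfl | rfl) <;> assumption
  · simp only [List.mem_cons, List.not_mem_nil, or_false]
    rintro g (rfl | rfl | rfl) <;> assumption

/-- Generators of M22 with the relations needed. -/
structure Gens (a f u : ↥Cfsg.Spor.M22) : Prop where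
  orda : orderOf a = 11
  ordf : orderOf f = 5
  conjfa : f * a * f⁻¹ = a ^ 4
  conjuf : u * f * u⁻¹ = f ^ 2
  au_five : (a * u) ^ 5 = 1
  gen : closure ({a, f, u} : Set ↥Cfsg.Spor.M22) = ⊤
  cent_a : ∀ g, g * a = a * g → ∃ i : ℕ, g = a ^ i
  cent_f : ∀ g, g * f = f * g → ∃ i : ℕ, g = f ^ i

theorem exists_gens : ∃ a f u : ↥Cfsg.Spor.M22, Gens a f u := by
  obtain ⟨e₁⟩ := sporM22_equiv
  let e : ↥Cfsg.Spor.M22 ≃* ↥M22Idx.grp := e₁.trans (MonoidHom.ofInjective M22Idx.twoHom_injective)
  obtain ⟨-, -, -, h4, -, h6, h7, h8, h9, h10⟩ := perm_checks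
  obtain ⟨va, vf, vu⟩ := valid_gens
  obtain ⟨ma, mf, mu⟩ := gens_mem
  have hE : ∀ {x y : ↥M22Idx.grp}, (x : Equiv.Perm (Fin 22)) = y → e.symm x = e.symm y := fun h => by
    rw [Subtype.ext h]
  set A : ↥M22Idx.grp := ⟨_, ma⟩
  set F : ↥M22Idx.grp := ⟨_, mf⟩
  set U : ↥M22Idx.grp := ⟨_, mu⟩
  have hA : orderOf A = 11 := by
    rw [← Subgroup.orderOf_coe]
    show orderOf (perm22 permA) = 11
    rw [eq_of_beq h4]; exact eleven_facts.2.2
  have hF : orderOf F = 5 := by
    haveI : Fact (Nat.Prime 5) := ⟨by norm_num⟩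
    rw [← Subgroup.orderOf_coe]
    refine orderOf_eq_prime ?_ ?_
    · show perm22 permF ^ 5 = 1
      rw [← (perm22_powL vf 5).2, eq_of_beq h8, perm22_range]
    · intro h
      have : permF = List.range 22 := perm22_inj vf valid_range (by rw [perm22_range]; exact h)
      rw [this] at h9
      simp at h9
  have rA : F * A * F⁻¹ = A ^ 4 := by
    rw [mul_inv_eq_iff_eq_mul]
    refine Subtype.ext ?_
    show perm22 permF * perm22 permA = perm22 permA ^ 4 * perm22 permF
    rw [← perm22_comp vf va, ← (perm22_powL va 4).2, ← perm22_comp (perm22_powL va 4).1 vf, eq_of_beq h6]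
  have rU : U * F * U⁻¹ = F ^ 2 := by
    rw [mul_inv_eq_iff_eq_mul]
    refine Subtype.ext ?_
    show perm22 permU * perm22 permF = perm22 permF ^ 2 * perm22 permU
    rw [← perm22_comp vu vf, ← (perm22_powL vf 2).2, ← perm22_comp (perm22_powL vf 2).1 vu, eq_of_beq h7]
  have rAU : (A * U) ^ 5 = 1 := by
    refine Subtype.ext ?_
    show (perm22 permA * perm22 permU) ^ 5 = 1
    rw [← perm22_comp va vu, ← (perm22_powL (valid_compL va vu) 5).2, eq_of_beq h10, perm22_range]
  have hgen : closure ({A, F, U} : Set ↥M22Idx.grp) = ⊤ := by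
    rw [eq_top_iff]
    intro x _
    have hle : M22Idx.grp ≤ (closure ({A, F, U} : Set ↥M22Idx.grp)).map M22Idx.grp.subtype :=
      grp_le_of_gens ⟨A, subset_closure (by simp), rfl⟩ ⟨F, subset_closure (by simp), rfl⟩
        ⟨U, subset_closure (by simp), rfl⟩
    obtain ⟨y, hy, e'⟩ := hle x.2
    rwa [← Subtype.ext (a1 := y) (a2 := x) e']
  have cyc : ∀ (x : ↥Cfsg.Spor.M22) (p : ℕ), orderOf x = p → 0 < p →
      Nat.card (centralizer ({x} : Set ↥Cfsg.Spor.M22)) = p → ∀ g, g * x = x * g → ∃ i : ℕ, g = x ^ i := by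
    intro x p hx hp hc g hg
    have hle : zpowers x ≤ centralizer ({x} : Set ↥Cfsg.Spor.M22) :=
      zpowers_le.2 (mem_centralizer_singleton_iff.2 rfl)
    have heq := Subgroup.eq_of_le_of_card_ge hle (by rw [hc, Nat.card_zpowers, hx])
    have hmem : g ∈ zpowers x := heq ▸ mem_centralizer_singleton_iff.2 hg
    obtain ⟨i, hi⟩ := (isOfFinOrder_of_finite x).mem_powers_iff_mem_zpowers.2 hmem
    exact ⟨i, hi.symm⟩
  have oa : orderOf (e.symm A) = 11 := by rw [MulEquiv.orderOf_eq, hA]
  have of' : orderOf (e.symm F) = 5 := by rw [MulEquiv.orderOf_eq, hF]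
  refine ⟨e.symm A, e.symm F, e.symm U, oa, of', ?_, ?_, ?_, ?_,
    cyc _ _ oa (by norm_num) (CfsgLib.MTwentyTwoUnique.m22_eleven oa),
    cyc _ _ of' (by norm_num) (CfsgLib.MTwentyTwoUnique.m22_five of')⟩
  · rw [← map_inv, ← map_mul, ← map_mul, rA, map_pow]
  · rw [← map_inv, ← map_mul, ← map_mul, rU, map_pow]
  · rw [← map_mul, ← map_pow, rAU, map_one]
  · have := congrArg (Subgroup.map e.symm.toMonoidHom) hgen
    rw [MonoidHom.map_closure, Subgroup.map_top_of_surjective e.symm.toMonoidHom e.symm.surjective] at this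
    rw [← this]
    congr 1
    simp [Set.image_insert_eq]

end CfsgLib.JankoFour.Rigid
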