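import Mathlib
import Cfsg.Agent.Lib.JankoFour.Core
import Cfsg.Agent.Lib.JankoFour.Big
import Cfsg.Agent.Lib.JankoFour.Rigid.Gens

/-!
# The module of dimension twelve: the fixed space and the free part of an element of order eleven
-/

set_option autoImplicit false
set_option linter.unusedSectionVars false

namespace CfsgLib.JankoFour

open Subgroup QuadraticMap
open CfsgLib.LargeFischer (vadd_self eq_of_vadd)

variable {V : Type*} [AddCommGroup V] [Module (ZMod 2) V] [Finite V]
  {K : Type*} [Group K] [Finite K] [DistribMulAction K V]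

variable {q : QuadraticForm (ZMod 2) V} {n : K} {M : Subgroup K} {φ : ↥M →* ↥Cfsg.Spor.M22}

theorem zsmul_small (y : V) : (2 : ℤ) • y = 0 ∧ (3 : ℤ) • y = y ∧ (4 : ℤ) • y = 0 ∧ (5 : ℤ) • y = y ∧ (6 : ℤ) • y = 0 := by
  have h2 : (2 : ℤ) • y = 0 := by rw [two_zsmul, vadd_self]
  refine ⟨h2, ?_, ?_, ?_, ?_⟩
  · rw [show (3 : ℤ) = 2 + 1 from rfl, add_zsmul, h2, one_zsmul, zero_add]
  · rw [show (4 : ℤ) = 2 + 2 from rfl, add_zsmul, h2, zero_add]
  · rw [show (5 : ℤ) = 2 + 2 + 1 from rfl, add_zsmul, add_zsmul, h2, one_zsmul, zero_add, zero_add]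
  · rw [show (6 : ℤ) = 2 + 2 + 2 from rfl, add_zsmul, add_zsmul, h2, zero_add, zero_add]

namespace Core

variable (c : Core q n M φ)

include c

theorem zn_le : zpowers n ≤ M := zpowers_le.2 c.nM

theorem smul_sq (x : V) : (n * n) • x = n • x + x := by
  have h : n • (n • (n • x) + n • x + x) = n • (n • x) + n • x + x := by
    rw [smul_add, smul_add, smul_smul, smul_smul, smul_smul, c.n_three, one_smul]
    abel
  have h0 := c.nfix _ h
  rw [add_assoc] at h0
  rw [mul_smul]
  exact eq_of_vadd h0

theorem smul_nn (x : V) : n • (n • x) = n • x + x := by rw [← mul_smul]; exact c.smul_sq x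

theorem flip {k : K} (hk : k ∉ M) : k * n * k⁻¹ = n * n := by
  rcases c.zn_cases (c.normal k) with e | e | e
  · exact absurd (conj_eq_one_iff.1 e) c.n_ne
  · exfalso
    obtain ⟨k0, hk0⟩ := c.outer
    have hk0M : k0 ∉ M := fun h => hk0 (c.commute k0 h)
    have hm : k⁻¹ * k0 ∈ M := by
      rw [Subgroup.mul_mem_iff_of_index_two c.indexM, inv_mem_iff]
      simp [hk, hk0M]
    refine hk0 ?_
    have e1 : k * n = n * k := mul_inv_eq_iff_eq_mul.1 e
    have e2 := c.commute _ hm
    calc k0 * n = k * ((k⁻¹ * k0) * n) := by group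
      _ = k * n * (k⁻¹ * k0) := by rw [e2]; group
      _ = n * k0 := by rw [e1]; group
  · exact e

/-- The setting is symmetric in the two generators of the normal subgroup of order three. -/
theorem symm : Core q (n * n) M φ where
  isom := c.isom
  faithful := c.faithful
  nondeg := c.nondeg
  cardV := c.cardV
  ordn := by
    rw [← pow_two]
    exact Nat.Coprime.orderOf_pow (by rw [c.ordn]; decide) |>.trans c.ordn
  normal := fun k => by
    have hz : zpowers (n * n) = zpowers n := by
      refine le_antisymm (zpowers_le.2 (mul_mem (mem_zpowers n) (mem_zpowers n))) (zpowers_le.2 ?_)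
      have h4 : n * n * (n * n) = n := by rw [← mul_assoc, c.n_three, one_mul]
      have := mul_mem (mem_zpowers (n * n)) (mem_zpowers (n * n))
      rwa [h4] at this
    rw [hz, show k * (n * n) * k⁻¹ = (k * n * k⁻¹) * (k * n * k⁻¹) by group]
    exact mul_mem (c.normal k) (c.normal k)
  indexM := c.indexM
  nM := mul_mem c.nM c.nM
  surj := c.surj
  ker := fun m => by
    have hz : zpowers (n * n) = zpowers n := by
      refine le_antisymm (zpowers_le.2 (mul_mem (mem_zpowers n) (mem_zpowers n))) (zpowers_le.2 ?_)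
      have h4 : n * n * (n * n) = n := by rw [← mul_assoc, c.n_three, one_mul]
      have := mul_mem (mem_zpowers (n * n)) (mem_zpowers (n * n))
      rwa [h4] at this
    rw [hz]
    exact c.ker m
  commute := fun m hm => by rw [← mul_assoc, c.commute m hm, mul_assoc, c.commute m hm, mul_assoc]
  outer := by
    obtain ⟨k, hk⟩ := c.outer
    refine ⟨k, fun e => hk ?_⟩
    have h4 : n = n * n * (n * n) := by rw [← mul_assoc, c.n_three, one_mul]
    calc k * n = k * (n * n) * (n * n) := by rw [mul_assoc k, ← h4]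
      _ = n * n * k * (n * n) := by rw [e]
      _ = n * n * (n * n) * k := by rw [mul_assoc (n * n) k, e, ← mul_assoc]
      _ = n * k := by rw [← h4]
  nfix := fun v hv => by
    rw [c.smul_sq] at hv
    have h : n • v = 0 := by simpa using hv
    exact c.nfix v (by rw [show v = 0 from (smul_eq_zero_iff_eq n).1 h, smul_zero])
  derived := mul_mem c.derived c.derived

theorem pol_smul (k : K) (x y : V) : polar q (k • x) (k • y) = polar q x y := by
  simp only [polar, ← smul_add, c.isom]

theorem smul_n_comm {m : K} (hm : m ∈ M) (x : V) : m • (n • x) = n • (m • x) := by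
  rw [smul_smul, smul_smul, c.commute m hm]

end Core

/-- The five powers with exponent a square modulo eleven. -/
def sigma (a : K) (x : V) : V := a • x + a ^ 3 • x + a ^ 4 • x + a ^ 5 • x + a ^ 9 • x

/-- The sum of all powers. -/
def allSum (a : K) (x : V) : V := ∑ i ∈ Finset.range 11, a ^ i • x

theorem allSum_add (a : K) (x y : V) : allSum a (x + y) = allSum a x + allSum a y := by
  simp only [allSum, smul_add, Finset.sum_add_distrib]

theorem sigma_add (a : K) (x y : V) : sigma a (x + y) = sigma a x + sigma a y := by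
  simp only [sigma, smul_add]; abel

/-- The free part. -/
def freePart (a : K) : AddSubgroup V where
  carrier := {x | allSum a x = 0}
  zero_mem' := by simp [allSum]
  add_mem' := fun {x y} hx hy => by
    show allSum a (x + y) = 0
    rw [allSum_add, show allSum a x = 0 from hx, show allSum a y = 0 from hy, add_zero]
  neg_mem' := fun {x} hx => by
    show allSum a (-x) = 0
    simp only [allSum, smul_neg, Finset.sum_neg_distrib]
    rw [show ∑ i ∈ Finset.range 11, a ^ i • x = 0 from hx, neg_zero]

theorem mem_freePart {a : K} {x : V} : x ∈ freePart (V := V) a ↔ allSum a x = 0 := Iff.rfl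

theorem smul_allSum {a : K} (ha : a ^ 11 = 1) (x : V) : a • allSum a x = allSum a x := by
  have h := Finset.sum_range_succ' (fun i => a ^ i • x) 11
  have h2 := Finset.sum_range_succ (fun i => a ^ i • x) 11
  simp only [pow_zero, one_smul] at h
  simp only [ha, one_smul] at h2
  have e : a • allSum a x = ∑ i ∈ Finset.range 11, a ^ (i + 1) • x := by
    simp only [allSum, Finset.smul_sum, ← mul_smul, ← pow_succ']
  rw [e, allSum]
  exact add_right_cancel (h.symm.trans h2)

theorem allSum_smul {a m : K} (hm : Commute m a) (x : V) : allSum a (m • x) = m • allSum a x := by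
  simp only [allSum, Finset.smul_sum, smul_smul, (hm.symm.pow_left _).eq]

theorem allSum_fixed {a : K} {x : V} (hx : a • x = x) : allSum a x = x := by
  have hp : ∀ i, a ^ i • x = x := by
    intro i
    induction i with
    | zero => simp
    | succ i ih => rw [pow_succ, mul_smul, hx, ih]
  simp only [allSum, hp, Finset.sum_const, Finset.card_range]
  rw [show (11 : ℕ) = 2 * 5 + 1 by norm_num, succ_nsmul, mul_nsmul', two_nsmul, vadd_self, zero_add]

theorem allSum_allSum {a : K} (ha : a ^ 11 = 1) (x : V) : allSum a (allSum a x) = allSum a x :=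
  allSum_fixed (smul_allSum ha x)

theorem add_allSum_mem {a : K} (ha : a ^ 11 = 1) (x : V) : x + allSum a x ∈ freePart (V := V) a := by
  rw [mem_freePart, allSum_add, allSum_allSum ha, vadd_self]

theorem free_fixed {a : K} {x : V} (hx : x ∈ freePart (V := V) a) (h : a • x = x) : x = 0 := by
  rw [← allSum_fixed h]; exact hx

theorem card_pgroup_fixed {p : ℕ} [Fact p.Prime] {g : K} (hg : g ^ p = 1) (S : AddSubgroup V)
    (hS : ∀ x ∈ S, g • x ∈ S) :
    Nat.card ↥S ≡ Nat.card {x : ↥S // g • (x : V) = x} [MOD p] := by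
  classical
  let σ : Equiv.Perm ↥S := Equiv.ofBijective (fun x : ↥S => (⟨g • (x : V), hS _ x.2⟩ : ↥S))
    (Finite.injective_iff_bijective.1 fun x y h =>
      Subtype.ext (MulAction.injective g (congrArg Subtype.val h)))
  have hpw : ∀ (i : ℕ) (x : ↥S), (((σ ^ i) x : ↥S) : V) = g ^ i • (x : V) := by
    intro i
    induction i with
    | zero => intro x; simp
    | succ i ih =>
      intro x
      rw [pow_succ', Equiv.Perm.mul_apply, pow_succ', mul_smul, ← ih]
      rfl
  have hσ : σ ^ p ^ 1 = 1 := by
    ext x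
    rw [pow_one, hpw, hg, one_smul]
    rfl
  letI : Fintype ↥S := Fintype.ofFinite _
  have h := Equiv.Perm.card_compl_support_modEq hσ
  rw [Nat.card_eq_fintype_card, Nat.card_eq_fintype_card]
  refine h.symm.trans (congrArg (· % p) ?_)
  rw [Fintype.card_subtype]
  refine congrArg Finset.card ?_
  ext x
  simp only [Finset.mem_compl, Equiv.Perm.mem_support, not_not, Finset.mem_filter, Finset.mem_univ,
    true_and, Subtype.ext_iff]
  rfl

/-- The order of a subgroup invariant under a fixed point free element of order eleven. -/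
theorem card_free_sub {a : K} (ha : a ^ 11 = 1) (hV : Nat.card V = 4 ^ 6) (S : AddSubgroup V)
    (hS : S ≤ freePart (V := V) a) (hinv : ∀ x ∈ S, a • x ∈ S) (hne : ∃ x ∈ S, x ≠ 0) :
    Nat.card ↥S = 1024 := by
  haveI : Fact (Nat.Prime 11) := ⟨by norm_num⟩
  have h := card_pgroup_fixed ha S hinv
  have h1 : Nat.card {x : ↥S // a • (x : V) = x} = 1 := by
    rw [Nat.card_eq_one_iff_unique]
    refine ⟨⟨fun x y => ?_⟩, ⟨⟨0, by simp⟩⟩⟩
    exact Subtype.ext (Subtype.ext ((free_fixed (hS x.1.2) x.2).trans (free_fixed (hS y.1.2) y.2).symm))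
  rw [h1] at h
  have hd : Nat.card ↥S ∣ 2 ^ 12 := by
    rw [show (2 : ℕ) ^ 12 = 4 ^ 6 by norm_num, ← hV]
    exact S.card_addSubgroup_dvd_card
  obtain ⟨j, hj, e⟩ := (Nat.dvd_prime_pow Nat.prime_two).1 hd
  have hj0 : j ≠ 0 := by
    rintro rfl
    obtain ⟨x, hx, hx0⟩ := hne
    have := (Nat.card_eq_one_iff_unique.1 e).1
    exact hx0 (congrArg Subtype.val (Subsingleton.elim (⟨x, hx⟩ : ↥S) 0))
  rw [e] at h ⊢
  interval_cases j <;> simp [Nat.ModEq] at h ⊢
  all_goals omega

theorem sigma_sigma {a : K} (ha : a ^ 11 = 1) (x : V) :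
    sigma a (sigma a x) + sigma a x + x = allSum a x := by
  have h2 : ∀ i : ℕ, a ^ i = a ^ (i % 11) := fun i => pow_eq_pow_mod i ha
  have hp : ∀ (i j : ℕ) (y : V), a ^ i • (a ^ j • y) = a ^ (i + j) • y := fun i j y => by
    rw [smul_smul, ← pow_add]
  have hp1 : ∀ (j : ℕ) (y : V), a • (a ^ j • y) = a ^ (1 + j) • y := fun j y => by rw [← hp, pow_one]
  have hp2 : ∀ (i : ℕ) (y : V), a ^ i • (a • y) = a ^ (i + 1) • y := fun i y => by rw [← hp, pow_one]
  have hp3 : ∀ y : V, a • (a • y) = a ^ 2 • y := fun y => by rw [pow_two, mul_smul]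
  simp only [sigma, smul_add, hp, hp1, hp2, hp3, Nat.reduceAdd]
  rw [h2 12, h2 13, h2 14, h2 18]
  simp only [allSum, Finset.sum_range_succ, Finset.sum_range_zero, zero_add, pow_zero, one_smul, pow_one,
    Nat.reduceMod]
  abel_nf
  simp [fun y : V => (zsmul_small y).1, fun y : V => (zsmul_small y).2.1,
    fun y : V => (zsmul_small y).2.2.1, fun y : V => (zsmul_small y).2.2.2.1, fun y : V => (zsmul_small y).2.2.2.2]

/-- The value of the minimal polynomial of degree five. -/
def pOp (n a : K) (x : V) : V :=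
  x + n • (a • x) + a ^ 2 • x + a ^ 3 • x + (n * n) • (a ^ 4 • x) + a ^ 5 • x

theorem Core.pOp_eq_zero (c : Core q n M φ) {a : K} (haM : a ∈ M) (ha : a ^ 11 = 1) {x : V}
    (hx : x ∈ freePart (V := V) a) (hs : sigma a x = (n * n) • x) : pOp n a x = 0 := by
  have key : pOp n a (sigma a x + (n * n) • x) = pOp n a x + (n * n) • allSum a x := by
    have h2 : ∀ i : ℕ, a ^ i = a ^ (i % 11) := fun i => pow_eq_pow_mod i ha
    have hn : ∀ (i : ℕ) (y : V), a ^ i • (n • y) = n • (a ^ i • y) := fun i y =>
      c.smul_n_comm (pow_mem haM i) y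
    have hn1 : ∀ y : V, a • (n • y) = n • (a • y) := fun y => c.smul_n_comm haM y
    have hp : ∀ (i j : ℕ) (y : V), a ^ i • (a ^ j • y) = a ^ (i + j) • y := fun i j y => by
      rw [smul_smul, ← pow_add]
    have hp1 : ∀ (j : ℕ) (y : V), a • (a ^ j • y) = a ^ (1 + j) • y := fun j y => by rw [← hp, pow_one]
    have hp2 : ∀ (i : ℕ) (y : V), a ^ i • (a • y) = a ^ (i + 1) • y := fun i y => by rw [← hp, pow_one]
    have hp3 : ∀ y : V, a • (a • y) = a ^ 2 • y := fun y => by rw [pow_two, mul_smul]
    simp only [pOp, sigma, c.smul_sq, smul_add, hn, hn1, c.smul_nn, hp, hp1, hp2, hp3, Nat.reduceAdd,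
      allSum, Finset.sum_range_succ, Finset.sum_range_zero, zero_add, pow_zero, one_smul, pow_one]
    rw [h2 11, h2 12, h2 13, h2 14]
    simp only [Nat.reduceMod, pow_zero, pow_one, mul_one, one_smul]
    abel_nf
    simp [fun y : V => (zsmul_small y).1, fun y : V => (zsmul_small y).2.1,
    fun y : V => (zsmul_small y).2.2.1, fun y : V => (zsmul_small y).2.2.2.1, fun y : V => (zsmul_small y).2.2.2.2]
  rw [hs, vadd_self, show allSum a x = 0 from hx, smul_zero, add_zero] at key
  rw [← key]
  simp [pOp]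

end CfsgLib.JankoFour
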