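import Cfsg.Agent.Lib.JankoFour.Rigid.Apply
import Cfsg.Agent.Lib.JankoFour.Rigid.OrbitData

/-!
# Kernel checks on the orbits of singular vectors and on a stabiliser
-/

set_option autoImplicit false
set_option maxRecDepth 100000
set_option Elab.async false

namespace CfsgLib.JankoFour.Rigid

/-- Grow a bit set along tree edges. -/
def grow : List ℕ → ℕ → ℕ
  | [], seen => seen
  | e :: rest, seen =>
    if seen.testBit (e / 8) then grow rest (seen ||| 2 ^ app (gensL.getD (e % 8) mI) (e / 8)) else 0

/-- Closed under the five matrices. -/
def closedSet (S : ℕ) : Bool :=
  (List.range 4096).all fun x => !S.testBit x || gensL.all fun g => S.testBit (app g x)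

theorem orbit693_checks :
    (grow tree693 (2 ^ root693) == cls693) = true ∧ closedSet cls693 = true ∧
      (((List.range 4096).filter fun x => cls693.testBit x).length == 693) = true := by
  refine ⟨?_, ?_, ?_⟩ <;> decide +kernel

theorem orbit1386_checks :
    (grow tree1386 (2 ^ root1386) == cls1386) = true ∧ closedSet cls1386 = true ∧
      (((List.range 4096).filter fun x => cls1386.testBit x).length == 1386) = true := by
  refine ⟨?_, ?_, ?_⟩ <;> decide +kernel

theorem singular_checks :
    ((List.range 4096).all fun x => (x == 0) || quad x || cls693.testBit x || cls1386.testBit x) = true := by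
  decide +kernel

theorem stab_gen_checks :
    (stabWords.map wordG == stabGens) = true ∧ (stabGens.all fun g => app g root1386 == root1386) = true ∧
    (app (wordG witWord) root1386 == root1386) = true ∧ (comp (wordG witInvWord) (wordG witWord) == mI) = true := by
  refine ⟨?_, ?_, ?_, ?_⟩ <;> decide +kernel

theorem stab_list_checks :
    (stabList.getD 0 [] == mI) = true ∧
    ((List.range 127).all fun k => let e := stabTree.getD k 0
      Nat.blt (e / 8) (k + 1) && Nat.blt (e % 8) stabGens.length &&
        (stabList.getD (k + 1) [] == comp (stabGens.getD (e % 8) mI) (stabList.getD (e / 8) []))) = true ∧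
    (stabList.all fun y => stabGens.all fun g => stabList.contains (comp g y)) = true ∧
    ((stabList.length == 128) && decide stabList.Nodup) = true := by
  refine ⟨?_, ?_, ?_, ?_⟩ <;> decide +kernel

theorem stab_wit_checks :
    (let g := wordG witWord; let gi := wordG witInvWord
      stabList.all fun y => !(comp y y == mI) || (comp y mW == comp mW y) ||
        !(comp (comp g (comp y gi)) y == comp y (comp g (comp y gi)))) = true := by
  decide +kernel

end CfsgLib.JankoFour.Rigid
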