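import Cfsg.Agent.Lib.JankoFour.Rigid.Rig
import Cfsg.Agent.Lib.JankoFour.Rigid.Basic
import Cfsg.Agent.Lib.JankoFour.Rigid.OrbitCheck

/-!
# The two orbits of singular vectors, and the stabiliser of a vector of the long orbit
-/

set_option autoImplicit false
set_option linter.unusedSectionVars false

namespace CfsgLib.JankoFour

open Subgroup QuadraticMap
open CfsgLib.LargeFischer (CentData Central perpSub perpSub_card vadd_self q_add q_zero z2_cases)

variable {V : Type*} [AddCommGroup V] [Module (ZMod 2) V] [Finite V]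
  {K : Type*} [Group K] [Finite K] [DistribMulAction K V]
  {q : QuadraticForm (ZMod 2) V} {n : K} {M : Subgroup K} {crd : ℕ → V} {a f u t : K}

namespace Rig

variable (R : Rig q n M crd a f u t)

include R

theorem orbit_eq_set {root : ℕ} {tree : List ℕ} {cls : ℕ} (hr : root < 4096)
    (hg : (Rigid.grow tree (2 ^ root) == cls) = true) (hc : Rigid.closedSet cls = true)
    (h0 : cls.testBit root = true) :
    MulAction.orbit K (crd root) = crd '' {x | x < 4096 ∧ cls.testBit x = true} := by
  apply Set.Subset.antisymm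
  · rintro _ ⟨k, rfl⟩
    obtain ⟨y, hy, hS, e⟩ := R.invariant (S := fun x => cls.testBit x = true) (fun g hg' x hx h => by
      have := List.all_eq_true.1 hc x (List.mem_range.2 hx)
      rw [h, Bool.not_true, Bool.false_or] at this
      exact List.all_eq_true.1 this g hg') k hr h0
    exact ⟨y, ⟨hy, hS⟩, e.symm⟩
  · have key : ∀ (tr : List ℕ) (seen : ℕ),
        (∀ x, seen.testBit x = true → crd x ∈ MulAction.orbit K (crd root)) →
        ∀ x, (Rigid.grow tr seen).testBit x = true → crd x ∈ MulAction.orbit K (crd root) := by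
      intro tr
      induction tr with
      | nil => intro seen h x hx; exact h x hx
      | cons e rest ih =>
        intro seen h x hx
        simp only [Rigid.grow] at hx
        split_ifs at hx with he
        · refine ih _ (fun y hy => ?_) x hx
          rw [Nat.testBit_or, Bool.or_eq_true] at hy
          rcases hy with hy | hy
          · exact h y hy
          · rw [Nat.testBit_two_pow, decide_eq_true_eq] at hy
            subst hy
            obtain ⟨g, hgact⟩ : ∃ g : K, Acts crd g (Rigid.gensL.getD (e % 8) Rigid.mI) := by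
              match e % 8 with
              | 0 => exact ⟨a, R.actA⟩
              | 1 => exact ⟨f, R.actF⟩
              | 2 => exact ⟨u, R.actU⟩
              | 3 => exact ⟨n, R.actN⟩
              | 4 => exact ⟨t, R.actT⟩
              | i + 5 => exact ⟨1, R.acts_one⟩
            obtain ⟨k, hk⟩ := h _ he
            exact ⟨g * k, by simp only at hk ⊢; rw [mul_smul, hk, hgact]⟩
        · simp at hx
    rintro _ ⟨x, ⟨-, hx⟩, rfl⟩
    rw [← eq_of_beq hg] at hx
    refine key tree _ (fun y hy => ?_) x hx
    rw [Nat.testBit_two_pow, decide_eq_true_eq] at hy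
    subst hy
    exact MulAction.mem_orbit_self _

theorem cls_ncard {cls N : ℕ}
    (h : (((List.range 4096).filter fun x => cls.testBit x).length == N) = true) :
    (crd '' {x | x < 4096 ∧ cls.testBit x = true}).ncard = N := by
  have e : {x | x < 4096 ∧ cls.testBit x = true} =
      ↑((List.range 4096).filter fun x => cls.testBit x).toFinset := by ext x; simp
  rw [Set.InjOn.ncard_image (fun x hx y hy he => R.inj x y hx.1 hy.1 he), e, Set.ncard_coe_finset,
    List.toFinset_card_of_nodup (List.nodup_range.filter _)]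
  exact eq_of_beq h

theorem orbit693 : MulAction.orbit K (crd Rigid.root693) = crd '' {x | x < 4096 ∧ Rigid.cls693.testBit x = true} :=
  R.orbit_eq_set (by decide) Rigid.orbit693_checks.1 Rigid.orbit693_checks.2.1 (by decide +kernel)

theorem orbit1386 :
    MulAction.orbit K (crd Rigid.root1386) = crd '' {x | x < 4096 ∧ Rigid.cls1386.testBit x = true} :=
  R.orbit_eq_set (by decide) Rigid.orbit1386_checks.1 Rigid.orbit1386_checks.2.1 (by decide +kernel)

theorem orbit693_card : (MulAction.orbit K (crd Rigid.root693)).ncard = 693 := by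
  rw [R.orbit693, R.cls_ncard Rigid.orbit693_checks.2.2]

theorem orbit1386_card : (MulAction.orbit K (crd Rigid.root1386)).ncard = 1386 := by
  rw [R.orbit1386, R.cls_ncard Rigid.orbit1386_checks.2.2]

theorem orbit_two (v : V) (hv : v ≠ 0) (hq : q v = 0) :
    v ∈ MulAction.orbit K (crd Rigid.root693) ∨ v ∈ MulAction.orbit K (crd Rigid.root1386) := by
  obtain ⟨x, hx, rfl⟩ := R.surj v
  have h := List.all_eq_true.1 Rigid.singular_checks x (List.mem_range.2 hx)
  simp only [Bool.or_eq_true, beq_iff_eq] at h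
  rcases h with ((h | h) | h) | h
  · exact absurd (h ▸ R.crd_zero) hv
  · rw [R.q_crd, h] at hq; exact absurd hq (by decide)
  · exact .inl (R.orbit693 ▸ ⟨x, ⟨hx, h⟩, rfl⟩)
  · exact .inr (R.orbit1386 ▸ ⟨x, ⟨hx, h⟩, rfl⟩)

theorem orbit_cases (v : V) (hv : v ≠ 0) (hq : q v = 0) :
    (MulAction.orbit K v).ncard = 693 ∨ (MulAction.orbit K v).ncard = 1386 := by
  rcases R.orbit_two v hv hq with h | h <;> rw [MulAction.orbit_eq_iff.2 h]
  · exact .inl R.orbit693_card
  · exact .inr R.orbit1386_card

theorem orbit_eq (v w : V) (hv : v ≠ 0) (hqv : q v = 0) (hw : w ≠ 0) (hqw : q w = 0)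
    (he : (MulAction.orbit K v).ncard = (MulAction.orbit K w).ncard) : w ∈ MulAction.orbit K v := by
  rcases R.orbit_two v hv hqv with h | h <;> rcases R.orbit_two w hw hqw with h' | h' <;>
    rw [MulAction.orbit_eq_iff.2 h]
  · exact h'
  · rw [MulAction.orbit_eq_iff.2 h, MulAction.orbit_eq_iff.2 h', R.orbit693_card, R.orbit1386_card] at he
    omega
  · rw [MulAction.orbit_eq_iff.2 h, MulAction.orbit_eq_iff.2 h', R.orbit693_card, R.orbit1386_card] at he
    omega
  · exact h'

theorem stab_element (i : ℕ) : ∃ g : K, Acts crd g (Rigid.stabGens.getD i Rigid.mI) ∧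
    g • crd Rigid.root1386 = crd Rigid.root1386 ∧
    (i < Rigid.stabGens.length → g ∈ Subgroup.closure {g : K | ∃ l ∈ Rigid.stabGens, Acts crd g l}) := by
  rcases lt_or_ge i Rigid.stabGens.length with hi | hi
  · obtain ⟨h1, h2, -, -⟩ := Rigid.stab_gen_checks
    have hg : ∃ g : K, Acts crd g (Rigid.stabGens.getD i Rigid.mI) := by
      refine ⟨wordK a f u n t (Rigid.stabWords.getD i []), ?_⟩
      rw [← eq_of_beq h1, show Rigid.mI = Rigid.wordG [] from rfl, List.getD_map]
      exact R.acts_word _
    obtain ⟨g, hg⟩ := hg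
    refine ⟨g, hg, ?_, fun _ => Subgroup.subset_closure ⟨_, ?_, hg⟩⟩
    · rw [hg, List.getD_eq_getElem _ _ hi]
      exact congrArg crd (eq_of_beq (List.all_eq_true.1 h2 _ (List.getElem_mem hi)))
    · rw [List.getD_eq_getElem _ _ hi]; exact List.getElem_mem hi
  · refine ⟨1, ?_, one_smul _ _, fun h => absurd h (by omega)⟩
    rw [List.getD_eq_default _ _ hi]
    exact R.acts_one

/-- The listed group is a group of order 128 fixing the vector of the long orbit. -/
theorem exists_stab_sylow : ∃ P : Subgroup K, Nat.card ↥P = 128 ∧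
    (∀ g ∈ P, g • crd Rigid.root1386 = crd Rigid.root1386) ∧
    ∀ g ∈ P, ∃ y ∈ Rigid.stabList, Acts crd g y := by
  classical
  set S : Set K := {g : K | ∃ l ∈ Rigid.stabGens, Acts crd g l} with hS
  obtain ⟨hl0, htree, hclosed, hlen⟩ := Rigid.stab_list_checks
  simp only [Bool.and_eq_true, beq_iff_eq, decide_eq_true_eq] at hlen
  have hsub : ∀ g ∈ closure S, ∃ y ∈ Rigid.stabList, Acts crd g y := by
    intro g hg
    have hg' : g ∈ (closure S).toSubmonoid := hg
    clear hg
    rw [Subgroup.closure_toSubmonoid_of_finite] at hg'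
    induction hg' using Submonoid.closure_induction_left with
    | one =>
      refine ⟨_, ?_, R.acts_one⟩
      rw [← eq_of_beq hl0, List.getD_eq_getElem _ _ (by rw [hlen.1]; norm_num)]
      exact List.getElem_mem _
    | mul_left x hx y hy ih =>
      obtain ⟨l, hl, hxl⟩ := hx
      obtain ⟨z, hz, hyz⟩ := ih
      exact ⟨_, List.contains_iff_mem.1 (List.all_eq_true.1 (List.all_eq_true.1 hclosed z hz) l hl), hxl.mul hyz⟩
  have hall : ∀ k, k < 128 → ∃ g ∈ closure S, Acts crd g (Rigid.stabList.getD k []) := by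
    intro k
    induction k using Nat.strong_induction_on with
    | _ k ih =>
      intro hk
      rcases k with _ | k
      · exact ⟨1, one_mem _, (eq_of_beq hl0).symm ▸ R.acts_one⟩
      · have h := List.all_eq_true.1 htree k (List.mem_range.2 (by omega))
        simp only [Bool.and_eq_true, beq_iff_eq] at h
        have h1 := Nat.le_of_ble_eq_true h.1.1
        have h2 := Nat.le_of_ble_eq_true h.1.2
        obtain ⟨g, hg, hga⟩ := ih (Rigid.stabTree.getD k 0 / 8) (by omega) (by omega)
        obtain ⟨x, hx, -, hxm⟩ := R.stab_element (Rigid.stabTree.getD k 0 % 8)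
        exact ⟨x * g, mul_mem (hxm (by omega)) hg, h.2 ▸ hx.mul hga⟩
  have hfix : ∀ g ∈ closure S, g • crd Rigid.root1386 = crd Rigid.root1386 := fun g hg => by
    have hle : closure S ≤ MulAction.stabilizer K (crd Rigid.root1386) := by
      rw [closure_le]
      rintro x ⟨l, hl, hxl⟩
      show x • crd Rigid.root1386 = _
      rw [hxl]
      exact congrArg crd (eq_of_beq (List.all_eq_true.1 Rigid.stab_gen_checks.2.1 l hl))
    exact hle hg
  refine ⟨closure S, ?_, hfix, hsub⟩
  choose y hy hya using hsub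
  choose g hg hga using hall
  let F : Fin 128 → ↥(closure S) := fun k => ⟨g k k.2, hg k k.2⟩
  have hinj : Function.Injective F := by
    intro i j e
    have hi : (i : ℕ) < Rigid.stabList.length := by rw [hlen.1]; exact i.2
    have hj : (j : ℕ) < Rigid.stabList.length := by rw [hlen.1]; exact j.2
    have hval : ∀ l ∈ Rigid.stabList, Rigid.Valid l = true := fun l hl =>
      List.all_eq_true.1 (show Rigid.stabList.all Rigid.Valid = true by decide +kernel) l hl
    have h1 := hga i i.2
    have h2 := hga j j.2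
    rw [show g i i.2 = g j j.2 from congrArg Subtype.val e] at h1
    rw [List.getD_eq_getElem _ _ hi] at h1
    rw [List.getD_eq_getElem _ _ hj] at h2
    exact Fin.ext ((hlen.2.getElem_inj_iff).1
      (R.acts_ext (hval _ (List.getElem_mem hi)) (hval _ (List.getElem_mem hj)) h1 h2))
  have hsurj : Function.Surjective F := by
    intro x
    obtain ⟨i, hi, hiy⟩ := List.mem_iff_getElem.1 (hy x x.2)
    rw [hlen.1] at hi
    refine ⟨⟨i, hi⟩, Subtype.ext (R.acts_unique (hga i hi) ?_)⟩
    rw [List.getD_eq_getElem _ _ (by rw [hlen.1]; exact hi), hiy]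
    exact hya x x.2
  rw [← Nat.card_eq_of_bijective F ⟨hinj, hsurj⟩, Nat.card_fin]

theorem stab_card : Nat.card ↥(MulAction.stabilizer K (crd Rigid.root1386)) = 1920 := by
  have h := (MulAction.stabilizer K (crd Rigid.root1386)).card_mul_index
  rw [MulAction.index_stabilizer, R.orbit1386_card, R.cardK] at h
  omega

/-- The stabiliser of a vector of the long orbit has no normal elementary group meeting the outside of `M`. -/
theorem normal_le {E : Subgroup K} (hel : Cfsg.IsElementaryAbelian 2 E)
    (hfix : ∀ e ∈ E, e • crd Rigid.root1386 = crd Rigid.root1386)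
    (hnorm : ∀ k : K, k • crd Rigid.root1386 = crd Rigid.root1386 → ∀ e ∈ E, k * e * k⁻¹ ∈ E) : E ≤ M := by
  obtain ⟨φ, c⟩ := R.core
  obtain ⟨P, hP, hPfix, hPl⟩ := R.exists_stab_sylow
  have hEP : IsPGroup 2 ↥(E ⊔ P) := by
    refine IsPGroup.to_sup_of_normal_left' (p := 2) ?_ (IsPGroup.of_card (n := 7) (by rw [hP]; norm_num)) ?_
    · exact fun x => ⟨1, Subtype.ext (by simpa using hel.2 x x.2)⟩
    · intro k hk
      have hk' : k⁻¹ ∈ P := inv_mem hk
      rw [Subgroup.mem_normalizer_iff]
      intro e
      refine ⟨hnorm k (hPfix k hk) e, fun h => ?_⟩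
      have := hnorm k⁻¹ (hPfix _ hk') _ h
      simpa [mul_assoc] using this
  obtain ⟨m, hm⟩ := IsPGroup.iff_card.1 hEP
  have hle : E ⊔ P ≤ MulAction.stabilizer K (crd Rigid.root1386) :=
    sup_le (fun e he => hfix e he) fun g hg => hPfix g hg
  have hdvd := Subgroup.card_dvd_of_le hle
  rw [R.stab_card, hm] at hdvd
  have hm7 : m ≤ 7 := by
    by_contra h
    have : 2 ^ 8 ∣ 1920 := dvd_trans (pow_dvd_pow 2 (by omega)) hdvd
    norm_num at this
  have heq : P = E ⊔ P := Subgroup.eq_of_le_of_card_ge le_sup_right (by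
    rw [hP, hm]; exact le_trans (Nat.pow_le_pow_right (by norm_num) hm7) (by norm_num))
  intro e he
  by_contra heM
  obtain ⟨y, hy, hey⟩ := hPl e (heq ▸ Subgroup.mem_sup_left he)
  have he2 : e * e = 1 := by rw [← pow_two]; exact hel.2 e he
  obtain ⟨-, -, hw, hwi⟩ := Rigid.stab_gen_checks
  set g := wordK a f u n t Rigid.witWord with hgdef
  have hg := R.acts_word Rigid.witWord
  have hgi := R.acts_word Rigid.witInvWord
  have hinv : wordK a f u n t Rigid.witInvWord * g = 1 :=
    R.acts_unique ((eq_of_beq hwi) ▸ hgi.mul hg) R.acts_one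
  rw [eq_inv_of_mul_eq_one_left hinv] at hgi
  have hgfix : g • crd Rigid.root1386 = crd Rigid.root1386 := by rw [hg, eq_of_beq hw]
  have hcomm : (g * e * g⁻¹) * e = e * (g * e * g⁻¹) := by
    have := hel.1
    exact congrArg Subtype.val (mul_comm' (⟨_, hnorm g hgfix e he⟩ : ↥E) ⟨e, he⟩)
  have hyv : Rigid.Valid y = true :=
    List.all_eq_true.1 (show Rigid.stabList.all Rigid.Valid = true by decide +kernel) y hy
  have hgv := Rigid.wordG_valid Rigid.witWord
  have hgiv := Rigid.wordG_valid Rigid.witInvWord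
  have h := List.all_eq_true.1 Rigid.stab_wit_checks y hy
  simp only [Bool.or_eq_true, Bool.not_eq_true', beq_iff_eq, beq_eq_false_iff_ne, ne_eq] at h
  rcases h with (h | h) | h
  · refine h (R.acts_ext (Rigid.comp_valid hyv hyv) (by decide) (he2 ▸ hey.mul hey) R.acts_one)
  · have hW : Rigid.Valid Rigid.mW = true := by decide
    have : e * n = n * e := R.acts_unique (h ▸ hey.mul R.actN) (R.actN.mul hey)
    have h2 := c.flip heM
    rw [this, mul_assoc, mul_inv_cancel, mul_one] at h2
    exact c.n_ne (left_eq_mul.1 h2)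
  · have hc := (hg.mul (hey.mul hgi))
    rw [← mul_assoc] at hc
    refine h (R.acts_ext (Rigid.comp_valid (Rigid.comp_valid hgv (Rigid.comp_valid hyv hgiv)) hyv)
      (Rigid.comp_valid hyv (Rigid.comp_valid hgv (Rigid.comp_valid hyv hgiv))) (hcomm ▸ hc.mul hey) (hey.mul hc))

theorem totSing_card {D : AddSubgroup V} (hD : ∀ d ∈ D, q d = 0) : Nat.card ↥D ≤ 64 := by
  obtain ⟨φ, c⟩ := R.core
  have hle : D ≤ perpSub q D := fun x hx y hy => by
    rw [polar, hD _ (add_mem hx hy), hD x hx, hD y hy]; decide
  have h := perpSub_card q c.nondeg D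
  rw [c.cardV] at h
  have h2 : Nat.card ↥D ≤ Nat.card ↥(perpSub q D) :=
    Nat.card_le_card_of_injective _ (AddSubgroup.inclusion_injective hle)
  nlinarith

theorem cent_orbit (hle : ∀ A : Subgroup K, A ≤ M → Cfsg.IsElementaryAbelian 2 A → Nat.card ↥A ≤ 16)
    (s : V) (E : Subgroup K) (D : AddSubgroup V) (hs : s ≠ 0) (h : CentData q s E D) :
    (MulAction.orbit K s).ncard = 693 := by
  obtain ⟨φ, c⟩ := R.core
  rcases R.orbit_cases s hs (h.sing s h.mem) with h1 | h1
  · exact h1
  exfalso
  have hr0 : crd Rigid.root1386 ≠ 0 := by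
    rw [Ne, R.crd_eq_zero (by decide)]; decide
  have hrq : q (crd Rigid.root1386) = 0 := by
    rw [R.q_crd, show Rigid.quad Rigid.root1386 = false by decide +kernel]; rfl
  obtain ⟨k, hk⟩ := R.orbit_eq _ _ hs (h.sing s h.mem) hr0 hrq (h1.trans R.orbit1386_card.symm)
  simp only at hk
  have hnm : M.Normal := Subgroup.normal_of_index_eq_two c.indexM
  let E' : Subgroup K := E.map (MulAut.conj k).toMonoidHom
  have hE' : ∀ x, x ∈ E' ↔ k⁻¹ * x * k ∈ E := fun x => by
    constructor
    · rintro ⟨e, he, rfl⟩; simpa [mul_assoc] using he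
    · intro hx; exact ⟨_, hx, by simp [mul_assoc]⟩
  have hle' : E' ≤ M := by
    refine R.normal_le ⟨?_, ?_⟩ ?_ ?_
    · refine ⟨⟨fun x y => Subtype.ext ?_⟩⟩
      obtain ⟨e1, he1, h1⟩ := x.2
      obtain ⟨e2, he2, h2⟩ := y.2
      haveI := h.elem.1
      have h12 : e1 * e2 = e2 * e1 := congrArg Subtype.val (mul_comm' (⟨e1, he1⟩ : ↥E) ⟨e2, he2⟩)
      show (x : K) * y = y * x
      rw [← h1, ← h2, ← map_mul, ← map_mul, h12]
    · rintro _ ⟨e, he, rfl⟩
      rw [← map_pow, h.elem.2 e he, map_one]
    · rintro x hx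
      have := h.fix _ ((hE' x).1 hx)
      rw [mul_smul, mul_smul, hk, inv_smul_eq_iff, hk] at this
      exact this
    · intro g hg e he
      rw [hE'] at he ⊢
      have hs' : (k⁻¹ * g * k) • s = s := by rw [mul_smul, mul_smul, hk, hg, ← hk, inv_smul_smul]
      have := h.normal _ hs' _ he
      convert this using 1
      group
  have hEM : E ≤ M := fun e he => by
    have := hnm.conj_mem _ (hle' ((hE' (k * e * k⁻¹)).2 (by simpa [mul_assoc] using he))) k⁻¹
    simpa [mul_assoc] using this
  have h3 := hle E hEM h.elem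
  have h4 := R.totSing_card h.sing
  have := h.card
  nlinarith

end Rig

end CfsgLib.JankoFour
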