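import Cfsg.Agent.Lib.JankoFour.Rigid.Exists
import Cfsg.Agent.Lib.JankoFour.Rigid.Orbit
import Cfsg.Agent.Lib.JankoFour.Rigid.Flip
import Cfsg.Agent.Lib.JankoFour.Rigid.HexadFacts

/-!
# The facts of the setting, from the rigid model
-/

set_option autoImplicit false
set_option linter.unusedSectionVars false

namespace CfsgLib.JankoFour

variable {V : Type*} [AddCommGroup V] [Module (ZMod 2) V] [Finite V]
  {K : Type*} [Group K] [Finite K] [DistribMulAction K V]
  {q : QuadraticForm (ZMod 2) V} {n : K} {M : Subgroup K} {φ : ↥M →* ↥Cfsg.Spor.M22}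
  {crd : ℕ → V} {a f u t : K}

theorem Rig.facts (R : Rig q n M crd a f u t) : Facts q n M where
  elem_le := R.elem_le
  orbit_cases := R.orbit_cases
  orbit_eq := R.orbit_eq
  cent_orbit := R.cent_orbit R.elem_le
  exists_hex := R.exists_hex
  big_class := R.big_class
  hex_unique := R.hex_unique
  nc_hex := R.nc_hex
  inv_hex := R.inv_hex
  inv_conj := R.inv_conj

theorem Core.facts (c : Core q n M φ) : Facts q n M := by
  obtain ⟨n', crd, a, f, u, t, hn, R⟩ := c.exists_rig
  rcases hn with rfl | rfl
  · exact R.facts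
  · have h := R.facts.sq c.symm
    rwa [c.n_four] at h

end CfsgLib.JankoFour
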