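import Cfsg.Agent.Lib.JankoFour.Rigid.CheckFilter

/-!
The pairs of candidates: either not orthogonal, or the test on one vector fails, or a known map.
-/

set_option autoImplicit false
set_option maxRecDepth 100000
set_option Elab.async false

namespace CfsgLib.JankoFour.Rigid

/-- The cheap form of the last filter. -/
def pairOk (x w : ℕ) : Bool :=
  let im := orbMats.map fun g => app g x
  let wW := app mW w
  !(im.all fun a => !polT a w && !polT a wW) ||
    (let U := mkU im w
     let p := app mA (app U (app mA (app U (app mA (app U (app mA (app U (app mA (app U 1)))))))))
     !(p == 1 || p == 2 || p == 3) || uLit.contains U)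

/-- One chunk of the pairs. -/
def pairChunk (k : ℕ) : Bool := ((xLit.drop (10 * k)).take 10).all fun x => wLit.all fun w => pairOk x w

theorem pair_chunk0 : pairChunk 0 = true := by decide +kernel
theorem pair_chunk1 : pairChunk 1 = true := by decide +kernel
theorem pair_chunk2 : pairChunk 2 = true := by decide +kernel
theorem pair_chunk3 : pairChunk 3 = true := by decide +kernel
theorem pair_chunk4 : pairChunk 4 = true := by decide +kernel
theorem pair_chunk5 : pairChunk 5 = true := by decide +kernel
theorem pair_chunk6 : pairChunk 6 = true := by decide +kernel
theorem pair_chunk7 : pairChunk 7 = true := by decide +kernel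
theorem pair_chunk8 : pairChunk 8 = true := by decide +kernel

end CfsgLib.JankoFour.Rigid
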