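import Cfsg.Agent.Lib.JankoFour.Rigid.Apply
import Cfsg.Agent.Lib.JankoFour.Rigid.CheckPair

/-!
The check of the candidates, assembled from the chunks.
-/

set_option autoImplicit false
set_option maxRecDepth 100000
set_option Elab.async false

namespace CfsgLib.JankoFour.Rigid

theorem orbMats_eq : (((List.range 5).map fun i => mpow mF (2 * i)) == orbMats) = true := by decide +kernel

theorem uLit_eq : (uClass == uLit) = true := by decide +kernel

theorem tab_facts :
    (List.all [mA, mF, mW] Valid) = true ∧ orbBase.all (fun b => Nat.blt b 4096) = true ∧ orbBase.getD 0 0 = 4 ∧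
      app (mpow mW 2) 1 = 3 ∧ app mW 1 = 2 ∧ app mI 1 = 1 ∧ app (mpow mF (2 * 0)) 7 = 7 ∧ mpow mF (2 * 0) = mI := by
  decide +kernel

theorem orbIm_eq (x : ℕ) : orbIm x = orbMats.map fun g => app g x := by
  rw [← eq_of_beq orbMats_eq, List.map_map]
  rfl

theorem valid_mpow {g : List ℕ} (hg : Valid g = true) : ∀ k, Valid (mpow g k) = true
  | 0 => show Valid mI = true by decide
  | k + 1 => comp_valid hg (valid_mpow hg k)

theorem quad_pol_tab {x y : ℕ} (hx : x < 4096) (hy : y < 4096) : pol x y = polT x y := by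
  rw [pol, polT, quad_eq_tab hx, quad_eq_tab hy, quad_eq_tab (Nat.xor_lt_two_pow (n := 12) hx hy)]

theorem scalar_app {g : List ℕ} (h : isScalar g = true) : app g 1 = 1 ∨ app g 1 = 2 ∨ app g 1 = 3 := by
  obtain ⟨-, -, -, h3, h2, h1, -⟩ := tab_facts
  simp only [isScalar, Bool.or_eq_true, beq_iff_eq] at h
  rcases h with (h | h) | h <;> subst h
  · exact .inl h1
  · exact .inr (.inl h2)
  · refine .inr (.inr ?_)
    rw [← app_comp, show app mW (app mW 1) = app (mpow mW 2) 1 by
      simp only [mpow, ← app_comp, h1]]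
    exact h3

theorem goodX_row {x : ℕ} (hx : x < 4096) (h : goodX x = true) : goodRow x = true := by
  obtain ⟨hv, hb, h4, -, -, -, -, hF0⟩ := tab_facts
  simp only [List.all_cons, List.all_nil, Bool.and_eq_true, Bool.and_true] at hv
  simp only [goodX, Bool.and_eq_true, List.all_eq_true, List.mem_range, beq_iff_eq] at h
  have hx0 : (orbIm x).getD 0 0 = x := by
    show app (mpow mF (2 * 0)) x = x
    rw [hF0, app_mI, Nat.mod_eq_of_lt hx]
  have him : ∀ j < 5, (orbIm x).getD j 0 = app (orbMats.getD j []) x := fun j hj => by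
    have hl : orbMats.length = 5 := rfl
    rw [orbIm_eq, List.getD_eq_getElem _ _ (by simp [hl, hj]), List.getElem_map,
      List.getD_eq_getElem _ _ (by rw [hl]; exact hj)]
  have hlt : ∀ j < 5, app (orbMats.getD j []) x < 4096 := fun j hj => by
    rw [← him j hj, orbIm, List.getD_eq_getElem _ _ (by simp [hj]), List.getElem_map]
    exact app_lt (valid_mpow hv.2.1 _) x
  have hbl : ∀ j, orbBase.getD j 0 < 4096 := fun j => by
    rcases lt_or_ge j orbBase.length with g | g
    · rw [List.getD_eq_getElem _ _ g]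
      exact Nat.le_of_ble_eq_true (List.all_eq_true.1 hb _ (List.getElem_mem g))
    · rw [List.getD_eq_default _ _ g]; norm_num
  simp only [goodRow, Bool.and_eq_true, List.all_eq_true, List.mem_range, beq_iff_eq]
  refine ⟨?_, fun j hj => ?_⟩
  · have := (h.2 0 (by norm_num) 0 (by norm_num)).2
    rw [hx0, h4, quad_eq_tab hx, quad_eq_tab (by norm_num : 4 < 4096)] at this
    rw [this]; decide +kernel
  · obtain ⟨⟨h1, h2⟩, -⟩ := h.2 0 (by norm_num) j hj
    rw [hx0, him j hj, h4] at h1 h2
    rw [quad_pol_tab hx (hlt j hj), quad_pol_tab (by norm_num) (hbl j)] at h1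
    rw [quad_pol_tab hx (app_lt hv.2.2 _), quad_pol_tab (by norm_num) (app_lt hv.2.2 _)] at h2
    exact ⟨h1, h2⟩

theorem goodW_row {w : ℕ} (hw : w < 4096) (h : goodW w = true) : w ∈ wLit := by
  simp only [goodW, Bool.and_eq_true, beq_iff_eq] at h
  have h2 := List.all_eq_true.1 wLit_check w (List.mem_range.2 hw)
  have e : orbMats.getD 1 [] = mpow mF 2 := by rw [← eq_of_beq orbMats_eq]; rfl
  rw [← quad_eq_tab hw, h.2, e, h.1] at h2
  simp only [beq_self_eq_true, Bool.not_true, Bool.false_or] at h2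
  exact List.contains_iff_mem.1 h2

theorem pair_all {x w : ℕ} (hx : x ∈ xLit) (hw : w ∈ wLit) : pairOk x w = true := by
  obtain ⟨i, hi, rfl⟩ := List.mem_iff_getElem.1 hx
  have hl : xLit.length = 90 := rfl
  have hmem : ∀ k, i / 10 = k → xLit[i] ∈ (xLit.drop (10 * k)).take 10 := fun k hk => by
    refine List.mem_iff_getElem.2 ⟨i - 10 * k, ?_, ?_⟩
    · simp [hl]; omega
    · rw [List.getElem_take, List.getElem_drop]
      congr 1; omega
  have key : ∀ k, pairChunk k = true → i / 10 = k → pairOk (xLit[i]) w = true := fun k hk he =>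
    List.all_eq_true.1 (List.all_eq_true.1 hk _ (hmem k he)) w hw
  have : i / 10 = 0 ∨ i / 10 = 1 ∨ i / 10 = 2 ∨ i / 10 = 3 ∨ i / 10 = 4 ∨ i / 10 = 5 ∨ i / 10 = 6 ∨ i / 10 = 7 ∨
      i / 10 = 8 := by omega
  rcases this with g | g | g | g | g | g | g | g | g
  · exact key 0 pair_chunk0 g
  · exact key 1 pair_chunk1 g
  · exact key 2 pair_chunk2 g
  · exact key 3 pair_chunk3 g
  · exact key 4 pair_chunk4 g
  · exact key 5 pair_chunk5 g
  · exact key 6 pair_chunk6 g
  · exact key 7 pair_chunk7 g
  · exact key 8 pair_chunk8 g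

theorem cand_checks : (xList.all fun x => wList.all fun w => candOk x w) = true := by
  obtain ⟨hv, -, -, -, -, h1, -⟩ := tab_facts
  simp only [List.all_cons, List.all_nil, Bool.and_eq_true, Bool.and_true] at hv
  simp only [List.all_eq_true]
  intro x hx w hw
  obtain ⟨hxr, hxg⟩ := List.mem_filter.1 hx
  obtain ⟨hwr, hwg⟩ := List.mem_filter.1 hw
  have hx4 := List.mem_range.1 hxr
  have hw4 := List.mem_range.1 hwr
  have hp := pair_all (goodRow_mem hx4 (goodX_row hx4 hxg)) (goodW_row hw4 hwg)
  simp only [pairOk] at hp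
  simp only [candOk]
  rw [← orbIm_eq] at hp
  have hperp : ((orbIm x).all fun a => !(pol a w) && !(pol a (app mW w))) =
      ((orbIm x).all fun a => !(polT a w) && !(polT a (app mW w))) := by
    rw [Bool.eq_iff_iff, List.all_eq_true, List.all_eq_true]
    refine forall₂_congr fun a ha => ?_
    have ha4 : a < 4096 := by
      simp only [orbIm, List.mem_map] at ha
      obtain ⟨j, -, rfl⟩ := ha
      exact app_lt (valid_mpow hv.2.1 _) x
    rw [quad_pol_tab ha4 hw4, quad_pol_tab ha4 (app_lt hv.2.2 w)]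
  rw [hperp]
  simp only [Bool.or_eq_true] at hp ⊢
  rcases hp with hp | ((hp | hp))
  · exact .inl (.inl hp)
  · refine .inl (.inr ?_)
    by_contra hc
    simp only [Bool.not_eq_true', Bool.not_eq_false] at hc
    have e := scalar_app hc
    simp only [mpow, ← app_comp, h1] at e
    simp only [Bool.not_eq_true', Bool.or_eq_false_iff, beq_eq_false_iff_ne, ne_eq] at hp
    rcases e with e | e | e
    · exact hp.1.1 e
    · exact hp.1.2 e
    · exact hp.2 e
  · exact .inr (by rw [eq_of_beq uLit_eq]; exact hp)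

end CfsgLib.JankoFour.Rigid
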