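import Cfsg.Agent.Lib.JankoFour.Rigid.Apply

/-!
# Kernel checks for placing the third and the semilinear generator
-/

set_option autoImplicit false
set_option maxRecDepth 100000
set_option Elab.async false

namespace CfsgLib.JankoFour.Rigid

/-- The combination of five vectors with the scalars packed in `c`. -/
def combW (c : ℕ) (im : List ℕ) : ℕ :=
  (List.range 5).foldl (fun acc i => acc ^^^ smulW ((c >>> (2 * i)) % 4) (im.getD i 0)) 0

/-- The semilinear map inverting `mA` with given images of the two base vectors. -/
def mkT (r w : ℕ) : List ℕ :=
  ((List.range 5).flatMap fun j =>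
    [app (mpow mA (10 * j)) r, app (mpow mW 2) (app (mpow mA (10 * j)) r)]) ++ [w, app (mpow mW 2) w]

theorem coef_check :
    ((List.range 5).all fun j => combW (coefOrb.getD j 0) orbBase == 2 ^ (2 * j)) = true := by
  decide +kernel

theorem orbBase_check :
    ((List.range 5).all fun i => orbBase.getD i 0 == app (mpow mF i) 4) = true := by decide +kernel

theorem scalar_check :
    ((List.range 3).all fun j => ((List.range 10).all fun k => (mpow mW j).getD k 0 == (mpow mC j).getD k 0) &&
      ((mpow mC j).getD 10 0 == 1024) && ((mpow mC j).getD 11 0 == 2048)) = true := by decide +kernel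

theorem uClass_check :
    ((List.range 3).all fun i => (List.range 3).all fun j =>
      comp (mpow mW (3 - i)) (comp (comp (mpow mW i) (comp (mpow mC j) (comp mU (mpow mC (3 - j))))) (mpow mC j))
        == comp (mpow mC j) mU) = true := by decide +kernel

theorem fixF_check :
    ((List.range 4096).all fun x => !(app mF x == x) || pol x 1024 || pol x 2048 || !quad x ||
      [1, 2, 3].contains x) = true := by decide +kernel

theorem fixA_check :
    ((List.range 4096).all fun x => !(app mA x == x) || !quad x || [1024, 2048, 3072].contains x) = true := by
  decide +kernel

theorem outer_check :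
    ([1, 2, 3].all fun r => [1024, 2048, 3072].all fun w =>
      let T := mkT r w
      !((List.range 5).any fun j => (List.range 3).any fun m =>
          comp T mU == comp (comp (mpow mF j) (mpow mW m)) (comp mU T)) ||
        ((List.range 3).any fun i => comp (mpow mW i) T == mT)) = true := by decide +kernel

end CfsgLib.JankoFour.Rigid
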