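import Cfsg.Agent.Lib.JankoFour.Rigid.Coord
import Cfsg.Agent.Lib.JankoFour.Rigid.ModelCheck
import Cfsg.Agent.Lib.JankoFour.Rigid.CheckCand
import Cfsg.Agent.Lib.Fusion.MathieuCards

/-!
# Existence of the rigid model
-/

set_option autoImplicit false
set_option linter.unusedSectionVars false

namespace CfsgLib.JankoFour

open Subgroup QuadraticMap Rigid
open CfsgLib.LargeFischer (vadd_self eq_of_vadd z2_cases q_add q_zero polar_self_zero)

variable {V : Type*} [AddCommGroup V] [Module (ZMod 2) V] [Finite V]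
  {K : Type*} [Group K] [Finite K] [DistribMulAction K V]
  {q : QuadraticForm (ZMod 2) V} {n : K} {M : Subgroup K} {φ : ↥M →* ↥Cfsg.Spor.M22}
  {a f u : K} {v e : V}

theorem crd_mod (n a : K) (v e : V) (x : ℕ) : crd n a v e (x % 4096) = crd n a v e x := by
  have key : ∀ k ≤ 12, cmb n a v e k (x % 4096) = cmb n a v e k x := by
    intro k
    induction k with
    | zero => intro _; rfl
    | succ k ih =>
      intro hk
      have ht : (x % 4096).testBit k = x.testBit k := by
        rw [show (4096 : ℕ) = 2 ^ 12 by norm_num, Nat.testBit_mod_two_pow]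
        simp [show k < 12 by omega]
      simp only [cmb, ht, ih (by omega)]
  exact key 12 le_rfl

theorem smulW_lt (s : ℕ) {x : ℕ} (hx : x < 4096) : smulW s x < 4096 := by
  refine Nat.xor_lt_two_pow (n := 12) ?_ ?_ <;> split_ifs <;>
    first | exact hx | exact app_lt (by decide) x | norm_num

theorem combW_lt (cc : ℕ) {im : List ℕ} (h : ∀ i, im.getD i 0 < 4096) : combW cc im < 4096 := by
  have key : ∀ (l : List ℕ) (acc : ℕ), acc < 4096 →
      l.foldl (fun acc i => acc ^^^ smulW ((cc >>> (2 * i)) % 4) (im.getD i 0)) acc < 4096 := by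
    intro l
    induction l with
    | nil => intro acc h0; exact h0
    | cons i l ih => intro acc h0; exact ih _ (Nat.xor_lt_two_pow (n := 12) h0 (smulW_lt _ (h i)))
  exact key _ 0 (by norm_num)

theorem mpow_valid {g : List ℕ} (hg : Valid g = true) : ∀ k, Valid (mpow g k) = true
  | 0 => show Valid mI = true by decide
  | k + 1 => comp_valid hg (mpow_valid hg k)

theorem card_M_eq (c : Core q n M φ) : Nat.card ↥M = 1330560 := by
  have hk : Nat.card ↥φ.ker = 3 := by
    rw [show φ.ker = (zpowers n).subgroupOf M by ext m; rw [MonoidHom.mem_ker, c.ker, mem_subgroupOf],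
      Nat.card_congr (subgroupOfEquivOfLe c.zn_le).toEquiv, Nat.card_zpowers, c.ordn]
  rw [← φ.ker.card_mul_index, hk, Subgroup.index_ker, MonoidHom.range_eq_top.2 c.surj, card_top,
    CfsgLib.Fusion.card_M22]

namespace Base

variable (c : Core q n M φ) (B : Base q n M a f u v e)

include c B

theorem actsA : Acts (crd n a v e) a mA := fun x => B.a_crd c x
theorem actsF : Acts (crd n a v e) f mF := fun x => B.f_crd c x
theorem actsN : Acts (crd n a v e) n mW := fun x => B.n_crd c x

theorem acts_one' : Acts (crd n a v e) (1 : K) mI := fun x => by rw [one_smul, app_mI, crd_mod]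

theorem acts_npow : ∀ k : ℕ, Acts (crd n a v e) (n ^ k) (mpow mW k)
  | 0 => by rw [pow_zero]; exact B.acts_one' c
  | k + 1 => by rw [pow_succ']; exact (B.actsN c).mul (acts_npow k)

theorem acts_fpow : ∀ k : ℕ, Acts (crd n a v e) (f ^ k) (mpow mF k)
  | 0 => by rw [pow_zero]; exact B.acts_one' c
  | k + 1 => by rw [pow_succ']; exact (B.actsF c).mul (acts_fpow k)

theorem acts_apow : ∀ k : ℕ, Acts (crd n a v e) (a ^ k) (mpow mA k)
  | 0 => by rw [pow_zero]; exact B.acts_one' c
  | k + 1 => by rw [pow_succ']; exact (B.actsA c).mul (acts_apow k)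

theorem coord_v : v = crd n a v e 1 ∧ a • v = crd n a v e 4 ∧ e = crd n a v e 1024 ∧ n • e = crd n a v e 2048 := by
  obtain ⟨h10, h11⟩ := B.bVec_last c
  refine ⟨?_, ?_, h10.symm.trans (crd_two_pow n a v e (i := 10) (by omega)).symm,
    h11.symm.trans (crd_two_pow n a v e (i := 11) (by omega)).symm⟩
  · have := (B.bVec_even c (j := 0) (by omega)).symm.trans (crd_two_pow n a v e (i := 2 * 0) (by omega)).symm
    simpa using this
  · have := (B.bVec_even c (j := 1) (by omega)).symm.trans (crd_two_pow n a v e (i := 2 * 1) (by omega)).symm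
    simpa using this

theorem acts_ext {k : K} {g g' : List ℕ} (hg : Valid g = true) (hg' : Valid g' = true)
    (h : Acts (crd n a v e) k g) (h' : Acts (crd n a v e) k g') : g = g' :=
  ext_valid hg hg' fun x _ => B.crd_inj c (app_lt hg x) (app_lt hg' x) ((h x).symm.trans (h' x))

theorem free_iff {x : ℕ} (hx : x < 4096) (hy : crd n a v e x ∈ freePart (V := V) a) :
    pol x 1024 = false ∧ pol x 2048 = false := by
  obtain ⟨-, -, he, hne⟩ := B.coord_v c
  constructor <;> refine b2_inj ?_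
  · rw [← B.pol_crd c, ← he, QuadraticMap.polar_comm, B.perp _ hy]; rfl
  · rw [← B.pol_crd c, ← hne, QuadraticMap.polar_comm, B.pol_n_left c,
      B.perp _ (B.free_smul c ((B.na c).mul_left (B.na c)) hy)]; rfl

theorem u_class : ∃ i < 3, ∃ j < 3,
    Acts (crd n a v e) u (Rigid.comp (mpow mW i) (Rigid.comp (mpow mC j) (Rigid.comp mU (mpow mC (3 - j))))) := by
  obtain ⟨hv, hav, he, hne⟩ := B.coord_v c
  obtain ⟨x, hx, hxe⟩ := B.crd_surj c (u • a • v)
  obtain ⟨w, hw, hwe⟩ := B.crd_surj c (u • e)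
  have hFv : ∀ k, Valid (mpow mF k) = true := mpow_valid (by decide)
  have hufp : ∀ i : ℕ, u * f ^ i = f ^ (2 * i) * u := fun i => by
    rw [← mul_inv_eq_iff_eq_mul, ← conj_pow, B.lifts.conj_uf, pow_mul]
  have hob : ∀ i < 5, crd n a v e (orbBase.getD i 0) = f ^ i • a • v := fun i hi => by
    rw [eq_of_beq (List.all_eq_true.1 orbBase_check i (List.mem_range.2 hi)), ← B.acts_fpow c i, ← hav]
  have him : ∀ i < 5, u • crd n a v e (orbBase.getD i 0) = crd n a v e ((orbIm x).getD i 0) := fun i hi => by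
    rw [hob i hi, smul_smul, hufp, mul_smul, ← hxe, B.acts_fpow c (2 * i), orbIm,
      List.getD_eq_getElem _ _ (by simp [hi]), List.getElem_map, List.getElem_range]
  have himlt : ∀ i, (orbIm x).getD i 0 < 4096 := fun i => by
    rcases lt_or_ge i (orbIm x).length with h | h
    · rw [List.getD_eq_getElem _ _ h]
      simp only [orbIm, List.getElem_map]
      exact app_lt (hFv _) x
    · rw [List.getD_eq_default _ _ h]; norm_num
  have hb : ∀ i, i < 5 → orbBase.getD i 0 < 4096 := by decide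
  have hun : ∀ y : V, u • (n • y) = n • (u • y) := fun y => c.smul_n_comm B.lifts.um y
  have hsmul : ∀ (s : ℕ), ∀ y y' : ℕ, u • crd n a v e y = crd n a v e y' →
      u • crd n a v e (smulW s y) = crd n a v e (smulW s y') := by
    intro s y y' h
    simp only [smulW]
    rw [crd_xor, crd_xor, smul_add]
    congr 1
    · split_ifs
      · exact h
      · rw [crd_zero, smul_zero]
    · split_ifs
      · rw [← B.n_crd c, hun, h, B.n_crd c]
      · rw [crd_zero, smul_zero]
  have hfold : ∀ cc, u • crd n a v e (combW cc orbBase) = crd n a v e (combW cc (orbIm x)) := by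
    intro cc
    have key : ∀ (l : List ℕ), (∀ i ∈ l, i < 5) → ∀ acc acc' : ℕ, u • crd n a v e acc = crd n a v e acc' →
        u • crd n a v e (l.foldl (fun acc i => acc ^^^ smulW ((cc >>> (2 * i)) % 4) (orbBase.getD i 0)) acc) =
          crd n a v e (l.foldl (fun acc i => acc ^^^ smulW ((cc >>> (2 * i)) % 4) ((orbIm x).getD i 0)) acc') := by
      intro l
      induction l with
      | nil => intro _ acc acc' h; exact h
      | cons i l ih =>
        intro hl acc acc' h
        refine ih (fun j hj => hl j (by simp [hj])) _ _ ?_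
        rw [crd_xor, crd_xor, smul_add, h, hsmul _ _ _ (him i (hl i (by simp)))]
    exact key (List.range 5) (fun i hi => List.mem_range.1 hi) 0 0 (by rw [crd_zero, smul_zero])
  have hcol : ∀ j < 5, u • bVec n a v e (2 * j) = crd n a v e (combW (coefOrb.getD j 0) (orbIm x)) := fun j hj => by
    rw [← hfold, eq_of_beq (List.all_eq_true.1 coef_check j (List.mem_range.2 hj)),
      crd_two_pow n a v e (by omega)]
  have hcol' : ∀ j < 5, u • bVec n a v e (2 * j + 1) =
      crd n a v e (app mW (combW (coefOrb.getD j 0) (orbIm x))) := fun j hj => by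
    rw [B.bVec_odd c hj, hun, ← B.bVec_even c hj, hcol j hj, B.n_crd c]
  set U := mkU (orbIm x) w with hU
  have hUform : U = [combW (coefOrb.getD 0 0) (orbIm x), app mW (combW (coefOrb.getD 0 0) (orbIm x)),
      combW (coefOrb.getD 1 0) (orbIm x), app mW (combW (coefOrb.getD 1 0) (orbIm x)),
      combW (coefOrb.getD 2 0) (orbIm x), app mW (combW (coefOrb.getD 2 0) (orbIm x)),
      combW (coefOrb.getD 3 0) (orbIm x), app mW (combW (coefOrb.getD 3 0) (orbIm x)),
      combW (coefOrb.getD 4 0) (orbIm x), app mW (combW (coefOrb.getD 4 0) (orbIm x)), w, app mW w] := rfl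
  have hact : Acts (crd n a v e) u U := by
    intro y
    refine crd_map n a v e (fun z => u • z) (smul_add u) U (fun k hk => ?_) y
    rw [hUform]
    interval_cases k
    · exact hcol 0 (by omega)
    · exact hcol' 0 (by omega)
    · exact hcol 1 (by omega)
    · exact hcol' 1 (by omega)
    · exact hcol 2 (by omega)
    · exact hcol' 2 (by omega)
    · exact hcol 3 (by omega)
    · exact hcol' 3 (by omega)
    · exact hcol 4 (by omega)
    · exact hcol' 4 (by omega)
    · show u • bVec n a v e 10 = _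
      rw [(B.bVec_last c).1, ← hwe]; rfl
    · show u • bVec n a v e 11 = _
      rw [(B.bVec_last c).2, hun, ← hwe, B.n_crd c]; rfl
  have hWv : Valid mW = true := by decide
  have hUv : Valid U = true := by
    rw [hUform]
    simp only [Valid, List.length_cons, List.length_nil, List.all_cons, List.all_nil, Bool.and_eq_true,
      Bool.and_true, beq_iff_eq]
    refine ⟨trivial, ?_⟩
    have h1 : ∀ cc, Nat.blt (combW cc (orbIm x)) 4096 = true := fun cc => Nat.ble_eq_true_of_le (combW_lt _ himlt)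
    have h2 : ∀ z, Nat.blt (app mW z) 4096 = true := fun z => Nat.ble_eq_true_of_le (app_lt hWv z)
    exact ⟨h1 _, h2 _, h1 _, h2 _, h1 _, h2 _, h1 _, h2 _, h1 _, h2 _, Nat.ble_eq_true_of_le hw, h2 _⟩
  have hpol : ∀ (i j : ℕ), i < 5 → j < 5 → pol ((orbIm x).getD i 0) ((orbIm x).getD j 0) =
      pol (orbBase.getD i 0) (orbBase.getD j 0) ∧
      pol ((orbIm x).getD i 0) (app mW ((orbIm x).getD j 0)) = pol (orbBase.getD i 0) (app mW (orbBase.getD j 0)) := by
    intro i j hi hj
    constructor <;> refine b2_inj ?_ <;> rw [← B.pol_crd c, ← B.pol_crd c]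
    · rw [← him i hi, ← him j hj, c.pol_smul]
    · rw [← B.n_crd c, ← B.n_crd c, ← him i hi, ← him j hj, ← hun, c.pol_smul]
  have hgx : goodX x = true := by
    simp only [goodX, Bool.and_eq_true, List.all_eq_true, List.mem_range, beq_iff_eq]
    refine ⟨B.crd_inj c (app_lt (hFv _) x) hx ?_, fun i hi j hj => ⟨hpol i j hi hj |>.imp id id, b2_inj ?_⟩⟩
    · rw [← B.acts_fpow c, show (10 : ℕ) = 5 * 2 by rfl, pow_mul, B.lifts.f5, one_pow, one_smul]
    · rw [← B.q_crd c, ← B.q_crd c, ← him i hi, c.isom]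
  have hgw : goodW w = true := by
    simp only [goodW, Bool.and_eq_true, beq_iff_eq]
    refine ⟨B.crd_inj c (app_lt (hFv _) w) hw ?_, ?_⟩
    · rw [← B.acts_fpow c, hwe, smul_smul, show f ^ 2 * u = u * f by
        rw [← B.lifts.conj_uf, inv_mul_cancel_right], mul_smul, B.fe]
    · have h := B.q_crd c w
      rw [hwe, c.isom, B.qe] at h
      revert h; cases quad w <;> simp [b2]
  have hperp : ((orbIm x).all fun z => !(pol z w) && !(pol z (app mW w))) = true := by
    simp only [List.all_eq_true, Bool.and_eq_true, Bool.not_eq_true']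
    intro z hz
    obtain ⟨i, hi, rfl⟩ := List.mem_iff_getElem.1 hz
    have hi5 : i < 5 := by simpa [orbIm] using hi
    rw [← List.getD_eq_getElem _ 0 hi]
    have hfree : f ^ i • a • v ∈ freePart (V := V) a := by
      rw [← hob i hi5]
      refine B.crd_free c ?_
      interval_cases i <;> decide
    constructor <;> refine b2_inj ?_ <;> rw [← B.pol_crd c, ← him i hi5, hob i hi5]
    · rw [hwe, c.pol_smul, QuadraticMap.polar_comm, B.perp _ hfree]; rfl
    · rw [← B.n_crd c, hwe, ← hun, c.pol_smul, QuadraticMap.polar_comm, B.pol_n_left c,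
        B.perp _ (B.free_smul c ((B.na c).mul_left (B.na c)) hfree)]; rfl
  have hAU : Valid (Rigid.comp mA U) = true := comp_valid (by decide) hUv
  have hscal : isScalar (mpow (Rigid.comp mA U) 5) = true := by
    have hp : ∀ k : ℕ, Acts (crd n a v e) ((a * u) ^ k) (mpow (Rigid.comp mA U) k) := by
      intro k
      induction k with
      | zero => rw [pow_zero]; exact B.acts_one' c
      | succ k ih => rw [pow_succ']; exact ((B.actsA c).mul hact).mul ih
    simp only [isScalar, Bool.or_eq_true, beq_iff_eq]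
    have h5 := hp 5
    have hv5 := mpow_valid hAU 5
    rcases c.zn_cases B.lifts.au_five with h | h | h <;> rw [h] at h5
    · exact .inl (.inl (B.acts_ext c hv5 (by decide) h5 (B.acts_one' c)))
    · exact .inl (.inr (B.acts_ext c hv5 hWv h5 (B.actsN c)))
    · exact .inr (B.acts_ext c hv5 (comp_valid hWv hWv) h5 ((B.actsN c).mul (B.actsN c)))
  have hcand := List.all_eq_true.1 (List.all_eq_true.1 cand_checks x
    (List.mem_filter.2 ⟨List.mem_range.2 hx, hgx⟩)) w (List.mem_filter.2 ⟨List.mem_range.2 hw, hgw⟩)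
  simp only [candOk] at hcand
  rw [hperp, hscal] at hcand
  simp only [Bool.not_true, Bool.false_or, List.contains_iff_mem, uClass, List.mem_flatMap, List.mem_map,
    List.mem_range] at hcand
  obtain ⟨i, hi, j, hj, hij⟩ := hcand
  exact ⟨i, hi, j, hj, hij ▸ hact⟩

end Base

theorem exists_base_u (c : Core q n M φ) (B : Base q n M a f u v e) :
    ∃ (u' : K) (v' : V), Base q n M a f u' v' e ∧ Acts (crd n a v' e) u' mU := by
  obtain ⟨i, hi, j, hj, hu⟩ := B.u_class c
  have hz : n ^ (3 - i) ∈ zpowers n := pow_mem (mem_zpowers n) _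
  have hzM : n ^ (3 - i) ∈ M := pow_mem c.nM _
  set z := n ^ (3 - i) with hzdef
  have hL : Lifts n M a f (z * u) := by
    have hzc : ∀ m ∈ M, Commute z m := fun m hm => c.zn_comm hz hm
    refine ⟨B.lifts.am, B.lifts.fm, mul_mem hzM B.lifts.um, B.lifts.a11, B.lifts.f5, B.lifts.a_ne,
      B.lifts.conj_fa, ?_, ?_, ?_, B.lifts.cent_a, B.lifts.cent_f⟩
    · rw [mul_inv_rev, show z * u * f * (u⁻¹ * z⁻¹) = z * (u * f * u⁻¹) * z⁻¹ by group, B.lifts.conj_uf,
        (hzc _ (pow_mem B.lifts.fm 2)).eq, mul_inv_cancel_right]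
    · rw [show a * (z * u) = z * (a * u) by rw [← mul_assoc, ← (hzc a B.lifts.am).eq, mul_assoc],
        (hzc _ (mul_mem B.lifts.am B.lifts.um)).mul_pow]
      exact mul_mem (pow_mem hz 5) B.lifts.au_five
    · refine B.lifts.gen.trans ((closure_le _).2 ?_)
      simp only [Set.insert_subset_iff, Set.singleton_subset_iff, SetLike.mem_coe]
      refine ⟨subset_closure (by simp), subset_closure (by simp), subset_closure (by simp), ?_⟩
      have hzl : zpowers n ≤ closure ({n, a, f, z * u} : Set K) := zpowers_le.2 (subset_closure (by simp))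
      have := mul_mem (inv_mem (hzl hz)) (subset_closure (k := ({n, a, f, z * u} : Set K)) (show z * u ∈ _ by simp))
      simpa using this
  have hnc : ∀ (m : K), m ∈ M → ∀ k : ℕ, Commute m (n ^ k) := fun m hm k =>
    Commute.pow_right (c.commute m hm) k
  have hB : Base q n M a f (z * u) (n ^ j • v) e := by
    refine ⟨hL, B.sig, B.free_smul c ((B.na c).pow_left j) B.v_mem, fun h => B.v_ne ((smul_eq_zero_iff_eq _).1 h),
      ?_, B.ae, B.e_ne, B.fe, B.fix, B.perp, B.qe⟩
    rw [smul_smul, (hnc f B.lifts.fm j).eq, mul_smul, B.fv]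
  refine ⟨_, _, hB, fun y => ?_⟩
  have hcrd : ∀ y, crd n a (n ^ j • v) e y = crd n a v e (app (mpow mC j) y) := by
    intro y
    have hchk := List.all_eq_true.1 scalar_check j (List.mem_range.2 hj)
    simp only [Bool.and_eq_true, List.all_eq_true, List.mem_range, beq_iff_eq] at hchk
    have key : ∀ k ≤ 12, cmb n a (n ^ j • v) e k y = crd n a v e (appUpTo (mpow mC j) k y) := by
      intro k
      induction k with
      | zero => intro _; simp [cmb, appUpTo, crd_zero]
      | succ k ih =>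
        intro hk
        simp only [cmb, appUpTo]
        cases y.testBit k
        · simpa using ih (by omega)
        · simp only [if_true, ↓reduceIte]
          rw [crd_xor, ih (by omega)]
          congr 1
          rcases (show k < 10 ∨ k = 10 ∨ k = 11 by omega) with hk' | rfl | rfl
          · rw [← hchk.1.1 k hk', ← app_two_pow _ (show k < 12 by omega), ← B.acts_npow c j,
              crd_two_pow n a v e (show k < 12 by omega), bVec, bVec, if_pos hk', if_pos hk']
            simp only [smul_smul]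
            congr 1
            have h1 : Commute (n ^ j) (n ^ (k % 2)) := (Commute.refl n).pow_pow _ _
            have h2 : Commute (n ^ j) (a ^ (k / 2)) := (B.na c).pow_pow _ _
            rw [← h2.eq, ← mul_assoc, ← h1.eq, mul_assoc]
          · rw [hchk.1.2]; exact (crd_two_pow n a v e (i := 10) (by omega)).symm
          · rw [hchk.2]; exact (crd_two_pow n a v e (i := 11) (by omega)).symm
    exact key 12 le_rfl
  rw [hcrd, hcrd, mul_smul, hu, B.acts_npow c,
    app_comp (Rigid.comp (mpow mW i) _) (mpow mC j), app_comp (mpow mW (3 - i)), app_comp (mpow mC j),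
    eq_of_beq (List.all_eq_true.1 (List.all_eq_true.1 uClass_check i (List.mem_range.2 hi)) j (List.mem_range.2 hj))]

theorem exists_outer (c : Core q n M φ) (B : Base q n M a f u v e) (hu : Acts (crd n a v e) u mU) :
    ∃ t ∉ M, Acts (crd n a v e) t mT := by
  haveI : Fact (Nat.Prime 11) := ⟨by norm_num⟩
  obtain ⟨k0, hk0⟩ : ∃ k, k ∉ M := by
    obtain ⟨k, hk⟩ := c.outer
    exact ⟨k, fun h => hk (c.commute k h)⟩
  have hnorm : M.Normal := Subgroup.normal_of_index_eq_two c.indexM
  have ha1 : a ≠ 1 := fun h => B.lifts.a_ne (h ▸ one_mem _)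
  have hord : orderOf a = 11 := orderOf_eq_prime B.lifts.a11 ha1
  have hcM := card_M_eq c
  -- the group generated by `a` is a Sylow subgroup
  set am : ↥M := ⟨a, B.lifts.am⟩
  have hPc : Nat.card ↥(zpowers am) = 11 := by
    rw [Nat.card_zpowers, ← Subgroup.orderOf_coe]; exact hord
  let P : Sylow 11 ↥M := Sylow.ofCard (zpowers am) (by
    rw [hPc, hcM]
    rw [show (1330560 : ℕ).factorization 11 = 1 from ?_, pow_one]
    rw [Nat.factorization_def _ (by norm_num), show (1330560 : ℕ) = 11 * 120960 by norm_num,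
      padicValNat.mul (by norm_num) (by norm_num), padicValNat_self, padicValNat.eq_zero_of_not_dvd (by norm_num)])
  have hbM : k0 * a * k0⁻¹ ∈ M := hnorm.conj_mem _ B.lifts.am k0
  set bm : ↥M := ⟨_, hbM⟩
  have hb : IsPGroup 11 ↥(zpowers bm) := IsPGroup.of_card (n := 1) (by
    rw [Nat.card_zpowers, ← Subgroup.orderOf_coe, pow_one]
    show orderOf (k0 * a * k0⁻¹) = 11
    rw [← MulAut.conj_apply, MulEquiv.orderOf_eq, hord])
  obtain ⟨S, hS⟩ := hb.exists_le_sylow
  obtain ⟨m, hm⟩ := MulAction.exists_smul_eq ↥M S P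
  obtain ⟨j, hj⟩ : ∃ j : ℕ, (m : K) * (k0 * a * k0⁻¹) * (m : K)⁻¹ = a ^ j := by
    have h1 : bm ∈ (S : Subgroup ↥M) := hS (mem_zpowers bm)
    have h2 : m * bm * m⁻¹ ∈ ((m • S : Sylow 11 ↥M) : Subgroup ↥M) := by
      show MulAut.conj m bm ∈ _
      rw [Sylow.coe_subgroup_smul]
      exact Subgroup.smul_mem_pointwise_smul _ _ _ h1
    rw [hm] at h2
    obtain ⟨j, hj⟩ := (isOfFinOrder_of_finite am).mem_powers_iff_mem_zpowers.2 h2
    exact ⟨j, (congrArg Subtype.val hj).symm⟩
  obtain ⟨k1, hk1def⟩ : ∃ k1 : K, k1 = (m : K) * k0 := ⟨_, rfl⟩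
  have hk1 : k1 ∉ M := fun h => hk0 (by simpa [hk1def] using mul_mem (inv_mem m.2) h)
  have hj1 : k1 * a * k1⁻¹ = a ^ (j % 11) := by
    rw [← pow_eq_pow_mod j B.lifts.a11, ← hj, hk1def]; group
  have hpow : ∀ k : K, ∀ r : ℕ, k * a * k⁻¹ = a ^ r → ∀ (i : ℕ) (y : V), k • (a ^ i • y) = a ^ (r * i) • (k • y) := by
    intro k r hk i y
    rw [smul_smul, smul_smul, pow_mul, ← hk, conj_pow, inv_mul_cancel_right]
  have hfreek : ∀ k : K, ∀ r : ℕ, k * a * k⁻¹ = a ^ r → r % 11 ≠ 0 → ∀ y ∈ freePart (V := V) a,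
      k • y ∈ freePart (V := V) a := by
    intro k r hk hr y hy
    obtain ⟨x, hx, hxe⟩ := B.crd_surj c (k • y)
    have h : k • allSum a y = 0 := by rw [show allSum a y = 0 from hy, smul_zero]
    rw [mem_freePart]
    simp only [allSum, Finset.sum_range_succ, Finset.sum_range_zero, zero_add] at h ⊢
    simp only [smul_add, hpow k r hk] at h
    rw [pow_eq_pow_mod (r * 1) B.lifts.a11, pow_eq_pow_mod (r * 2) B.lifts.a11, pow_eq_pow_mod (r * 3) B.lifts.a11,
      pow_eq_pow_mod (r * 4) B.lifts.a11, pow_eq_pow_mod (r * 5) B.lifts.a11, pow_eq_pow_mod (r * 6) B.lifts.a11,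
      pow_eq_pow_mod (r * 7) B.lifts.a11, pow_eq_pow_mod (r * 8) B.lifts.a11, pow_eq_pow_mod (r * 9) B.lifts.a11,
      pow_eq_pow_mod (r * 10) B.lifts.a11, Nat.mul_mod r 1, Nat.mul_mod r 2, Nat.mul_mod r 3, Nat.mul_mod r 4,
      Nat.mul_mod r 5, Nat.mul_mod r 6, Nat.mul_mod r 7, Nat.mul_mod r 8, Nat.mul_mod r 9, Nat.mul_mod r 10] at h
    have hlt := Nat.mod_lt r (show 11 > 0 by norm_num)
    generalize r % 11 = r' at hr hlt h
    rw [← h]
    interval_cases r'
    · omega
    all_goals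
      norm_num
      try abel
  have hjne : j % 11 ≠ 0 := fun h0 => by
    rw [h0, pow_zero, conj_eq_one_iff] at hj1
    exact ha1 hj1
  have hkn : ∀ y : V, k1 • (n • y) = (n * n) • (k1 • y) := fun y => by
    rw [smul_smul, smul_smul, ← c.flip hk1, inv_mul_cancel_right]
  have hkn2 : ∀ y : V, k1 • ((n * n) • y) = n • (k1 • y) := fun y => by
    rw [mul_smul, hkn, hkn, smul_smul, show n * n * (n * n) = n by rw [← mul_assoc, c.n_three, one_mul]]
  have hw0 : k1 • v ∈ freePart (V := V) a := hfreek k1 _ hj1 (by omega) v B.v_mem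
  have hNR : j % 11 = 2 ∨ j % 11 = 6 ∨ j % 11 = 7 ∨ j % 11 = 8 ∨ j % 11 = 10 := by
    have h1 : k1 • sigma a v = n • (k1 • v) := by rw [B.sig v B.v_mem, hkn2]
    simp only [sigma, smul_add] at h1
    rw [show a • v = a ^ 1 • v by rw [pow_one]] at h1
    simp only [hpow k1 _ hj1] at h1
    have h2 := B.sig _ hw0
    simp only [sigma] at h2
    rw [show a • k1 • v = a ^ 1 • (k1 • v) by rw [pow_one]] at h2
    by_contra hcon
    have hlt := Nat.mod_lt j (show 11 > 0 by norm_num)
    rw [pow_eq_pow_mod (j % 11 * 1) B.lifts.a11, pow_eq_pow_mod (j % 11 * 3) B.lifts.a11,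
      pow_eq_pow_mod (j % 11 * 4) B.lifts.a11, pow_eq_pow_mod (j % 11 * 5) B.lifts.a11,
      pow_eq_pow_mod (j % 11 * 9) B.lifts.a11] at h1
    generalize j % 11 = r at hjne hlt hcon h1
    have h3 : n • (k1 • v) = (n * n) • (k1 • v) := by
      rw [← h1, ← h2]
      interval_cases r
      any_goals omega
      all_goals
        norm_num
        try abel
    rw [c.smul_sq] at h3
    have h4 : k1 • v = 0 := by simpa using h3
    exact B.v_ne ((smul_eq_zero_iff_eq _).1 h4)
  have hfa : ∀ i : ℕ, f ^ i * a * (f ^ i)⁻¹ = a ^ (4 ^ i) := by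
    intro i
    induction i with
    | zero => simp
    | succ i ih =>
      rw [pow_succ', show f * f ^ i * a * (f * f ^ i)⁻¹ = f * (f ^ i * a * (f ^ i)⁻¹) * f⁻¹ by group, ih,
        ← conj_pow, B.lifts.conj_fa, ← pow_mul, ← pow_succ']
  obtain ⟨k2, hk2, hk2a⟩ : ∃ k2 ∉ M, k2 * a * k2⁻¹ = a ^ 10 := by
    have step : ∀ i : ℕ, f ^ i * k1 ∉ M ∧ (f ^ i * k1) * a * (f ^ i * k1)⁻¹ = a ^ (4 ^ i * (j % 11) % 11) := by
      intro i
      refine ⟨fun h => hk1 (by simpa using mul_mem (inv_mem (pow_mem B.lifts.fm i)) h), ?_⟩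
      rw [show f ^ i * k1 * a * (f ^ i * k1)⁻¹ = f ^ i * (k1 * a * k1⁻¹) * (f ^ i)⁻¹ by group, hj1,
        ← conj_pow, hfa, ← pow_mul, ← pow_eq_pow_mod _ B.lifts.a11]
    rcases hNR with h | h | h | h | h
    · exact ⟨_, (step 2).1, by rw [(step 2).2, h]; norm_num⟩
    · exact ⟨_, (step 3).1, by rw [(step 3).2, h]; norm_num⟩
    · exact ⟨_, (step 4).1, by rw [(step 4).2, h]; norm_num⟩
    · exact ⟨_, (step 1).1, by rw [(step 1).2, h]; norm_num⟩
    · exact ⟨_, (step 0).1, by rw [(step 0).2, h]; norm_num⟩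
  have hfaj : ∀ l : ℕ, a ^ l * f = f * a ^ (3 * l) := by
    intro l
    have hp : f * a ^ (3 * l) * f⁻¹ = a ^ l := by
      rw [← conj_pow, B.lifts.conj_fa, ← pow_mul, show 4 * (3 * l) = 11 * l + l by ring, pow_add, pow_mul,
        B.lifts.a11, one_pow, one_mul]
    rw [eq_comm, ← mul_inv_eq_iff_eq_mul]
    exact hp
  obtain ⟨k, hk, hka, hkf⟩ : ∃ k ∉ M, k * a * k⁻¹ = a ^ 10 ∧ k * f * k⁻¹ = f := by
    have hk2' : k2⁻¹ * a * k2 = a ^ 10 := by
      calc k2⁻¹ * a * k2 = k2⁻¹ * (k2 * a * k2⁻¹) ^ 10 * k2 := by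
            rw [hk2a, ← pow_mul, show 10 * 10 = 11 * 9 + 1 by norm_num, pow_add, pow_mul, B.lifts.a11, one_pow,
              one_mul, pow_one]
        _ = a ^ 10 := by rw [conj_pow]; group
    have hgM : f⁻¹ * (k2 * f * k2⁻¹) ∈ M := mul_mem (inv_mem B.lifts.fm) (hnorm.conj_mem _ B.lifts.fm k2)
    have hcomm : (f⁻¹ * (k2 * f * k2⁻¹)) * a = a * (f⁻¹ * (k2 * f * k2⁻¹)) := by
      have e1 : k2 * f * k2⁻¹ * a * (k2 * f * k2⁻¹)⁻¹ = a ^ 4 := by
        rw [show k2 * f * k2⁻¹ * a * (k2 * f * k2⁻¹)⁻¹ = k2 * (f * (k2⁻¹ * a * k2) * f⁻¹) * k2⁻¹ by group, hk2',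
          ← conj_pow, B.lifts.conj_fa, ← pow_mul, ← conj_pow, hk2a, ← pow_mul,
          pow_eq_pow_mod (10 * (4 * 10)) B.lifts.a11]
      have e2 : f⁻¹ * a ^ 4 * f = a := by rw [← B.lifts.conj_fa]; group
      rw [← mul_inv_eq_iff_eq_mul]
      rw [show f⁻¹ * (k2 * f * k2⁻¹) * a * (f⁻¹ * (k2 * f * k2⁻¹))⁻¹ =
        f⁻¹ * (k2 * f * k2⁻¹ * a * (k2 * f * k2⁻¹)⁻¹) * f by group, e1, e2]
    obtain ⟨i, s, his⟩ := B.lifts.cent_a _ hgM hcomm
    have hkf2 : k2 * f * k2⁻¹ = f * a ^ i * n ^ s := by rw [mul_assoc f, ← his]; group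
    have h5 : (f * a ^ i) ^ 5 = 1 := by
      have hswap : ∀ l : ℕ, f * a ^ l = a ^ (4 * l) * f := fun l => by
        rw [← mul_inv_eq_iff_eq_mul, ← conj_pow, B.lifts.conj_fa, pow_mul]
      have hp : ∀ l : ℕ, ∀ p : ℕ, ∃ s : ℕ, (f * a ^ i) ^ p * a ^ l = a ^ (4 ^ p * l + s * i) * f ^ p ∧
          3 * s + 4 = 4 ^ (p + 1) := by
        intro l p
        induction p with
        | zero => exact ⟨0, by simp, by norm_num⟩
        | succ p ih =>
          obtain ⟨s, hs, hs'⟩ := ih
          refine ⟨4 * s + 4, ?_, by rw [pow_succ 4 (p + 1), ← hs']; ring⟩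
          rw [pow_succ', mul_assoc, hs, mul_assoc f, ← mul_assoc (a ^ i), ← pow_add, ← mul_assoc f, hswap,
            mul_assoc, ← pow_succ']
          congr 2
          ring
      obtain ⟨s, hs, hs'⟩ := hp 0 5
      rw [pow_zero, mul_one, mul_zero, zero_add, B.lifts.f5, mul_one] at hs
      rw [hs, show s = 11 * 124 by omega, show 11 * 124 * i = 11 * (124 * i) by ring, pow_mul, B.lifts.a11, one_pow]
    have hs0 : n ^ s = 1 := by
      have h : (k2 * f * k2⁻¹) ^ 5 = (f * a ^ i * n ^ s) ^ 5 := by rw [hkf2]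
      have hcm : Commute (f * a ^ i) (n ^ s) :=
        (Commute.pow_right (c.commute _ (mul_mem B.lifts.fm (pow_mem B.lifts.am i))) s)
      rw [conj_pow, B.lifts.f5, mul_one, mul_inv_cancel, hcm.mul_pow, h5, one_mul] at h
      exact c.zn_one (pow_mem (mem_zpowers n) s) h.symm (by norm_num)
    rw [hs0, mul_one] at hkf2
    refine ⟨a ^ (5 * i) * k2, fun h => hk2 (by simpa using mul_mem (inv_mem (pow_mem B.lifts.am (5 * i))) h), ?_, ?_⟩
    · rw [show a ^ (5 * i) * k2 * a * (a ^ (5 * i) * k2)⁻¹ = a ^ (5 * i) * (k2 * a * k2⁻¹) * (a ^ (5 * i))⁻¹ by group,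
        hk2a, ← pow_add, add_comm, pow_add, mul_inv_cancel_right]
    · rw [show a ^ (5 * i) * k2 * f * (a ^ (5 * i) * k2)⁻¹ = a ^ (5 * i) * (k2 * f * k2⁻¹) * (a ^ (5 * i))⁻¹ by group,
        hkf2, ← mul_assoc, hfaj, mul_assoc f, ← pow_add, mul_inv_eq_iff_eq_mul,
        show 3 * (5 * i) + i = 11 * i + 5 * i by ring, pow_add, pow_mul, B.lifts.a11, one_pow, one_mul]
  -- the images of the two base vectors
  have hkv : ∀ y : V, k • (n • y) = (n * n) • (k • y) := fun y => by
    rw [smul_smul, smul_smul, ← c.flip hk, inv_mul_cancel_right]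
  obtain ⟨hv, hav, he, hne⟩ := B.coord_v c
  have hfk : f * k = k * f := (mul_inv_eq_iff_eq_mul.1 hkf).symm
  obtain ⟨r, hr, hre⟩ := B.crd_surj c (k • v)
  obtain ⟨w, hw, hwe⟩ := B.crd_surj c (k • e)
  have hr3 : r ∈ [1, 2, 3] := by
    have h := List.all_eq_true.1 fixF_check r (List.mem_range.2 hr)
    obtain ⟨h1, h2⟩ := B.free_iff c hr (hre ▸ hfreek k 10 hka (by norm_num) v B.v_mem)
    have h3 : app mF r = r := B.crd_inj c (app_lt (by decide) r) hr (by
      rw [← B.f_crd c, hre, smul_smul, hfk, mul_smul, B.fv])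
    have h4 : quad r = true := by
      have h := B.q_crd c r
      have hqv := B.q_bVec c (i := 2 * 0) (by norm_num)
      rw [B.bVec_even c (by omega), pow_zero, one_smul] at hqv
      rw [hre, c.isom, hqv] at h
      revert h; cases quad r <;> simp [b2]
    simp only [h1, h2, h3, h4, beq_self_eq_true, Bool.not_true, Bool.or_false, Bool.false_or] at h
    exact List.contains_iff_mem.1 h
  have hw3 : w ∈ [1024, 2048, 3072] := by
    have h := List.all_eq_true.1 fixA_check w (List.mem_range.2 hw)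
    have h3 : app mA w = w := B.crd_inj c (app_lt (by decide) w) hw (by
      rw [← B.a_crd c, hwe]
      have := hpow k 10 hka 1 e
      rw [pow_one, B.ae, mul_one] at this
      calc a • k • e = a • (a ^ 10 • k • e) := by rw [← this]
        _ = k • e := by rw [smul_smul, ← pow_succ', B.lifts.a11, one_smul])
    have h4 : quad w = true := by
      have h := B.q_crd c w
      rw [hwe, c.isom, B.qe] at h
      revert h; cases quad w <;> simp [b2]
    simp only [h3, h4, beq_self_eq_true, Bool.not_true, Bool.false_or] at h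
    exact List.contains_iff_mem.1 h
  have hn2 : Acts (crd n a v e) (n * n) (mpow mW 2) := by
    rw [show n * n = n ^ 2 from (pow_two n).symm]; exact B.acts_npow c 2
  have hTe : ∀ j < 5, k • bVec n a v e (2 * j) = crd n a v e (app (mpow mA (10 * j)) r) := fun j hj => by
    rw [B.bVec_even c hj, hpow k 10 hka, ← hre, B.acts_apow c]
  have hTo : ∀ j < 5, k • bVec n a v e (2 * j + 1) =
      crd n a v e (app (mpow mW 2) (app (mpow mA (10 * j)) r)) := fun j hj => by
    rw [B.bVec_odd c hj, hkv, ← B.bVec_even c hj, hTe j hj, hn2]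
  have hactk : Acts (crd n a v e) k (mkT r w) := by
    intro y
    refine crd_map n a v e (fun z => k • z) (smul_add k) _ (fun l hl => ?_) y
    interval_cases l
    · exact hTe 0 (by omega)
    · exact hTo 0 (by omega)
    · exact hTe 1 (by omega)
    · exact hTo 1 (by omega)
    · exact hTe 2 (by omega)
    · exact hTo 2 (by omega)
    · exact hTe 3 (by omega)
    · exact hTo 3 (by omega)
    · exact hTe 4 (by omega)
    · exact hTo 4 (by omega)
    · show k • bVec n a v e 10 = _
      rw [(B.bVec_last c).1, ← hwe]; rfl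
    · show k • bVec n a v e 11 = _
      rw [(B.bVec_last c).2, hkv, ← hwe, hn2]; rfl
  -- the relation with `u`
  have huf3 : u⁻¹ * f * u = f ^ 3 := by
    calc u⁻¹ * f * u = u⁻¹ * (f ^ 2) ^ 3 * u := by
          rw [← pow_mul, show 2 * 3 = 5 + 1 by norm_num, pow_succ, B.lifts.f5, one_mul]
      _ = u⁻¹ * (u * f * u⁻¹) ^ 3 * u := by rw [B.lifts.conj_uf]
      _ = f ^ 3 := by rw [conj_pow]; group
  have hkf' : k⁻¹ * f * k = f := by rw [mul_assoc, hfk, ← mul_assoc, inv_mul_cancel, one_mul]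
  have hgM : k * u * k⁻¹ * u⁻¹ ∈ M := mul_mem (hnorm.conj_mem _ B.lifts.um k) (inv_mem B.lifts.um)
  have hgf : k * u * k⁻¹ * u⁻¹ * f = f * (k * u * k⁻¹ * u⁻¹) := by
    rw [← mul_inv_eq_iff_eq_mul]
    calc k * u * k⁻¹ * u⁻¹ * f * (k * u * k⁻¹ * u⁻¹)⁻¹ = k * u * (k⁻¹ * (u⁻¹ * f * u) * k) * u⁻¹ * k⁻¹ := by group
      _ = k * u * f ^ 3 * u⁻¹ * k⁻¹ := by
          rw [huf3, show k⁻¹ * f ^ 3 * k = (k⁻¹ * f * k⁻¹⁻¹) ^ 3 by rw [conj_pow]; group, inv_inv, hkf']
      _ = k * (u * f * u⁻¹) ^ 3 * k⁻¹ := by rw [conj_pow]; group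
      _ = (k * f * k⁻¹) ^ 6 := by rw [B.lifts.conj_uf, ← pow_mul, ← conj_pow]
      _ = f := by rw [hkf, pow_succ, B.lifts.f5, one_mul]
  obtain ⟨i, s, his⟩ := B.lifts.cent_f _ hgM hgf
  have hrel : k * u = f ^ (i % 5) * n ^ (s % 3) * (u * k) := by
    rw [← pow_eq_pow_mod i B.lifts.f5, ← pow_eq_pow_mod s (by rw [pow_three, ← mul_assoc, c.n_three]), ← his]
    group
  have hTv : Valid (mkT r w) = true := by
    have : ∀ r ∈ [1, 2, 3], ∀ w ∈ [1024, 2048, 3072], Valid (mkT r w) = true := by decide +kernel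
    exact this r hr3 w hw3
  have hmat : Rigid.comp (mkT r w) mU =
      Rigid.comp (Rigid.comp (mpow mF (i % 5)) (mpow mW (s % 3))) (Rigid.comp mU (mkT r w)) := by
    refine B.acts_ext c (comp_valid hTv (by decide)) (comp_valid (comp_valid (mpow_valid (by decide) _)
      (mpow_valid (by decide) _)) (comp_valid (by decide) hTv)) (hactk.mul hu) ?_
    rw [hrel]
    exact ((B.acts_fpow c _).mul (B.acts_npow c _)).mul (hu.mul hactk)
  have h := List.all_eq_true.1 (List.all_eq_true.1 outer_check r hr3) w hw3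
  simp only [Bool.or_eq_true, Bool.not_eq_true'] at h
  rcases h with h | h
  · exfalso
    rw [List.any_eq_false] at h
    have h' := h (i % 5) (List.mem_range.2 (Nat.mod_lt _ (by norm_num)))
    rw [Bool.not_eq_true, List.any_eq_false] at h'
    exact h' (s % 3) (List.mem_range.2 (Nat.mod_lt _ (by norm_num))) (beq_iff_eq.2 hmat)
  · obtain ⟨p, -, hp⟩ := List.any_eq_true.1 h
    refine ⟨n ^ p * k, fun h => hk (by simpa using mul_mem (inv_mem (pow_mem c.nM p)) h), ?_⟩
    rw [← eq_of_beq hp]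
    exact (B.acts_npow c p).mul hactk

/-- The rigid model exists. -/
theorem Core.exists_rig (c : Core q n M φ) :
    ∃ (n' : K) (crd : ℕ → V) (a f u t : K), (n' = n ∨ n' = n * n) ∧ Rig q n' M crd a f u t := by
  obtain ⟨n', a, f, u0, v0, e, hn', c', B0⟩ := exists_base c
  obtain ⟨u, v, B, hu⟩ := exists_base_u c' B0
  obtain ⟨t, htM, ht⟩ := exists_outer c' B hu
  refine ⟨n', crd n' a v e, a, f, u, t, hn', ⟨φ, c'⟩, ?_, crd_xor n' a v e, crd_mod n' a v e, B.crd_surj c',
    fun x y hx hy h => B.crd_inj c' hx hy h, B.q_crd c', B.lifts.am, B.lifts.fm, B.lifts.um, htM, ?_,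
    B.actsA c', B.actsF c', hu, B.actsN c', ht⟩
  · rw [← M.card_mul_index, card_M_eq c', c'.indexM]
  · refine le_antisymm ((closure_le _).2 ?_) (B.lifts.gen.trans (closure_mono ?_))
    · simp only [Set.insert_subset_iff, Set.singleton_subset_iff, SetLike.mem_coe]
      exact ⟨B.lifts.am, B.lifts.fm, B.lifts.um, c'.nM⟩
    · intro x hx; simp only [Set.mem_insert_iff, Set.mem_singleton_iff] at hx ⊢; tauto

end CfsgLib.JankoFour
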