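import Mathlib.Data.Nat.Notation

/-!
Data in the rigid model: a hexad group with its fixed space, a second one with complementary fixed space, and
three involutions of the common normalizer.
-/

set_option autoImplicit false

namespace CfsgLib.JankoFour.Rigid

/-- Words of four generators of a hexad group. -/
def hexGenWords : List (List ℕ) := [
  [0,1,2,1,0,2,2,0,0,2,0,0,2,2],
  [0,1,2,2,0,2,0,0,0,2,1,2,0,2,0],
  [0,0,0,2,0,0,2,1,1,0,0,2,0,1,0,0],
  [2,0,0,2,0,2,0,1,2,0,2,2,1,0,1,0,0]]

/-- Words of the two inner involutions and of the outer involution of the complement. -/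
def splWords : List (List ℕ) := [
  [2,1,1,0,2,2,0,1,0,2],
  [0,1,0,0,2,0,2,2,1,1,0,2,0,0],
  [4,2,1,1,0,2,0,2,0,0,2,1,0]]

/-- A word moving the hexad group to the second one, and a word of its inverse. -/
def splHexWords : List (List ℕ) := [
  [0,1,2,2,0],
  [1,0,2,2,0,2,2,1]]

/-- The fixed space of the hexad group. -/
def hexVecs : List ℕ := [
  0, 21, 42, 63, 323, 342, 361, 380, 641, 660, 683, 702, 962, 983, 1000, 1021, 1036, 1049, 1062, 1075,
  1359, 1370, 1381, 1392, 1677, 1688, 1703, 1714, 1998, 2011, 2020, 2033, 2052, 2065, 2094, 2107, 2375,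
  2386, 2413, 2424, 2693, 2704, 2735, 2746, 3014, 3027, 3052, 3065, 3080, 3101, 3106, 3127, 3403, 3422,
  3425, 3444, 3721, 3740, 3747, 3766, 4042, 4063, 4064, 4085]

end CfsgLib.JankoFour.Rigid
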