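import Cfsg.Agent.Lib.JankoFour.Rigid.Apply
import Cfsg.Agent.Lib.JankoFour.Rigid.SplitData

/-!
# Kernel checks for the complement data
-/

set_option autoImplicit false
set_option maxRecDepth 100000
set_option Elab.async false
set_option maxHeartbeats 4000000

namespace CfsgLib.JankoFour.Rigid

/-- All products of sublists of a list of words. -/
def subWords : List (List ℕ) → List (List ℕ)
  | [] => [[]]
  | w :: rest => let r := subWords rest; r ++ r.map (w ++ ·)

/-- The sixteen words of the hexad group. -/
def splitHexWords : List (List ℕ) := subWords hexGenWords

/-- The hexad group. -/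
def splitHexList : List (List ℕ) := splitHexWords.map wordG

/-- The map to the second hexad group. -/
def mH : List ℕ := wordG (splHexWords.getD 0 [])

/-- Its inverse. -/
def mHi : List ℕ := wordG (splHexWords.getD 1 [])

/-- The second hexad group. -/
def splitHexListB : List (List ℕ) := splitHexList.map fun g => comp mH (comp g mHi)

/-- The words of the three involutions. -/
def splWord (i : ℕ) : List ℕ := splWords.getD i []

/-- The three involutions. -/
def splGens : List (List ℕ) := [wordG (splWord 0), wordG (splWord 1), wordG (splWord 2)]

/-- The sixteen words of the group they generate. -/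
def splElts : List (List ℕ) :=
  (List.range 4).flatMap fun i => (List.range 2).flatMap fun j => (List.range 2).map fun l =>
    (List.replicate i (splWord 0 ++ splWord 1)).flatten ++ (List.replicate j (splWord 0)).flatten ++
      (List.replicate l (splWord 2)).flatten

/-- The group they generate. -/
def splList : List (List ℕ) := splElts.map wordG

theorem split_hex_words_inner : (splitHexWords.all fun w => w.all fun i => Nat.blt i 4) = true := by
  decide +kernel

theorem split_hex_checks :
    ((splitHexList.length == 16) && decide splitHexList.Nodup) = true ∧
    (splitHexList.all fun g => splitHexList.all fun h =>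
      splitHexList.contains (comp g h) && (comp g h == comp h g)) = true ∧
    (splitHexList.all fun g => comp g g == mI) = true ∧ splitHexList.contains mI = true ∧
    (comp mH mHi == mI) = true := by
  refine ⟨?_, ?_, ?_, ?_, ?_⟩ <;> decide +kernel

theorem split_vec_checks :
    ((hexVecs.length == 64) && decide hexVecs.Nodup) = true ∧
    (hexVecs.all fun x => Nat.blt x 4096 && !quad x) = true ∧
    (hexVecs.all fun x => hexVecs.all fun y => hexVecs.contains (x ^^^ y)) = true ∧
    (splitHexList.all fun g => hexVecs.all fun x => app g x == x) = true ∧ hexVecs.contains 0 = true ∧
    (hexVecs.all fun x => (x == 0) || splitHexListB.any fun g => !(app g x == x)) = true := by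
  refine ⟨?_, ?_, ?_, ?_, ?_, ?_⟩ <;> decide +kernel

theorem split_gen_checks :
    (splGens.all fun g => comp g g == mI) = true ∧
    (splGens.all fun g => splitHexList.all fun h => splitHexList.contains (comp g (comp h g))) = true ∧
    (splGens.all fun g => splitHexListB.all fun h => splitHexListB.contains (comp g (comp h g))) = true ∧
    (let x := splGens.getD 0 []; let y := splGens.getD 1 []; let e := splGens.getD 2 []
      (comp (comp x e) (comp x e) == mI) && (comp (comp y e) (comp y e) == mI) &&
        (comp (comp (comp x y) (comp x y)) (comp (comp x y) (comp x y)) == mI)) = true := by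
  refine ⟨?_, ?_, ?_, ?_⟩ <;> decide +kernel

theorem split_group_checks :
    ((splList.length == 16) && decide splList.Nodup) = true ∧ (splList.getD 0 [] == mI) = true ∧
    (splList.all fun y => splGens.all fun g => splList.contains (comp g y)) = true ∧
    (splList.all fun y => (y == mI) || hexVecs.any fun x => !(app y x == x)) = true ∧
    (splElts.all fun w => w.all fun i => Nat.blt i 5) = true := by
  refine ⟨?_, ?_, ?_, ?_, ?_⟩ <;> decide +kernel

end CfsgLib.JankoFour.Rigid
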