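import Cfsg.Agent.Lib.JankoFour.SplitData
import Cfsg.Agent.Lib.JankoFour.Rigid.Exists
import Cfsg.Agent.Lib.JankoFour.Rigid.SplitCheck
import Cfsg.Agent.Lib.LargeFischer.Count

/-!
# The complement data from the rigid model
-/

set_option autoImplicit false
set_option linter.unusedSectionVars false
set_option linter.style.haveILetI false

namespace CfsgLib.JankoFour

open Subgroup QuadraticMap

variable {V : Type*} [AddCommGroup V] [Module (ZMod 2) V] [Finite V]
  {K : Type*} [Group K] [Finite K] [DistribMulAction K V]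
  {q : QuadraticForm (ZMod 2) V} {n n₀ : K} {M : Subgroup K} {φ : ↥M →* ↥Cfsg.Spor.M22}
  {crd : ℕ → V} {a f u t : K}

namespace Rig

variable (R : Rig q n M crd a f u t)

include R

/-- The elements acting by a member of a list closed under products. -/
def listSub {L : List (List ℕ)} (hI : Rigid.mI ∈ L) (hmul : ∀ g ∈ L, ∀ h ∈ L, Rigid.comp g h ∈ L) :
    Subgroup K where
  carrier := {k : K | ∃ g ∈ L, Acts crd k g}
  one_mem' := ⟨_, hI, R.acts_one⟩
  mul_mem' := by
    rintro x y ⟨g, hg, hx⟩ ⟨h, hh, hy⟩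
    exact ⟨_, hmul g hg h hh, hx.mul hy⟩
  inv_mem' := by
    rintro x ⟨g, hg, hx⟩
    have hpow : ∀ i : ℕ, ∃ h ∈ L, Acts crd (x ^ i) h := by
      intro i
      induction i with
      | zero => exact ⟨_, hI, by rw [pow_zero]; exact R.acts_one⟩
      | succ i ih =>
        obtain ⟨h, hh, hxi⟩ := ih
        exact ⟨_, hmul h hh g hg, by rw [pow_succ]; exact hxi.mul hx⟩
    have e : x⁻¹ = x ^ (orderOf x - 1) := by
      refine inv_eq_of_mul_eq_one_right ?_
      rw [← pow_succ', Nat.sub_add_cancel (orderOf_pos x), pow_orderOf_eq_one]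
    rw [e]
    exact hpow _

theorem card_listSub {L : List (List ℕ)} (hI : Rigid.mI ∈ L) (hmul : ∀ g ∈ L, ∀ h ∈ L, Rigid.comp g h ∈ L)
    (hnd : L.Nodup) (hv : ∀ g ∈ L, Rigid.Valid g = true) (hreal : ∀ g ∈ L, ∃ k : K, Acts crd k g) :
    Nat.card ↥(R.listSub hI hmul) = L.length := by
  classical
  let F : ↥(R.listSub hI hmul) → {g // g ∈ L} := fun x => ⟨x.2.choose, x.2.choose_spec.1⟩
  have hF : ∀ x : ↥(R.listSub hI hmul), Acts crd (x : K) (F x : List ℕ) := fun x => x.2.choose_spec.2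
  have hbij : Function.Bijective F := by
    refine ⟨fun x y e => Subtype.ext (R.acts_unique (hF x) (e ▸ hF y)), fun g => ?_⟩
    obtain ⟨k, hk⟩ := hreal g g.2
    refine ⟨⟨k, g, g.2, hk⟩, Subtype.ext ?_⟩
    exact R.acts_ext (hv _ (F ⟨k, g, g.2, hk⟩).2) (hv _ g.2) (hF ⟨k, g, g.2, hk⟩) hk
  rw [Nat.card_eq_of_bijective F hbij, Nat.card_eq_fintype_card]
  rw [Fintype.card_of_subtype L.toFinset (fun x => List.mem_toFinset), List.toFinset_card_of_nodup hnd]

theorem valid_map_wordG (ws : List (List ℕ)) : ∀ g ∈ ws.map Rigid.wordG, Rigid.Valid g = true := by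
  intro g hg
  obtain ⟨w, -, rfl⟩ := List.mem_map.1 hg
  exact Rigid.wordG_valid w

theorem real_map_wordG (ws : List (List ℕ)) : ∀ g ∈ ws.map Rigid.wordG, ∃ k : K, Acts crd k g := by
  intro g hg
  obtain ⟨w, -, rfl⟩ := List.mem_map.1 hg
  exact ⟨_, R.acts_word w⟩

theorem split_hex_mem : Rigid.mI ∈ Rigid.splitHexList ∧
    ∀ g ∈ Rigid.splitHexList, ∀ h ∈ Rigid.splitHexList, Rigid.comp g h ∈ Rigid.splitHexList := by
  obtain ⟨-, h2, -, h4, -⟩ := Rigid.split_hex_checks
  refine ⟨List.contains_iff_mem.1 h4, fun g hg h hh => ?_⟩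
  have := List.all_eq_true.1 (List.all_eq_true.1 h2 g hg) h hh
  rw [Bool.and_eq_true] at this
  exact List.contains_iff_mem.1 this.1

/-- The listed hexad group. -/
def baseHex : Subgroup K := R.listSub R.split_hex_mem.1 R.split_hex_mem.2

theorem baseHex_le : R.baseHex ≤ M := by
  rintro k ⟨g, hg, hk⟩
  obtain ⟨w, hw, rfl⟩ := List.mem_map.1 (show g ∈ Rigid.splitHexWords.map Rigid.wordG from hg)
  rw [R.acts_unique hk (R.acts_word w)]
  exact R.word_mem (List.all_eq_true.1 Rigid.split_hex_words_inner w hw)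

theorem baseHex_card : Nat.card ↥R.baseHex = 16 := by
  obtain ⟨h1, -, -, -, -⟩ := Rigid.split_hex_checks
  simp only [Bool.and_eq_true, beq_iff_eq, decide_eq_true_eq] at h1
  rw [baseHex, R.card_listSub _ _ h1.2 (R.valid_map_wordG _) (R.real_map_wordG _), h1.1]

theorem baseHex_elem : Cfsg.IsElementaryAbelian 2 R.baseHex := by
  obtain ⟨-, h2, h3, -, -⟩ := Rigid.split_hex_checks
  refine ⟨⟨⟨fun x y => Subtype.ext ?_⟩⟩, fun x hx => ?_⟩
  · obtain ⟨g, hg, hx⟩ := x.2
    obtain ⟨h, hh, hy⟩ := y.2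
    have := List.all_eq_true.1 (List.all_eq_true.1 h2 g hg) h hh
    rw [Bool.and_eq_true, beq_iff_eq] at this
    exact R.acts_unique (hx.mul hy) (this.2 ▸ hy.mul hx)
  · obtain ⟨g, hg, hx⟩ := hx
    rw [pow_two]
    exact R.acts_unique (eq_of_beq (List.all_eq_true.1 h3 g hg) ▸ hx.mul hx) R.acts_one

/-- The listed fixed space. -/
def baseVecs : AddSubgroup V where
  carrier := crd '' {x | x ∈ Rigid.hexVecs}
  zero_mem' := ⟨0, List.contains_iff_mem.1 Rigid.split_vec_checks.2.2.2.2.1, R.crd_zero⟩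
  add_mem' := by
    rintro _ _ ⟨x, hx, rfl⟩ ⟨y, hy, rfl⟩
    exact ⟨x ^^^ y, List.contains_iff_mem.1
      (List.all_eq_true.1 (List.all_eq_true.1 Rigid.split_vec_checks.2.2.1 x hx) y hy), R.crd_xor x y⟩
  neg_mem' := by
    rintro _ ⟨x, hx, rfl⟩
    exact ⟨x, hx, eq_neg_of_add_eq_zero_left (CfsgLib.LargeFischer.vadd_self _)⟩

theorem baseVecs_lt {x : ℕ} (hx : x ∈ Rigid.hexVecs) : x < 4096 := by
  have := List.all_eq_true.1 Rigid.split_vec_checks.2.1 x hx
  rw [Bool.and_eq_true] at this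
  exact Nat.le_of_ble_eq_true this.1

theorem baseVecs_card : Nat.card ↥R.baseVecs = 64 := by
  obtain ⟨h1, -, -, -, -, -⟩ := Rigid.split_vec_checks
  simp only [Bool.and_eq_true, beq_iff_eq, decide_eq_true_eq] at h1
  show Nat.card ↥(crd '' {x | x ∈ Rigid.hexVecs}) = 64
  have hinj : Set.InjOn crd {x | x ∈ Rigid.hexVecs} :=
    fun x hx y hy e => R.inj x y (R.baseVecs_lt hx) (R.baseVecs_lt hy) e
  rw [Nat.card_coe_set_eq, hinj.ncard_image, ← List.coe_toFinset, Set.ncard_coe_finset,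
    List.toFinset_card_of_nodup h1.2, h1.1]

theorem baseHex_fix : ∀ k ∈ R.baseHex, ∀ v ∈ R.baseVecs, k • v = v := by
  rintro k ⟨g, hg, hk⟩ _ ⟨x, hx, rfl⟩
  rw [hk, eq_of_beq (List.all_eq_true.1 (List.all_eq_true.1 Rigid.split_vec_checks.2.2.2.1 g hg) x hx)]

theorem baseVecs_sing : ∀ v ∈ R.baseVecs, q v = 0 := by
  rintro _ ⟨x, hx, rfl⟩
  have h := List.all_eq_true.1 Rigid.split_vec_checks.2.1 x hx
  rw [Bool.and_eq_true, Bool.not_eq_true'] at h
  rw [R.q_crd, h.2]
  rfl

theorem splGens_act (i : ℕ) (hi : i < 3) :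
    Acts crd (wordK a f u n t (Rigid.splWord i)) (Rigid.splGens.getD i []) := by
  interval_cases i <;> exact R.acts_word _

theorem mem_splGens (i : ℕ) (hi : i < 3) : Rigid.splGens.getD i [] ∈ Rigid.splGens := by
  have hlen : i < Rigid.splGens.length := hi
  rw [List.getD_eq_getElem _ _ hlen]
  exact List.getElem_mem _

theorem norm_of_list {L : List (List ℕ)} {k : K} {g : List ℕ} (hk : Acts crd k g) (hkk : k * k = 1)
    (hL : ∀ h ∈ L, Rigid.comp g (Rigid.comp h g) ∈ L) {H : Subgroup K}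
    (hH : ∀ y, y ∈ H ↔ ∃ h ∈ L, Acts crd y h) : k ∈ Subgroup.normalizer (H : Set K) := by
  refine mem_normalizer_fintype fun y hy => ?_
  obtain ⟨h, hh, hyh⟩ := (hH y).1 hy
  refine (hH _).2 ⟨_, hL h hh, ?_⟩
  rw [inv_eq_of_mul_eq_one_right hkk, mul_assoc]
  exact hk.mul (hyh.mul hk)

/-- The complement data at the listed hexad group. -/
theorem split_base :
    ∃ (h x y e : K),
      (∀ v : V, v ∈ R.baseVecs → (∀ b ∈ R.baseHex.map (MulAut.conj h).toMonoidHom, b • v = v) → v = 0) ∧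
      (∀ k ∈ ({x, y, e} : Set K), k * k = 1 ∧ k ∈ Subgroup.normalizer (R.baseHex : Set K) ∧
        k ∈ Subgroup.normalizer ((R.baseHex.map (MulAut.conj h).toMonoidHom : Subgroup K) : Set K)) ∧
      (x * e) * (x * e) = 1 ∧ (y * e) * (y * e) = 1 ∧ (x * y) ^ 4 = 1 ∧
      Nat.card ↥(Subgroup.closure ({x, y, e} : Set K)) = 16 ∧
      ∀ k ∈ Subgroup.closure ({x, y, e} : Set K), (∀ v ∈ R.baseVecs, k • v = v) → k = 1 := by
  classical
  obtain ⟨-, -, -, -, -, hv6⟩ := Rigid.split_vec_checks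
  obtain ⟨hg1, hg2, hg3, hg4⟩ := Rigid.split_gen_checks
  obtain ⟨hl1, hl2, hl3, hl4, -⟩ := Rigid.split_group_checks
  simp only [Bool.and_eq_true, beq_iff_eq, decide_eq_true_eq] at hl1 hg4
  have hH := R.acts_word (Rigid.splHexWords.getD 0 [])
  have hHi := R.acts_word (Rigid.splHexWords.getD 1 [])
  set h := wordK a f u n t (Rigid.splHexWords.getD 0 []) with hh
  set hi := wordK a f u n t (Rigid.splHexWords.getD 1 []) with hhi
  have hinv : h⁻¹ = hi := inv_eq_of_mul_eq_one_right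
    (R.acts_unique ((eq_of_beq Rigid.split_hex_checks.2.2.2.2) ▸ hH.mul hHi) R.acts_one)
  set k₀ := wordK a f u n t (Rigid.splWord 0)
  set k₁ := wordK a f u n t (Rigid.splWord 1)
  set k₂ := wordK a f u n t (Rigid.splWord 2)
  have a0 : Acts crd k₀ (Rigid.splGens.getD 0 []) := R.splGens_act 0 (by norm_num)
  have a1 : Acts crd k₁ (Rigid.splGens.getD 1 []) := R.splGens_act 1 (by norm_num)
  have a2 : Acts crd k₂ (Rigid.splGens.getD 2 []) := R.splGens_act 2 (by norm_num)
  have hBmem : ∀ b, b ∈ R.baseHex.map (MulAut.conj h).toMonoidHom ↔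
      ∃ g ∈ Rigid.splitHexListB, Acts crd b g := by
    intro b
    constructor
    · rintro ⟨w, ⟨g, hg, hw⟩, rfl⟩
      refine ⟨_, List.mem_map.2 ⟨g, hg, rfl⟩, ?_⟩
      show Acts crd (h * w * h⁻¹) _
      rw [hinv, mul_assoc]
      exact hH.mul (hw.mul hHi)
    · rintro ⟨g, hg, hb⟩
      obtain ⟨g', hg', rfl⟩ := List.mem_map.1 hg
      obtain ⟨w, hw⟩ := R.real_map_wordG Rigid.splitHexWords g' hg'
      refine ⟨w, ⟨g', hg', hw⟩, ?_⟩
      show h * w * h⁻¹ = b
      rw [hinv, mul_assoc]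
      exact R.acts_unique (hH.mul (hw.mul hHi)) hb
  have hgen : ∀ k ∈ ({k₀, k₁, k₂} : Set K), ∃ g ∈ Rigid.splGens, Acts crd k g := by
    rintro k (rfl | rfl | rfl)
    · exact ⟨_, R.mem_splGens 0 (by norm_num), a0⟩
    · exact ⟨_, R.mem_splGens 1 (by norm_num), a1⟩
    · exact ⟨_, R.mem_splGens 2 (by norm_num), a2⟩
  have hsq : ∀ k ∈ ({k₀, k₁, k₂} : Set K), k * k = 1 := fun k hk => by
    obtain ⟨g, hg, hkg⟩ := hgen k hk
    exact R.acts_unique ((eq_of_beq (List.all_eq_true.1 hg1 g hg)) ▸ hkg.mul hkg) R.acts_one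
  -- the group they generate
  have hsub : ∀ k ∈ Subgroup.closure ({k₀, k₁, k₂} : Set K), ∃ g ∈ Rigid.splList, Acts crd k g := by
    intro k hk
    have hk' : k ∈ (Subgroup.closure ({k₀, k₁, k₂} : Set K)).toSubmonoid := hk
    clear hk
    rw [Subgroup.closure_toSubmonoid_of_finite] at hk'
    induction hk' using Submonoid.closure_induction_left with
    | one =>
      refine ⟨_, ?_, R.acts_one⟩
      rw [← eq_of_beq hl2, List.getD_eq_getElem _ _ (by rw [hl1.1]; norm_num)]
      exact List.getElem_mem _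
    | mul_left w hw v _ ih =>
      obtain ⟨g, hg, hwg⟩ := hgen w hw
      obtain ⟨g', hg', hvg⟩ := ih
      exact ⟨_, List.contains_iff_mem.1 (List.all_eq_true.1 (List.all_eq_true.1 hl3 g' hg') g hg),
        hwg.mul hvg⟩
  have hwordmem : ∀ w ∈ Rigid.splElts, wordK a f u n t w ∈ Subgroup.closure ({k₀, k₁, k₂} : Set K) := by
    have happ : ∀ v w : List ℕ, wordK a f u n t (v ++ w) = wordK a f u n t v * wordK a f u n t w := by
      intro v w
      induction v with
      | nil => simp [wordK]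
      | cons i v ih => simp [wordK, ih, mul_assoc]
    have m0 : k₀ ∈ Subgroup.closure ({k₀, k₁, k₂} : Set K) := Subgroup.subset_closure (by simp)
    have m1 : k₁ ∈ Subgroup.closure ({k₀, k₁, k₂} : Set K) := Subgroup.subset_closure (by simp)
    have m2 : k₂ ∈ Subgroup.closure ({k₀, k₁, k₂} : Set K) := Subgroup.subset_closure (by simp)
    have hrep : ∀ (v : List ℕ), wordK a f u n t v ∈ Subgroup.closure ({k₀, k₁, k₂} : Set K) → ∀ i : ℕ,
        wordK a f u n t (List.replicate i v).flatten ∈ Subgroup.closure ({k₀, k₁, k₂} : Set K) := by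
      intro v hv i
      induction i with
      | zero => simpa [wordK] using one_mem _
      | succ i ih => rw [List.replicate_succ, List.flatten_cons, happ]; exact mul_mem hv ih
    intro w hw
    simp only [Rigid.splElts, List.mem_flatMap, List.mem_map] at hw
    obtain ⟨i, -, j, -, l, -, rfl⟩ := hw
    rw [happ, happ]
    refine mul_mem (mul_mem (hrep _ ?_ i) (hrep _ m0 j)) (hrep _ m2 l)
    rw [happ]
    exact mul_mem m0 m1
  have hcard : Nat.card ↥(Subgroup.closure ({k₀, k₁, k₂} : Set K)) = 16 := by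
    let F : ↥(Subgroup.closure ({k₀, k₁, k₂} : Set K)) → {g // g ∈ Rigid.splList} :=
      fun x => ⟨(hsub x x.2).choose, (hsub x x.2).choose_spec.1⟩
    have hF : ∀ x : ↥(Subgroup.closure ({k₀, k₁, k₂} : Set K)), Acts crd (x : K) (F x : List ℕ) :=
      fun x => (hsub x x.2).choose_spec.2
    have hbij : Function.Bijective F := by
      refine ⟨fun x y e => Subtype.ext (R.acts_unique (hF x) (e ▸ hF y)), fun g => ?_⟩
      obtain ⟨w, hw, hwg⟩ := List.mem_map.1 g.2
      refine ⟨⟨_, hwordmem w hw⟩, Subtype.ext ?_⟩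
      have h1 := hF ⟨_, hwordmem w hw⟩
      have h2 := R.acts_word w
      rw [hwg] at h2
      exact R.acts_ext (R.valid_map_wordG _ _ (F ⟨_, hwordmem w hw⟩).2) (R.valid_map_wordG _ _ g.2) h1 h2
    rw [Nat.card_eq_of_bijective F hbij, Nat.card_eq_fintype_card,
      Fintype.card_of_subtype Rigid.splList.toFinset (fun x => List.mem_toFinset),
      List.toFinset_card_of_nodup hl1.2, hl1.1]
  refine ⟨h, k₀, k₁, k₂, ?_, fun k hk => ?_, ?_, ?_, ?_, hcard, ?_⟩
  · rintro _ ⟨x, hx, rfl⟩ hfix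
    have := List.all_eq_true.1 hv6 x hx
    simp only [Bool.or_eq_true, beq_iff_eq, List.any_eq_true, Bool.not_eq_true', beq_eq_false_iff_ne, ne_eq] at this
    rcases this with h0 | ⟨g, hg, hne⟩
    · rw [h0, R.crd_zero]
    · exfalso
      obtain ⟨b, hb⟩ : ∃ b, Acts crd b g := by
        obtain ⟨g', hg', rfl⟩ := List.mem_map.1 hg
        obtain ⟨w, hw⟩ := R.real_map_wordG Rigid.splitHexWords g' hg'
        exact ⟨_, hH.mul (hw.mul hHi)⟩
      have hbfix := hfix b ((hBmem b).2 ⟨g, hg, hb⟩)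
      rw [hb] at hbfix
      obtain ⟨g', hg', rfl⟩ := List.mem_map.1 hg
      exact hne (R.inj _ _ (Rigid.app_lt (Rigid.comp_valid (Rigid.wordG_valid _)
        (Rigid.comp_valid (R.valid_map_wordG _ _ hg') (Rigid.wordG_valid _))) x) (R.baseVecs_lt hx) hbfix)
  · obtain ⟨g, hg, hkg⟩ := hgen k hk
    refine ⟨hsq k hk, ?_, ?_⟩
    · exact R.norm_of_list hkg (hsq k hk)
        (fun h' hh' => List.contains_iff_mem.1 (List.all_eq_true.1 (List.all_eq_true.1 hg2 g hg) h' hh'))
        fun y => Iff.rfl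
    · exact R.norm_of_list hkg (hsq k hk)
        (fun h' hh' => List.contains_iff_mem.1 (List.all_eq_true.1 (List.all_eq_true.1 hg3 g hg) h' hh'))
        hBmem
  · exact R.acts_unique (hg4.1.1 ▸ (a0.mul a2).mul (a0.mul a2)) R.acts_one
  · exact R.acts_unique (hg4.1.2 ▸ (a1.mul a2).mul (a1.mul a2)) R.acts_one
  · rw [show (4 : ℕ) = 2 * 2 from rfl, pow_mul, pow_two, pow_two]
    exact R.acts_unique (hg4.2 ▸ ((a0.mul a1).mul (a0.mul a1)).mul ((a0.mul a1).mul (a0.mul a1))) R.acts_one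
  · intro k hk hfix
    obtain ⟨g, hg, hkg⟩ := hsub k hk
    have := List.all_eq_true.1 hl4 g hg
    simp only [Bool.or_eq_true, beq_iff_eq, List.any_eq_true, Bool.not_eq_true', beq_eq_false_iff_ne, ne_eq] at this
    rcases this with h0 | ⟨x, hx, hne⟩
    · exact R.acts_unique (h0 ▸ hkg) R.acts_one
    · exfalso
      have hf := hfix _ ⟨x, hx, rfl⟩
      rw [hkg] at hf
      exact hne (R.inj _ _ (Rigid.app_lt (R.valid_map_wordG _ _ hg) x) (R.baseVecs_lt hx) hf)

end Rig

theorem elem_conj {A : Subgroup K} (hA : Cfsg.IsElementaryAbelian 2 A) (k : K) :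
    Cfsg.IsElementaryAbelian 2 (A.map (MulAut.conj k).toMonoidHom) := by
  haveI := hA.1
  refine ⟨inferInstance, ?_⟩
  rintro _ ⟨x, hx, rfl⟩
  rw [← map_pow, hA.2 x hx, map_one]

/-- An elementary group of order sixteen fixing a totally singular space of order 64 is of hexad type, and so
are its conjugates. -/
theorem hex_of_fix {s : V} {A : Subgroup K} {W : AddSubgroup V} (fc : Facts q n M) (hs0 : s ≠ 0) (hqs : q s = 0)
    (hs : (MulAction.orbit K s).ncard = 693) (hA : Cfsg.IsElementaryAbelian 2 A) (hA16 : Nat.card ↥A = 16)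
    (hW : ∀ b ∈ A, ∀ w ∈ W, b • w = w) (hsing : ∀ w ∈ W, q w = 0) (hW64 : Nat.card ↥W = 64)
    (hisom : ∀ (k : K) (v : V), q (k • v) = q v) (k : K) :
    Hex q n M s (A.map (MulAut.conj k).toMonoidHom) := by
  let g : V →+ V := DistribSMul.toAddMonoidHom V k
  have hg : ∀ v, g v = k • v := fun v => rfl
  refine (fc.big_class s hs0 hqs hs _ (W.map g) (elem_conj hA k) ?_ ?_ (le_of_eq ?_)).1
  · rintro _ ⟨b, hb, rfl⟩ _ ⟨w, hw, rfl⟩
    show (k * b * k⁻¹) • g w = g w
    rw [hg, mul_smul, mul_smul, inv_smul_smul, hW b hb w hw]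
  · rintro _ ⟨w, hw, rfl⟩
    rw [hg, hisom, hsing w hw]
  · rw [card_map_of_injective (MulEquiv.injective _), hA16,
      Nat.card_congr (AddSubgroup.equivMapOfInjective W g (MulAction.injective k)).symm.toEquiv, hW64]
    norm_num

/-- The complement data at every hexad group. -/
theorem Core.exists_split (c : Core q n M φ) (fc : Facts q n M) {s : V} {A : Subgroup K} (hs0 : s ≠ 0)
    (hqs : q s = 0) (hs : (MulAction.orbit K s).ncard = 693) (hA : Hex q n M s A) : SplitData q n M s A := by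
  classical
  haveI : Fact (Nat.Prime 2) := ⟨Nat.prime_two⟩
  obtain ⟨n', crd, a, f, u, t, -, R⟩ := c.exists_rig
  obtain ⟨h, x, y, e, hdis, hgen, hxe, hye, hxy, hcard, hfree⟩ := R.split_base
  have hH : ∀ k : K, Hex q n M s (R.baseHex.map (MulAut.conj k).toMonoidHom) := fun k =>
    hex_of_fix fc hs0 hqs hs R.baseHex_elem R.baseHex_card R.baseHex_fix R.baseVecs_sing R.baseVecs_card c.isom k
  have hA0 : Hex q n M s R.baseHex := by
    have h1 := hH 1
    rwa [show (MulAut.conj (1 : K)).toMonoidHom = MonoidHom.id K by ext; simp, Subgroup.map_id] at h1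
  -- `A` is a conjugate of the listed group
  obtain ⟨k, hk⟩ : ∃ k : K, A = R.baseHex.map (MulAut.conj k).toMonoidHom := by
    obtain ⟨P, hP⟩ := (IsPGroup.of_card (p := 2) (n := 4) (by rw [hA.card]; norm_num) :
      IsPGroup 2 ↥A).exists_le_sylow
    obtain ⟨P0, hP0⟩ := (IsPGroup.of_card (p := 2) (n := 4) (by rw [R.baseHex_card]; norm_num) :
      IsPGroup 2 ↥R.baseHex).exists_le_sylow
    obtain ⟨k, hk⟩ := MulAction.exists_smul_eq K P0 P
    refine ⟨k, fc.hex_unique s A _ (P : Subgroup K) hA (hH k) P.2 hP ?_⟩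
    rintro _ ⟨b, hb, rfl⟩
    rw [← hk]
    exact Subgroup.smul_mem_pointwise_smul b (MulAut.conj k) (P0 : Subgroup K) (hP0 hb)
  subst hk
  set γ := MulAut.conj k with hγ
  have hfixW : ∀ v : V, (∀ b ∈ R.baseHex, b • v = v) → v ∈ R.baseVecs := by
    have hsub : (R.baseVecs : Set V) ⊆ {v : V | ∀ b ∈ R.baseHex, b • v = v} :=
      fun v hv b hb => R.baseHex_fix b hb v hv
    have heq := Set.eq_of_subset_of_ncard_le hsub
      (by rw [hA0.fix_card, ← Nat.card_coe_set_eq]; exact R.baseVecs_card.ge) (Set.toFinite _)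
    intro v hv
    have : v ∈ (R.baseVecs : Set V) := by rw [heq]; exact hv
    exact this
  have hnormal : ∀ (H : Subgroup K) (g : K), g ∈ Subgroup.normalizer (H : Set K) →
      γ g ∈ Subgroup.normalizer ((H.map γ.toMonoidHom : Subgroup K) : Set K) := fun H g hg => by
    rw [← map_equiv_normalizer_eq]
    exact ⟨g, hg, rfl⟩
  have himg : ({γ x, γ y, γ e} : Set K) = γ.toMonoidHom '' ({x, y, e} : Set K) := by
    simp [Set.image_insert_eq]
  have hclo : Subgroup.closure ({γ x, γ y, γ e} : Set K) =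
      (Subgroup.closure ({x, y, e} : Set K)).map γ.toMonoidHom := by
    rw [MonoidHom.map_closure, himg]
  have hconj : ∀ (b : K) (v : V), γ b • v = k • b • k⁻¹ • v := fun b v => by
    rw [hγ, MulAut.conj_apply, mul_smul, mul_smul]
  refine ⟨(R.baseHex.map (MulAut.conj h).toMonoidHom).map γ.toMonoidHom, γ x, γ y, γ e, ?_,
    fun v hv1 hv2 => ?_, ?_, ?_, ?_, ?_, ?_, ?_⟩
  · rw [Subgroup.map_map, show γ.toMonoidHom.comp (MulAut.conj h).toMonoidHom = (MulAut.conj (k * h)).toMonoidHom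
      from by ext b; simp [hγ, mul_assoc]]
    exact hH (k * h)
  · have h0 : k⁻¹ • v = 0 := by
      refine hdis _ (hfixW _ fun b hb => ?_) fun b hb => ?_
      · have := hv1 _ ⟨b, hb, rfl⟩
        change γ b • v = v at this
        rw [hconj] at this
        exact (eq_inv_smul_iff.mpr this)
      · have := hv2 _ ⟨b, hb, rfl⟩
        change γ b • v = v at this
        rw [hconj] at this
        exact (eq_inv_smul_iff.mpr this)
    exact (smul_inv_smul k v).symm.trans (by rw [h0, smul_zero])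
  · rw [himg]
    rintro _ ⟨g, hg, rfl⟩
    obtain ⟨h1, h2, h3⟩ := hgen g hg
    refine ⟨?_, hnormal _ g h2, hnormal _ g h3⟩
    show γ g * γ g = 1
    rw [← map_mul, h1, map_one]
  · rw [← map_mul, ← map_mul, hxe, map_one]
  · rw [← map_mul, ← map_mul, hye, map_one]
  · rw [← map_mul, ← map_pow, hxy, map_one]
  · rw [hclo, card_map_of_injective γ.injective, hcard]
  · rw [hclo, ← Subgroup.map_inf _ _ _ γ.injective]
    rw [Subgroup.map_eq_bot_iff_of_injective _ γ.injective, eq_bot_iff]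
    intro g hg
    obtain ⟨hg1, hg2⟩ := mem_inf.1 hg
    exact hfree g hg1 fun v hv => R.baseHex_fix g hg2 v hv

end CfsgLib.JankoFour
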