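import Cfsg.Agent.Lib.JankoFour.Rigid.Apply
import Cfsg.Agent.Lib.JankoFour.Rigid.OrbitData

/-!
# Kernel checks on the elements of order five in the rigid model
-/

set_option autoImplicit false
set_option maxRecDepth 100000
set_option Elab.async false

namespace CfsgLib.JankoFour.Rigid

/-- A vector of the short orbit fixed by `mF`. -/
def fiveU : ℕ := 1027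

/-- A nonsingular vector fixed by `mF` and `mT`. -/
def fiveV : ℕ := 1024

/-- Words of seventeen elements of order five fixing `fiveU`. -/
def fiveWords : List (List ℕ) :=
  [[1],
   [0,0,0,0,0,0,0,0,0,0,2,2,2,2,2,2,2,2,2,1,0,1,2,0,1,0,0,0,0,0,0,0,0,0,0,2,2,2,1,1,1,1,0,0,0,0,0,0,0,0,0,0,1,1,1,1,2,2,2,2,2,2,2,2,2,2,2,2,2,2,2,2,2,2,2,2,2,2,2,2,2,2,2,0,0,0,0,0,0,0,0,0,0,0,0,0,0,0,0,0,0,0,0,0,0,0,0,0,0,0,0,0,0,0,0,0,0,0,0,0,0,0,0,0,0,0,0,0,0,0,0,0,0,0,0,0,0,0,0,0,0,0,0,0,0,0,0,0,0,0,0,0,0,0,0,0,0,0,0,0,0,0,0,0,0,0,0,0,0,0,0,0,0,0,0,0,0,0,0,0,0,0,0],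
   [1,0,0,0,0,0,0,0,0,0,0,2,2,2,2,2,2,2,2,2,1,0,1,2,0,1,0,0,0,0,0,0,0,0,0,0,2,2,2,1,1,1,1,0,0,0,0,0,0,0,0,0,0,1,1,1,1,2,2,2,2,2,2,2,2,2,2,2,2,2,2,2,2,2,2,2,2,2,2,2,2,2,2,2,0,0,0,0,0,0,0,0,0,0,0,0,0,0,0,0,0,0,0,0,0,0,0,0,0,0,0,0,0,0,0,0,0,0,0,0,0,0,0,0,0,0,0,0,0,0,0,0,0,0,0,0,0,0,0,0,0,0,0,0,0,0,0,0,0,0,0,0,0,0,0,0,0,0,0,0,0,0,0,0,0,0,0,0,0,0,0,0,0,0,0,0,0,0,0,0,0,0,0,0,1,1,1,1],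
   [2,0,0,0,0,0,0,0,0,0,0,2,2,2,2,2,2,2,2,2,1,0,1,2,0,1,0,0,0,0,0,0,0,0,0,0,2,2,2,1,1,1,1,0,0,0,0,0,0,0,0,0,0,1,1,1,1,2,2,2,2,2,2,2,2,2,2,2,2,2,2,2,2,2,2,2,2,2,2,2,2,2,2,2,0,0,0,0,0,0,0,0,0,0,0,0,0,0,0,0,0,0,0,0,0,0,0,0,0,0,0,0,0,0,0,0,0,0,0,0,0,0,0,0,0,0,0,0,0,0,0,0,0,0,0,0,0,0,0,0,0,0,0,0,0,0,0,0,0,0,0,0,0,0,0,0,0,0,0,0,0,0,0,0,0,0,0,0,0,0,0,0,0,0,0,0,0,0,0,0,0,0,0,0,2,2,2],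
   [4,0,0,0,0,0,0,0,0,0,0,2,2,2,2,2,2,2,2,2,1,0,1,2,0,1,0,0,0,0,0,0,0,0,0,0,2,2,2,1,1,1,1,0,0,0,0,0,0,0,0,0,0,1,1,1,1,2,2,2,2,2,2,2,2,2,2,2,2,2,2,2,2,2,2,2,2,2,2,2,2,2,2,2,0,0,0,0,0,0,0,0,0,0,0,0,0,0,0,0,0,0,0,0,0,0,0,0,0,0,0,0,0,0,0,0,0,0,0,0,0,0,0,0,0,0,0,0,0,0,0,0,0,0,0,0,0,0,0,0,0,0,0,0,0,0,0,0,0,0,0,0,0,0,0,0,0,0,0,0,0,0,0,0,0,0,0,0,0,0,0,0,0,0,0,0,0,0,0,0,0,0,0,0,4],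
   [0,0,0,0,0,0,0,0,0,0,0,0,0,0,0,0,0,0,0,0,4,2,0,1,2,0,1,0,0,0,0,0,0,0,0,0,0,2,2,2,1,1,1,1,0,0,0,0,0,0,0,0,0,0,2,2,2,4,0,0,0,0,0,0,0,0,0,0,0,0,0,0,0,0,0,0,0,0,0,0,0,0,0,0,0,0,0,0,0,0,0,0,0,0,0,0,0,0,0,0,0,0,0,0,0,0,0,0,0,0,0,0,0,0,0,0,0,0,0,0,0,0,0,0,0,0,0,0,0,0,0,0,0,0,0,0,0,0,0,0,0,0,0,0,0,0,0,0,0,0,0,0,0,0,0,0,0,0,0,0,0,0,0,0,0,0,0,0,0,0,0,0,0,0,0,0,0,0,0,0,0,0,0,0,0,0,0,0,0,0,0,0,0,0,0,0,0,0,0,0,0,0,0,0,0,0,0,0,0,0,0,0,0,0,0,0,0,0,0,0,0,0,0,0,0,0,0,0,0,0,0,0,0,0,0,0,0,0,0,0,0,0,0,0,0,0,0,0,0,0,0,0,0,0,0,0,0,0],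
   [0,0,0,0,0,0,0,0,0,0,2,2,2,2,2,2,2,2,2,0,2,1,0,2,0,0,1,0,0,0,0,0,0,0,0,0,0,0,0,0,0,0,0,0,0,0,0,2,2,2,0,0,0,0,0,0,0,0,0,0,1,1,1,1,2,2,2,0,0,0,0,0,0,0,0,0,0,2,2,2,2,2,2,2,2,2,2,2,2,2,2,2,2,2,2,2,2,2,2,2,2,2,2,2,0,0,0,0,0,0,0,0,0,0,0,0,0,0,0,0,0,0,0,0,0,0,0,0,0,0,0,0,0,0,0,0,0,0,0,0,0,0,0,0,0,0,0,0,0,0,0,0,0,0,0,0,0,0,0,0,0,0,0,0,0,0,0,0,0,0,0,0,0,0,0,0,0,0,0,0,0,0,0,0,0,0,0,0,0,0,0,0,0,0,0,0,0,0,0,0,0,0,0,0],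
   [1,0,0,0,0,0,0,0,0,0,0,0,0,0,0,0,0,0,0,0,0,4,2,0,1,2,0,1,0,0,0,0,0,0,0,0,0,0,2,2,2,1,1,1,1,0,0,0,0,0,0,0,0,0,0,2,2,2,4,0,0,0,0,0,0,0,0,0,0,0,0,0,0,0,0,0,0,0,0,0,0,0,0,0,0,0,0,0,0,0,0,0,0,0,0,0,0,0,0,0,0,0,0,0,0,0,0,0,0,0,0,0,0,0,0,0,0,0,0,0,0,0,0,0,0,0,0,0,0,0,0,0,0,0,0,0,0,0,0,0,0,0,0,0,0,0,0,0,0,0,0,0,0,0,0,0,0,0,0,0,0,0,0,0,0,0,0,0,0,0,0,0,0,0,0,0,0,0,0,0,0,0,0,0,0,0,0,0,0,0,0,0,0,0,0,0,0,0,0,0,0,0,0,0,0,0,0,0,0,0,0,0,0,0,0,0,0,0,0,0,0,0,0,0,0,0,0,0,0,0,0,0,0,0,0,0,0,0,0,0,0,0,0,0,0,0,0,0,0,0,0,0,0,0,0,0,0,0,0,1,1,1,1],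
   [1,0,0,0,0,0,0,0,0,0,0,2,2,2,2,2,2,2,2,2,0,2,1,0,2,0,0,1,0,0,0,0,0,0,0,0,0,0,0,0,0,0,0,0,0,0,0,0,2,2,2,0,0,0,0,0,0,0,0,0,0,1,1,1,1,2,2,2,0,0,0,0,0,0,0,0,0,0,2,2,2,2,2,2,2,2,2,2,2,2,2,2,2,2,2,2,2,2,2,2,2,2,2,2,2,0,0,0,0,0,0,0,0,0,0,0,0,0,0,0,0,0,0,0,0,0,0,0,0,0,0,0,0,0,0,0,0,0,0,0,0,0,0,0,0,0,0,0,0,0,0,0,0,0,0,0,0,0,0,0,0,0,0,0,0,0,0,0,0,0,0,0,0,0,0,0,0,0,0,0,0,0,0,0,0,0,0,0,0,0,0,0,0,0,0,0,0,0,0,0,0,0,0,0,0,1,1,1,1],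
   [2,0,0,0,0,0,0,0,0,0,0,0,0,0,0,0,0,0,0,0,0,4,2,0,1,2,0,1,0,0,0,0,0,0,0,0,0,0,2,2,2,1,1,1,1,0,0,0,0,0,0,0,0,0,0,2,2,2,4,0,0,0,0,0,0,0,0,0,0,0,0,0,0,0,0,0,0,0,0,0,0,0,0,0,0,0,0,0,0,0,0,0,0,0,0,0,0,0,0,0,0,0,0,0,0,0,0,0,0,0,0,0,0,0,0,0,0,0,0,0,0,0,0,0,0,0,0,0,0,0,0,0,0,0,0,0,0,0,0,0,0,0,0,0,0,0,0,0,0,0,0,0,0,0,0,0,0,0,0,0,0,0,0,0,0,0,0,0,0,0,0,0,0,0,0,0,0,0,0,0,0,0,0,0,0,0,0,0,0,0,0,0,0,0,0,0,0,0,0,0,0,0,0,0,0,0,0,0,0,0,0,0,0,0,0,0,0,0,0,0,0,0,0,0,0,0,0,0,0,0,0,0,0,0,0,0,0,0,0,0,0,0,0,0,0,0,0,0,0,0,0,0,0,0,0,0,0,0,0,2,2,2],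
   [2,0,0,0,0,0,0,0,0,0,0,2,2,2,2,2,2,2,2,2,0,2,1,0,2,0,0,1,0,0,0,0,0,0,0,0,0,0,0,0,0,0,0,0,0,0,0,0,2,2,2,0,0,0,0,0,0,0,0,0,0,1,1,1,1,2,2,2,0,0,0,0,0,0,0,0,0,0,2,2,2,2,2,2,2,2,2,2,2,2,2,2,2,2,2,2,2,2,2,2,2,2,2,2,2,0,0,0,0,0,0,0,0,0,0,0,0,0,0,0,0,0,0,0,0,0,0,0,0,0,0,0,0,0,0,0,0,0,0,0,0,0,0,0,0,0,0,0,0,0,0,0,0,0,0,0,0,0,0,0,0,0,0,0,0,0,0,0,0,0,0,0,0,0,0,0,0,0,0,0,0,0,0,0,0,0,0,0,0,0,0,0,0,0,0,0,0,0,0,0,0,0,0,0,0,2,2,2],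
   [4,0,0,0,0,0,0,0,0,0,0,0,0,0,0,0,0,0,0,0,0,4,2,0,1,2,0,1,0,0,0,0,0,0,0,0,0,0,2,2,2,1,1,1,1,0,0,0,0,0,0,0,0,0,0,2,2,2,4,0,0,0,0,0,0,0,0,0,0,0,0,0,0,0,0,0,0,0,0,0,0,0,0,0,0,0,0,0,0,0,0,0,0,0,0,0,0,0,0,0,0,0,0,0,0,0,0,0,0,0,0,0,0,0,0,0,0,0,0,0,0,0,0,0,0,0,0,0,0,0,0,0,0,0,0,0,0,0,0,0,0,0,0,0,0,0,0,0,0,0,0,0,0,0,0,0,0,0,0,0,0,0,0,0,0,0,0,0,0,0,0,0,0,0,0,0,0,0,0,0,0,0,0,0,0,0,0,0,0,0,0,0,0,0,0,0,0,0,0,0,0,0,0,0,0,0,0,0,0,0,0,0,0,0,0,0,0,0,0,0,0,0,0,0,0,0,0,0,0,0,0,0,0,0,0,0,0,0,0,0,0,0,0,0,0,0,0,0,0,0,0,0,0,0,0,0,0,0,0,4],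
   [4,0,0,0,0,0,0,0,0,0,0,2,2,2,2,2,2,2,2,2,0,2,1,0,2,0,0,1,0,0,0,0,0,0,0,0,0,0,0,0,0,0,0,0,0,0,0,0,2,2,2,0,0,0,0,0,0,0,0,0,0,1,1,1,1,2,2,2,0,0,0,0,0,0,0,0,0,0,2,2,2,2,2,2,2,2,2,2,2,2,2,2,2,2,2,2,2,2,2,2,2,2,2,2,2,0,0,0,0,0,0,0,0,0,0,0,0,0,0,0,0,0,0,0,0,0,0,0,0,0,0,0,0,0,0,0,0,0,0,0,0,0,0,0,0,0,0,0,0,0,0,0,0,0,0,0,0,0,0,0,0,0,0,0,0,0,0,0,0,0,0,0,0,0,0,0,0,0,0,0,0,0,0,0,0,0,0,0,0,0,0,0,0,0,0,0,0,0,0,0,0,0,0,0,0,4],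
   [0,0,0,0,0,0,0,0,0,0,2,2,2,2,2,2,3,3,3,3,0,2,0,2,0,0,2,0,1,0,0,0,0,0,0,0,0,0,0,2,2,2,0,0,0,0,0,0,0,0,0,0,0,0,0,0,0,0,0,0,0,0,2,2,2,0,0,0,0,0,0,0,0,0,0,2,2,2,0,0,0,0,0,0,0,0,0,0,3,3,3,3,3,3,3,3,2,2,2,2,2,2,2,2,2,2,2,2,2,2,2,2,2,2,0,0,0,0,0,0,0,0,0,0,0,0,0,0,0,0,0,0,0,0,0,0,0,0,0,0,0,0,0,0,0,0,0,0,0,0,0,0,0,0,0,0,0,0,0,0,0,0,0,0,0,0,0,0,0,0,0,0,0,0,0,0,0,0,0,0,0,0,0,0,0,0,0,0,0,0,0,0,0,0,0,0,0,0,0,0,0,0,0,0,0,0,0,0,0,0,0,0,0,0],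
   [0,0,0,0,0,0,0,0,0,0,0,0,0,0,0,0,0,0,0,0,2,2,2,0,2,2,2,0,0,1,0,0,0,0,0,0,0,0,0,0,0,0,0,0,0,0,0,0,0,0,2,2,2,2,2,2,2,2,2,0,0,0,0,0,0,0,0,0,0,2,2,2,2,2,2,2,2,2,0,0,0,0,0,0,0,0,0,0,0,0,0,0,0,0,0,0,0,0,0,0,0,0,0,0,0,0,0,0,0,0,0,0,0,0,0,0,0,0,0,0,0,0,0,0,0,0,0,0,0,0,0,0,0,0,0,0,0,0,0,0,0,0,0,0,0,0,0,0,0,0,0,0,0,0,0,0,0,0,0,0,0,0,0,0,0,0,0,0,0,0,0,0,0,0,0,0,0,0,0,0,0,0,0,0,0,0,0,0,0,0,0,0,0,0,0,0,0,0,0,0,0,0,0,0,0,0,0,0,0,0,0,0,0,0,0,0,0,0,0,0,0,0,0,0,0,0,0,0,0,0,0,0,0,0,0,0,0,0,0,0,0,0,0,0,0,0,0,0,0,0,0,0,0,0,0,0,0,0,0,0,0,0,0,0,0,0,0,0,0,0,0,0,0,0,0,0,0,0],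
   [1,0,0,0,0,0,0,0,0,0,0,2,2,2,2,2,2,3,3,3,3,0,2,0,2,0,0,2,0,1,0,0,0,0,0,0,0,0,0,0,2,2,2,0,0,0,0,0,0,0,0,0,0,0,0,0,0,0,0,0,0,0,0,2,2,2,0,0,0,0,0,0,0,0,0,0,2,2,2,0,0,0,0,0,0,0,0,0,0,3,3,3,3,3,3,3,3,2,2,2,2,2,2,2,2,2,2,2,2,2,2,2,2,2,2,0,0,0,0,0,0,0,0,0,0,0,0,0,0,0,0,0,0,0,0,0,0,0,0,0,0,0,0,0,0,0,0,0,0,0,0,0,0,0,0,0,0,0,0,0,0,0,0,0,0,0,0,0,0,0,0,0,0,0,0,0,0,0,0,0,0,0,0,0,0,0,0,0,0,0,0,0,0,0,0,0,0,0,0,0,0,0,0,0,0,0,0,0,0,0,0,0,0,0,0,1,1,1,1],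
   [2,0,0,0,0,0,0,0,0,0,0,2,2,2,2,2,2,3,3,3,3,0,2,0,2,0,0,2,0,1,0,0,0,0,0,0,0,0,0,0,2,2,2,0,0,0,0,0,0,0,0,0,0,0,0,0,0,0,0,0,0,0,0,2,2,2,0,0,0,0,0,0,0,0,0,0,2,2,2,0,0,0,0,0,0,0,0,0,0,3,3,3,3,3,3,3,3,2,2,2,2,2,2,2,2,2,2,2,2,2,2,2,2,2,2,0,0,0,0,0,0,0,0,0,0,0,0,0,0,0,0,0,0,0,0,0,0,0,0,0,0,0,0,0,0,0,0,0,0,0,0,0,0,0,0,0,0,0,0,0,0,0,0,0,0,0,0,0,0,0,0,0,0,0,0,0,0,0,0,0,0,0,0,0,0,0,0,0,0,0,0,0,0,0,0,0,0,0,0,0,0,0,0,0,0,0,0,0,0,0,0,0,0,0,0,2,2,2]]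

/-- The matrices of these elements. -/
def fiveMats : List (List ℕ) :=
  [[1,2,256,512,748,884,4,8,857,430,1024,2048],
   [238,119,2728,4092,1269,2138,753,850,189,214,1178,2287],
   [122,159,59,29,1310,2599,857,430,2258,3171,1254,2171],
   [258,515,274,547,1693,3046,2843,3373,4033,1346,1794,2307],
   [37,58,1580,2868,187,221,1652,2968,59,29,1052,2084],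
   [706,835,3574,1627,2266,3183,834,387,4080,1360,1410,2755],
   [3290,1135,1129,2238,494,631,3850,1295,1153,2242,3254,1243],
   [416,752,753,850,562,787,1321,2622,4047,1349,1875,2465],
   [3298,1139,3317,1114,1007,373,189,214,1393,2706,3218,1251],
   [912,480,2718,4071,3195,1181,3411,1697,1330,2579,1651,2961],
   [3522,1603,1537,2818,1693,3046,2952,3532,2040,2396,3970,1475],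
   [785,290,2631,3977,3768,2012,240,80,64,128,1584,2832],
   [1748,2920,1379,2737,747,893,1537,2818,3466,1743,2495,3797],
   [2662,4027,644,968,3695,1973,1246,2151,4033,1346,478,615],
   [1558,2859,158,231,3049,3454,3911,1417,1441,2802,2366,3607],
   [3036,3428,1506,2675,2227,3281,1979,2525,166,251,699,989],
   [2153,3262,3221,1258,1838,2359,3787,1869,2258,3171,212,104]]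

theorem five_mats_check : (fiveWords.map wordG == fiveMats) = true := by decide +kernel

theorem five_fix_checks :
    (((List.range 4096).filter fun x => app mF x == x).length == 16) = true ∧
    (((List.range 4096).filter fun x => app mF x == x).all fun x =>
      !cls693.testBit x || (x == fiveU) || (x == app mW fiveU) || (x == app mW (app mW fiveU))) = true ∧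
    (cls693.testBit fiveU && (app mF fiveU == fiveU) && !quad fiveU) = true ∧
    ((app mF fiveV == fiveV) && (app mT fiveV == fiveV) && quad fiveV) = true := by
  refine ⟨?_, ?_, ?_, ?_⟩ <;> decide +kernel

theorem five_rel_checks :
    (comp mT mF == comp mF mT) = true ∧ (comp mT mT == mI) = true ∧
    (comp mU mF == comp (comp mF mF) mU) = true ∧ (mpow mF 5 == mI) = true ∧ (mF != mI) = true := by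
  refine ⟨?_, ?_, ?_, ?_, ?_⟩ <;> decide +kernel

theorem five_sylow_checks :
    (fiveMats.length == 17) = true ∧
    (fiveMats.all fun g => (g != mI) && (mpow g 5 == mI) && (app g fiveU == fiveU)) = true ∧
    ((List.range 17).all fun i => (List.range 17).all fun j => (i == j) ||
      ((List.range 5).all fun e => fiveMats.getD i [] != mpow (fiveMats.getD j []) e)) = true := by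
  refine ⟨?_, ?_, ?_⟩ <;> decide +kernel

end CfsgLib.JankoFour.Rigid
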