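import Mathlib.Data.Nat.Bitwise
import Mathlib.Data.List.Range
import Cfsg.Agent.Lib.JankoFour.Rigid.Data

/-!
Bit matrices on the module of dimension twelve and the search for the third generator.
-/

set_option autoImplicit false
set_option maxRecDepth 100000
set_option Elab.async false

namespace CfsgLib.JankoFour.Rigid

/-- Apply a map to the lowest `k` bits. -/
def appUpTo (g : List ℕ) : ℕ → ℕ → ℕ
  | 0, _ => 0
  | k + 1, x => if x.testBit k then appUpTo g k x ^^^ g.getD k 0 else appUpTo g k x

/-- Apply a map. -/
def app (g : List ℕ) (x : ℕ) : ℕ := appUpTo g 12 x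

/-- The identity map. -/
def mI : List ℕ := (List.range 12).map fun k => 2 ^ k

/-- Composition. -/
def comp (g h : List ℕ) : List ℕ := h.map (app g)

/-- Powers. -/
def mpow (g : List ℕ) : ℕ → List ℕ
  | 0 => mI
  | k + 1 => comp g (mpow g k)

/-- The parity of the lowest `k` bits. -/
def parUpTo (x : ℕ) : ℕ → Bool
  | 0 => false
  | k + 1 => Bool.xor (parUpTo x k) (x.testBit k)

/-- The quadratic form on the lowest `k` bits. -/
def quadUpTo : ℕ → ℕ → Bool
  | 0, _ => false
  | k + 1, x =>
    if x.testBit k then
      Bool.xor (quadUpTo k x) (Bool.xor (quadMask.testBit k) (parUpTo ((gramMask.getD k 0) &&& x) k))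
    else quadUpTo k x

/-- The quadratic form. -/
def quad (x : ℕ) : Bool := quadUpTo 12 x

/-- The polar form. -/
def pol (x y : ℕ) : Bool := Bool.xor (quad (x ^^^ y)) (Bool.xor (quad x) (quad y))

/-- The images of the orbit of the second base vector. -/
def orbIm (x : ℕ) : List ℕ := (List.range 5).map fun i => app (mpow mF (2 * i)) x

/-- The conditions on the image of the second base vector. -/
def goodX (x : ℕ) : Bool :=
  let im := orbIm x
  (app (mpow mF 10) x == x) &&
    ((List.range 5).all fun i => (List.range 5).all fun j =>
      let a := im.getD i 0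
      let b := im.getD j 0
      let a' := orbBase.getD i 0
      let b' := orbBase.getD j 0
      (pol a b == pol a' b') && (pol a (app mW b) == pol a' (app mW b')) && (quad a == quad a'))

/-- The conditions on the image of the last base vector. -/
def goodW (w : ℕ) : Bool := (app (mpow mF 2) w == w) && quad w

/-- A scalar multiple, the scalar given by two bits. -/
def smulW (s x : ℕ) : ℕ :=
  (if s.testBit 0 then x else 0) ^^^ (if s.testBit 1 then app mW x else 0)

/-- The map determined by the two images. -/
def mkU (im : List ℕ) (w : ℕ) : List ℕ :=
  ((List.range 5).flatMap fun j =>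
    let c := coefOrb.getD j 0
    let v := (List.range 5).foldl (fun acc i => acc ^^^ smulW ((c >>> (2 * i)) % 4) (im.getD i 0)) 0
    [v, app mW v]) ++ [w, app mW w]

/-- The candidates for the image of the second base vector. -/
def xList : List ℕ := (List.range 4096).filter goodX

/-- The candidates for the image of the last base vector. -/
def wList : List ℕ := (List.range 4096).filter goodW

/-- Is a map one of the three scalars? -/
def isScalar (g : List ℕ) : Bool := (g == mI) || (g == mW) || (g == comp mW mW)

/-- The maps conjugate to `mU`, up to scalars. -/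
def uClass : List (List ℕ) := (List.range 3).flatMap fun i => (List.range 3).map fun j =>
  comp (mpow mW i) (comp (mpow mC j) (comp mU (mpow mC (3 - j))))

/-- The last filter. -/
def candOk (x w : ℕ) : Bool :=
  let im := orbIm x
  let U := mkU im w
  !(im.all fun a => !(pol a w) && !(pol a (app mW w))) ||
    !(isScalar (mpow (comp mA U) 5)) || uClass.contains U

end CfsgLib.JankoFour.Rigid
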