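import Mathlib.Data.List.GetD
import Mathlib.Tactic.NormNum
import Mathlib.Tactic.SplitIfs
import Cfsg.Agent.Lib.JankoFour.Rigid.Check

/-!
# Bit matrices: linearity, composition, words in the five generators
-/

set_option autoImplicit false

namespace CfsgLib.JankoFour.Rigid

theorem appUpTo_zero (g : List ℕ) : ∀ k, appUpTo g k 0 = 0
  | 0 => rfl
  | k + 1 => by simp [appUpTo, appUpTo_zero g k]

theorem app_zero (g : List ℕ) : app g 0 = 0 := appUpTo_zero g 12

theorem appUpTo_xor (g : List ℕ) : ∀ k x y,
    appUpTo g k (x ^^^ y) = appUpTo g k x ^^^ appUpTo g k y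
  | 0, x, y => by simp [appUpTo]
  | k + 1, x, y => by
    simp only [appUpTo, Nat.testBit_xor, appUpTo_xor g k x y]
    generalize appUpTo g k x = A
    generalize appUpTo g k y = B
    generalize g.getD k 0 = C
    cases x.testBit k <;> cases y.testBit k <;>
      simp [Nat.xor_assoc, Nat.xor_comm C]

theorem app_xor (g : List ℕ) (x y : ℕ) : app g (x ^^^ y) = app g x ^^^ app g y := appUpTo_xor g 12 x y

theorem app_appUpTo (g h : List ℕ) : ∀ k x, app g (appUpTo h k x) = appUpTo (comp g h) k x
  | 0, _ => app_zero g
  | k + 1, x => by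
    have hd : (comp g h).getD k 0 = app g (h.getD k 0) := by
      rw [comp, ← List.getD_map (f := app g), app_zero]
    simp only [appUpTo]
    split_ifs
    · rw [app_xor, app_appUpTo g h k x, hd]
    · exact app_appUpTo g h k x

theorem app_comp (g h : List ℕ) (x : ℕ) : app g (app h x) = app (comp g h) x := app_appUpTo g h 12 x

theorem appUpTo_congr (g : List ℕ) : ∀ k x y, (∀ i < k, x.testBit i = y.testBit i) →
    appUpTo g k x = appUpTo g k y
  | 0, _, _, _ => rfl
  | k + 1, x, y, h => by
    simp only [appUpTo, h k (Nat.lt_succ_self k), appUpTo_congr g k x y fun i hi => h i (Nat.lt_succ_of_lt hi)]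

theorem app_mod (g : List ℕ) (x : ℕ) : app g (x % 4096) = app g x :=
  appUpTo_congr g 12 _ _ fun i hi => by
    rw [show (4096 : ℕ) = 2 ^ 12 by norm_num, Nat.testBit_mod_two_pow]; simp [hi]

theorem mI_check : ((List.range 4096).all fun x => app mI x == x) = true := by decide +kernel

theorem app_mI (x : ℕ) : app mI x = x % 4096 := by
  rw [← app_mod]
  exact eq_of_beq (List.all_eq_true.1 mI_check (x % 4096) (List.mem_range.2 (Nat.mod_lt _ (by norm_num))))

/-- Twelve rows below `4096`. -/
def Valid (g : List ℕ) : Bool := (g.length == 12) && g.all fun x => Nat.blt x 4096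

theorem getD_lt {g : List ℕ} (h : Valid g = true) (k : ℕ) : g.getD k 0 < 4096 := by
  rw [List.getD_eq_getElem?_getD]
  rcases lt_or_ge k g.length with hk | hk
  · rw [List.getElem?_eq_getElem hk, Option.getD_some]
    simp only [Valid, Bool.and_eq_true, List.all_eq_true] at h
    exact Nat.le_of_ble_eq_true (h.2 _ (List.getElem_mem hk))
  · rw [List.getElem?_eq_none hk, Option.getD_none]; norm_num

theorem app_lt {g : List ℕ} (h : Valid g = true) (x : ℕ) : app g x < 4096 := by
  suffices ∀ k, appUpTo g k x < 2 ^ 12 from this 12
  intro k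
  induction k with
  | zero => simp [appUpTo]
  | succ k ih =>
    simp only [appUpTo]
    split_ifs
    · exact Nat.xor_lt_two_pow ih (getD_lt h k)
    · exact ih

theorem app_two_pow (g : List ℕ) {i : ℕ} (hi : i < 12) : app g (2 ^ i) = g.getD i 0 := by
  suffices ∀ k, appUpTo g k (2 ^ i) = if i < k then g.getD i 0 else 0 from (this 12).trans (if_pos hi)
  intro k
  induction k with
  | zero => simp [appUpTo]
  | succ k ih =>
    simp only [appUpTo, Nat.testBit_two_pow, ih]
    by_cases h : i = k
    · subst h; simp
    · simp only [h, decide_false, Bool.false_eq_true, if_false]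
      by_cases h2 : i < k
      · simp [h2, Nat.lt_succ_of_lt h2]
      · simp [h2, show ¬ i < k + 1 by omega]

theorem ext_valid {g h : List ℕ} (hg : Valid g = true) (hh : Valid h = true)
    (e : ∀ x < 4096, app g x = app h x) : g = h := by
  simp only [Valid, Bool.and_eq_true, beq_iff_eq] at hg hh
  refine List.ext_getElem (hg.1.trans hh.1.symm) fun i hi hi' => ?_
  have := e (2 ^ i) (by
    calc 2 ^ i ≤ 2 ^ 11 := Nat.pow_le_pow_right (by norm_num) (by omega)
      _ < 4096 := by norm_num)
  rw [app_two_pow g (by omega), app_two_pow h (by omega), List.getD_eq_getElem _ _ hi,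
    List.getD_eq_getElem _ _ hi'] at this
  exact this

/-- The five generators; the last one is the semilinear one. -/
def gensL : List (List ℕ) := [mA, mF, mU, mW, mT]

/-- The matrix of a word in the generators. -/
def wordG : List ℕ → List ℕ
  | [] => mI
  | i :: w => comp (gensL.getD i mI) (wordG w)

theorem gens_valid : (gensL.all Valid && Valid mI) = true := by decide +kernel

theorem comp_valid {g h : List ℕ} (hg : Valid g = true) (hh : Valid h = true) : Valid (comp g h) = true := by
  simp only [Valid, Bool.and_eq_true, beq_iff_eq] at hh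
  simp only [Valid, comp, List.length_map, hh.1, beq_self_eq_true, Bool.true_and, List.all_eq_true,
    List.mem_map]
  rintro x ⟨y, -, rfl⟩
  exact Nat.ble_eq_true_of_le (app_lt hg y)

theorem wordG_valid : ∀ w, Valid (wordG w) = true
  | [] => (Bool.and_eq_true _ _ ▸ gens_valid).2
  | i :: w => by
    refine comp_valid ?_ (wordG_valid w)
    have h := (Bool.and_eq_true _ _ ▸ gens_valid)
    rw [List.getD_eq_getElem?_getD]
    rcases lt_or_ge i gensL.length with hi | hi
    · rw [List.getElem?_eq_getElem hi, Option.getD_some]
      exact List.all_eq_true.1 h.1 _ (List.getElem_mem hi)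
    · rw [List.getElem?_eq_none hi, Option.getD_none]; exact h.2

/-- The equation of the powers, stated once so that the modules downstream share one copy. -/
theorem mpow_step (g : List ℕ) (k : ℕ) : mpow g (k + 1) = comp g (mpow g k) :=
  (mpow.eq_def g (k + 1)).trans rfl

end CfsgLib.JankoFour.Rigid
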