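import Mathlib.Data.Nat.Notation

/-!
Tables for the check of the candidates: the quadratic form, the powers of `mF`, the candidates.
-/

set_option autoImplicit false

namespace CfsgLib.JankoFour.Rigid

/-- The values of the quadratic form as a bit set. -/
def quadTab : ℕ := 0x714d2be817d4b28e1824bd7e8142dbe74d8e172bd4e871b2db187e42bd81e724e724427e81bddb1871b22b17e8d44d8e24188142bd7ee7db4d7117d42be88eb2bd7e182424187ebdd4178eb2b28e17d47e42db1818db427ee8d4b27171b2d4e8d4e88e4d4d8ee8d4427ee72424e77e42e82bb28e8eb22be88142241818244281714d2be817d4b28e1824bd7e8142dbe74d8e172bd4e871b2db187e42bd81e724e724427e81bddb1871b22b17e8d44d8e24188142bd7ee7db4d7117d42be88eb2bd7e182424187ebdd4178eb2b28e17d47e42db1818db427ee8d4b27171b2d4e8d4e88e4d4d8ee8d4427ee72424e77e42e82bb28e8eb22be88142241818244281714d2be817d4b28e1824bd7e8142dbe74d8e172bd4e871b2db187e42bd81e724e724427e81bddb1871b22b17e8d44d8e24188142bd7ee7db4d7117d42be88eb2bd7e182424187ebdd4178eb2b28e17d47e42db1818db427ee8d4b27171b2d4e8d4e88e4d4d8ee8d4427ee72424e77e42e82bb28e8eb22be881422418182442818eb2d417e82b4d71e7db42817ebd2418b271e8d42b178e4d24e781bd427e18db18dbbd817e4224e78e4dd4e8172bb271dbe77ebd42811824b28ee82bd417714d4281e7dbdbe781422be8714d4d71e82b81bd24e7e724bd81172b4d8e8e4d2b172b1771b2b271172bbd8118dbdb1881bd17d44d71714dd4177ebddbe7e7dbbd7e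

/-- The five even powers of `mF`. -/
def orbMats : List (List ℕ) := [[1,2,4,8,16,32,64,128,256,512,1024,2048],
  [1,2,857,430,470,619,256,512,542,807,1024,2048],
  [1,2,64,128,915,481,542,807,4,8,1024,2048],
  [1,2,256,512,748,884,4,8,857,430,1024,2048],
  [1,2,542,807,187,221,857,430,64,128,1024,2048]]

/-- The candidates for the image of the second base vector. -/
def xLit : List ℕ := [29,30,31,37,38,39,57,58,59,304,305,307,384,385,387,416,418,419,493,494,495,528,529,530,629,630,631,704,705,706,752,753,755,800,802,803,832,834,835,848,849,850,921,922,923,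
  1052,1060,1080,1330,1410,1441,1516,1555,1652,1731,1778,1825,1857,1875,1944,2076,2084,2104,2354,2434,2465,2540,2579,2676,2755,2802,2849,2881,2899,2968,3100,3108,3128,3378,3458,3489,3564,3603,3700,3779,3826,3873,3905,3923,3992]

/-- The candidates for the image of the last base vector. -/
def wLit : List ℕ := [1,2,3,1024,2048,3072]

/-- The nine conjugates of `mU` up to scalars. -/
def uLit : List (List ℕ) := [[2048,3072,1060,2104,3195,1181,1731,2881,1330,2579,3,1],
  [1024,2048,3108,1080,2171,3229,3779,1857,3378,1555,1,2],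
  [3072,1024,2084,3128,1147,2205,2755,3905,2354,3603,2,3],
  [3072,1024,2104,3100,1181,2278,2881,3458,2579,3873,1,2],
  [2048,3072,1080,2076,3229,1254,1857,2434,1555,2849,2,3],
  [1024,2048,3128,1052,2205,3302,3905,1410,3603,1825,3,1],
  [1024,2048,3100,1060,2278,3195,3458,1731,3873,1330,2,3],
  [3072,1024,2076,3108,1254,2171,2434,3779,2849,3378,3,1],
  [2048,3072,1052,2084,3302,1147,1410,2755,1825,2354,1,2]]

end CfsgLib.JankoFour.Rigid
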