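import Cfsg.Agent.Lib.JankoFour.Rigid.CheckQuad

/-!
The candidates for the two images, checked in chunks on the table of the quadratic form.
-/

set_option autoImplicit false
set_option maxRecDepth 100000
set_option Elab.async false

namespace CfsgLib.JankoFour.Rigid

/-- The polar form read off the table. -/
def polT (x y : ℕ) : Bool := Bool.xor (quadTab.testBit (x ^^^ y)) (Bool.xor (quadTab.testBit x) (quadTab.testBit y))

/-- The values on the second base vector of the polar form with the orbit and its twist. -/
def goodRow (x : ℕ) : Bool :=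
  quadTab.testBit x && (List.range 5).all fun j =>
    let b := app (orbMats.getD j []) x
    (polT x b == polT 4 (orbBase.getD j 0)) && (polT x (app mW b) == polT 4 (app mW (orbBase.getD j 0)))

/-- One chunk of the check of the first candidates. -/
def rowChunk (k : ℕ) : Bool := (List.range' (512 * k) 512).all fun x => !goodRow x || xLit.contains x

theorem row_chunk0 : rowChunk 0 = true := by decide +kernel
theorem row_chunk1 : rowChunk 1 = true := by decide +kernel
theorem row_chunk2 : rowChunk 2 = true := by decide +kernel
theorem row_chunk3 : rowChunk 3 = true := by decide +kernel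
theorem row_chunk4 : rowChunk 4 = true := by decide +kernel
theorem row_chunk5 : rowChunk 5 = true := by decide +kernel
theorem row_chunk6 : rowChunk 6 = true := by decide +kernel
theorem row_chunk7 : rowChunk 7 = true := by decide +kernel

theorem goodRow_mem {x : ℕ} (hx : x < 4096) (hg : goodRow x = true) : x ∈ xLit := by
  have h : ∀ k, rowChunk k = true → 512 * k ≤ x → x < 512 * k + 512 → x ∈ xLit := fun k hk h1 h2 => by
    have h3 := List.all_eq_true.1 hk x (List.mem_range'_1.2 ⟨h1, h2⟩)
    rw [hg, Bool.not_true, Bool.false_or] at h3
    exact List.contains_iff_mem.1 h3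
  have : x < 512 ∨ x < 1024 ∧ 512 ≤ x ∨ x < 1536 ∧ 1024 ≤ x ∨ x < 2048 ∧ 1536 ≤ x ∨ x < 2560 ∧ 2048 ≤ x ∨
      x < 3072 ∧ 2560 ≤ x ∨ x < 3584 ∧ 3072 ≤ x ∨ 3584 ≤ x := by omega
  rcases this with g | g | g | g | g | g | g | g
  · exact h 0 row_chunk0 (by omega) (by omega)
  · exact h 1 row_chunk1 (by omega) (by omega)
  · exact h 2 row_chunk2 (by omega) (by omega)
  · exact h 3 row_chunk3 (by omega) (by omega)
  · exact h 4 row_chunk4 (by omega) (by omega)
  · exact h 5 row_chunk5 (by omega) (by omega)
  · exact h 6 row_chunk6 (by omega) (by omega)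
  · exact h 7 row_chunk7 (by omega) (by omega)

theorem wLit_check :
    ((List.range 4096).all fun w => !quadTab.testBit w || !(app (orbMats.getD 1 []) w == w) || wLit.contains w) = true := by
  decide +kernel

end CfsgLib.JankoFour.Rigid
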