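import Cfsg.Agent.Lib.JankoFour.Rigid.Check
import Cfsg.Agent.Lib.JankoFour.Rigid.CheckData

/-!
The table of the quadratic form, checked in chunks.
-/

set_option autoImplicit false
set_option maxRecDepth 100000
set_option Elab.async false

namespace CfsgLib.JankoFour.Rigid

/-- One chunk of the check of the table. -/
def quadChunk (k : ℕ) : Bool := (List.range' (512 * k) 512).all fun x => quad x == quadTab.testBit x

theorem quad_chunk0 : quadChunk 0 = true := by decide +kernel
theorem quad_chunk1 : quadChunk 1 = true := by decide +kernel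
theorem quad_chunk2 : quadChunk 2 = true := by decide +kernel
theorem quad_chunk3 : quadChunk 3 = true := by decide +kernel
theorem quad_chunk4 : quadChunk 4 = true := by decide +kernel
theorem quad_chunk5 : quadChunk 5 = true := by decide +kernel
theorem quad_chunk6 : quadChunk 6 = true := by decide +kernel
theorem quad_chunk7 : quadChunk 7 = true := by decide +kernel

theorem quad_eq_tab {x : ℕ} (hx : x < 4096) : quad x = quadTab.testBit x := by
  have h : ∀ k, quadChunk k = true → 512 * k ≤ x → x < 512 * k + 512 → quad x = quadTab.testBit x :=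
    fun k hk h1 h2 => eq_of_beq (List.all_eq_true.1 hk x (List.mem_range'_1.2 ⟨h1, h2⟩))
  have : x < 512 ∨ x < 1024 ∧ 512 ≤ x ∨ x < 1536 ∧ 1024 ≤ x ∨ x < 2048 ∧ 1536 ≤ x ∨ x < 2560 ∧ 2048 ≤ x ∨
      x < 3072 ∧ 2560 ≤ x ∨ x < 3584 ∧ 3072 ≤ x ∨ 3584 ≤ x := by omega
  rcases this with g | g | g | g | g | g | g | g
  · exact h 0 quad_chunk0 (by omega) (by omega)
  · exact h 1 quad_chunk1 (by omega) (by omega)
  · exact h 2 quad_chunk2 (by omega) (by omega)
  · exact h 3 quad_chunk3 (by omega) (by omega)
  · exact h 4 quad_chunk4 (by omega) (by omega)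
  · exact h 5 quad_chunk5 (by omega) (by omega)
  · exact h 6 quad_chunk6 (by omega) (by omega)
  · exact h 7 quad_chunk7 (by omega) (by omega)

end CfsgLib.JankoFour.Rigid
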