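import Cfsg.Agent.Lib.JankoFour.Rigid.Basic

/-!
# Lifts of the three generators and the two base vectors
-/

set_option autoImplicit false
set_option linter.unusedSectionVars false

namespace CfsgLib.JankoFour

open Subgroup QuadraticMap Rigid
open CfsgLib.LargeFischer (vadd_self eq_of_vadd z2_cases q_add q_zero polar_self_zero)

variable {V : Type*} [AddCommGroup V] [Module (ZMod 2) V] [Finite V]
  {K : Type*} [Group K] [Finite K] [DistribMulAction K V]
  {q : QuadraticForm (ZMod 2) V} {n : K} {M : Subgroup K} {φ : ↥M →* ↥Cfsg.Spor.M22}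

/-- Lifts of the three generators. -/
structure Lifts (n : K) (M : Subgroup K) (a f u : K) : Prop where
  am : a ∈ M
  fm : f ∈ M
  um : u ∈ M
  a11 : a ^ 11 = 1
  f5 : f ^ 5 = 1
  a_ne : a ∉ zpowers n
  conj_fa : f * a * f⁻¹ = a ^ 4
  conj_uf : u * f * u⁻¹ = f ^ 2
  au_five : (a * u) ^ 5 ∈ zpowers n
  gen : M ≤ closure ({n, a, f, u} : Set K)
  cent_a : ∀ m ∈ M, m * a = a * m → ∃ i j : ℕ, m = a ^ i * n ^ j
  cent_f : ∀ m ∈ M, m * f = f * m → ∃ i j : ℕ, m = f ^ i * n ^ j

theorem Lifts.change {n n' : K} {a f u : K} (h : Lifts n M a f u) (hz : zpowers n = zpowers n') :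
    Lifts n' M a f u := by
  have hn : n ∈ zpowers n' := hz ▸ mem_zpowers n
  have hj : ∀ j : ℕ, ∃ j' : ℕ, n ^ j = n' ^ j' := fun j =>
    (isOfFinOrder_of_finite n').mem_powers_iff_mem_zpowers.2 (pow_mem hn j) |>.imp fun i hi => hi.symm
  refine ⟨h.am, h.fm, h.um, h.a11, h.f5, hz ▸ h.a_ne, h.conj_fa, h.conj_uf, hz ▸ h.au_five, ?_, ?_, ?_⟩
  · refine h.gen.trans ((closure_le _).2 ?_)
    simp only [Set.insert_subset_iff, Set.singleton_subset_iff, SetLike.mem_coe]
    refine ⟨?_, subset_closure (by simp), subset_closure (by simp), subset_closure (by simp)⟩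
    have hle : zpowers n' ≤ closure ({n', a, f, u} : Set K) := zpowers_le.2 (subset_closure (by simp))
    exact hle hn
  · intro m hm hma
    obtain ⟨i, j, rfl⟩ := h.cent_a m hm hma
    obtain ⟨j', e⟩ := hj j
    exact ⟨i, j', by rw [e]⟩
  · intro m hm hma
    obtain ⟨i, j, rfl⟩ := h.cent_f m hm hma
    obtain ⟨j', e⟩ := hj j
    exact ⟨i, j', by rw [e]⟩

namespace Core

variable (c : Core q n M φ)

include c

theorem zn_pow {x : K} (hx : x ∈ zpowers n) : x ^ 3 = 1 := by
  have h : orderOf x ∣ 3 := by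
    rw [← c.ordn]
    exact orderOf_dvd_of_mem_zpowers hx
  exact orderOf_dvd_iff_pow_eq_one.1 h

theorem zn_one {x : K} (hx : x ∈ zpowers n) {k : ℕ} (hk : x ^ k = 1) (h : k % 3 ≠ 0) : x = 1 := by
  have h1 : orderOf x ∣ 3 := orderOf_dvd_iff_pow_eq_one.2 (c.zn_pow hx)
  have h2 : orderOf x ∣ k := orderOf_dvd_iff_pow_eq_one.2 hk
  have h3 := Nat.dvd_gcd h1 h2
  have h4 : Nat.gcd 3 k = 1 := (Nat.prime_three.coprime_iff_not_dvd).2 fun hd => h (Nat.mod_eq_zero_of_dvd hd)
  rw [h4, Nat.dvd_one, orderOf_eq_one_iff] at h3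
  exact h3

theorem zn_comm {x : K} (hx : x ∈ zpowers n) {m : K} (hm : m ∈ M) : x * m = m * x := by
  obtain ⟨i, rfl⟩ := hx
  exact (Commute.zpow_right (show Commute m n from c.commute m hm) i).eq.symm

theorem ker_pow {x : ↥M} {k : ℕ} (hx : φ x ^ k = 1) : (x : K) ^ k ∈ zpowers n := by
  have := (c.ker (x ^ k)).1 (by rw [map_pow, hx])
  simpa using this

theorem exists_lifts : ∃ a f u : K, Lifts n M a f u := by
  obtain ⟨aS, fS, uS, hg⟩ := exists_gens
  obtain ⟨a0, ha0⟩ := c.surj aS
  obtain ⟨f0, hf0⟩ := c.surj fS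
  obtain ⟨u0, hu0⟩ := c.surj uS
  have ha : φ (a0 ^ 12) = aS := by
    rw [map_pow, ha0, show 12 = 11 + 1 from rfl, pow_succ, ← hg.orda, pow_orderOf_eq_one, one_mul]
  have hf : φ (f0 ^ 6) = fS := by
    rw [map_pow, hf0, show 6 = 5 + 1 from rfl, pow_succ, ← hg.ordf, pow_orderOf_eq_one, one_mul]
  obtain ⟨a, hadef, ha⟩ : ∃ a : ↥M, a = a0 ^ 12 ∧ φ a = aS := ⟨_, rfl, ha⟩
  obtain ⟨f, hfdef, hf⟩ : ∃ f : ↥M, f = f0 ^ 6 ∧ φ f = fS := ⟨_, rfl, hf⟩
  have a11 : (a : K) ^ 11 = 1 := by
    have h := c.zn_pow (c.ker_pow (x := a0) (k := 11 * 4) (by rw [ha0, pow_mul, ← hg.orda, pow_orderOf_eq_one, one_pow]))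
    rw [hadef, SubmonoidClass.coe_pow, ← pow_mul]
    rw [← pow_mul] at h
    exact h
  have f5 : (f : K) ^ 5 = 1 := by
    have h := c.zn_pow (c.ker_pow (x := f0) (k := 5 * 2) (by rw [hf0, pow_mul, ← hg.ordf, pow_orderOf_eq_one, one_pow]))
    rw [hfdef, SubmonoidClass.coe_pow, ← pow_mul]
    rw [← pow_mul] at h
    exact h
  have hdiff : ∀ x y : ↥M, φ x = φ y → (x : K) * (y : K)⁻¹ ∈ zpowers n := fun x y e => by
    have := (c.ker (x * y⁻¹)).1 (by rw [map_mul, map_inv, e, mul_inv_cancel])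
    simpa using this
  have conj_fa : (f : K) * a * (f : K)⁻¹ = (a : K) ^ 4 := by
    have hz := hdiff (f * a * f⁻¹) (a ^ 4) (by rw [map_mul, map_mul, map_inv, hf, map_pow, ha, hg.conjfa])
    simp only [Subgroup.coe_mul, Subgroup.coe_inv, SubmonoidClass.coe_pow] at hz
    have hcm : Commute ((f : K) * a * (f : K)⁻¹ * ((a : K) ^ 4)⁻¹) ((a : K) ^ 4) := c.zn_comm hz (pow_mem a.2 4)
    have hp : ((f : K) * a * (f : K)⁻¹ * ((a : K) ^ 4)⁻¹ * (a : K) ^ 4) ^ 11 = 1 := by
      rw [inv_mul_cancel_right, conj_pow, a11]; group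
    rw [hcm.mul_pow, ← pow_mul, mul_comm 4 11, pow_mul, a11, one_pow, mul_one] at hp
    exact mul_inv_eq_one.1 (c.zn_one hz hp (by norm_num))
  have conj_uf : (u0 : K) * f * (u0 : K)⁻¹ = (f : K) ^ 2 := by
    have hz := hdiff (u0 * f * u0⁻¹) (f ^ 2) (by rw [map_mul, map_mul, map_inv, hu0, hf, map_pow, hf, hg.conjuf])
    simp only [Subgroup.coe_mul, Subgroup.coe_inv, SubmonoidClass.coe_pow] at hz
    have hcm : Commute ((u0 : K) * f * (u0 : K)⁻¹ * ((f : K) ^ 2)⁻¹) ((f : K) ^ 2) := c.zn_comm hz (pow_mem f.2 2)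
    have hp : ((u0 : K) * f * (u0 : K)⁻¹ * ((f : K) ^ 2)⁻¹ * (f : K) ^ 2) ^ 5 = 1 := by
      rw [inv_mul_cancel_right, conj_pow, f5]; group
    rw [hcm.mul_pow, ← pow_mul, mul_comm 2 5, pow_mul, f5, one_pow, mul_one] at hp
    exact mul_inv_eq_one.1 (c.zn_one hz hp (by norm_num))
  have cent : ∀ (x : ↥M) (xS : ↥Cfsg.Spor.M22), φ x = xS → (∀ g, g * xS = xS * g → ∃ i : ℕ, g = xS ^ i) →
      ∀ m ∈ M, m * (x : K) = x * m → ∃ i j : ℕ, m = (x : K) ^ i * n ^ j := by
    intro x xS hx hc m hm hmx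
    obtain ⟨i, hi⟩ := hc (φ ⟨m, hm⟩) (by rw [← hx, ← map_mul, ← map_mul]; exact congrArg φ (Subtype.ext hmx))
    have hz := hdiff ⟨m, hm⟩ (x ^ i) (by rw [map_pow, hx, hi])
    simp only [SubmonoidClass.coe_pow] at hz
    obtain ⟨j, hj⟩ := (isOfFinOrder_of_finite n).mem_powers_iff_mem_zpowers.2 hz
    refine ⟨i, j, ?_⟩
    show m = (x : K) ^ i * n ^ j
    have hj' : n ^ j = m * ((x : K) ^ i)⁻¹ := hj
    rw [← c.zn_comm (pow_mem (mem_zpowers n) j) (pow_mem x.2 i), hj', inv_mul_cancel_right]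
  refine ⟨a, f, u0, a.2, f.2, u0.2, a11, f5, ?_, conj_fa, conj_uf, ?_, ?_,
    cent a aS ha hg.cent_a, cent f fS hf hg.cent_f⟩
  · intro h
    have := (c.ker a).2 h
    rw [ha] at this
    have h2 := hg.orda
    rw [this, orderOf_one] at h2
    norm_num at h2
  · have h := (c.ker ((a * u0) ^ 5)).1 (by rw [map_pow, map_mul, ha, hu0, hg.au_five])
    simpa using h
  · intro m hm
    set L := closure ({n, (a : K), (f : K), (u0 : K)} : Set K) with hL
    have hmap : ((L.subgroupOf M)).map φ = ⊤ := by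
      rw [eq_top_iff, ← hg.gen, closure_le]
      simp only [Set.insert_subset_iff, Set.singleton_subset_iff, SetLike.mem_coe]
      exact ⟨⟨a, subset_closure (by simp), ha⟩, ⟨f, subset_closure (by simp), hf⟩,
        ⟨u0, subset_closure (by simp), hu0⟩⟩
    obtain ⟨y, hy, e⟩ : φ ⟨m, hm⟩ ∈ (L.subgroupOf M).map φ := hmap ▸ mem_top _
    have hz := hdiff ⟨m, hm⟩ y e.symm
    have hzL : zpowers n ≤ L := zpowers_le.2 (subset_closure (by simp))
    have := L.mul_mem (hzL hz) hy
    simpa using this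

theorem fix_cases {a f u : K} (L : Lifts n M a f u) :
    Nat.card ↥(freePart (V := V) a) = 1024 ∧ Nat.card {x : V // a • x = x} = 4 := by
  have hne : ∃ x ∈ freePart (V := V) a, x ≠ 0 := by
    by_contra h
    simp only [not_exists, not_and, not_not] at h
    refine L.a_ne ?_
    have h1 : a = 1 := c.faithful a fun v => by
      have h0 := h _ (add_allSum_mem L.a11 v)
      have hv : v = allSum a v := eq_of_vadd h0
      rw [hv]
      exact smul_allSum L.a11 v
    rw [h1]; exact one_mem _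
  have hfree : Nat.card ↥(freePart (V := V) a) = 1024 :=
    card_free_sub L.a11 c.cardV _ le_rfl (fun x hx => by
      rw [mem_freePart, allSum_smul (Commute.refl a), show allSum a x = 0 from hx, smul_zero]) hne
  refine ⟨hfree, ?_⟩
  let e : V ≃ {x : V // a • x = x} × ↥(freePart (V := V) a) :=
    { toFun := fun v => (⟨allSum a v, smul_allSum L.a11 v⟩, ⟨v + allSum a v, add_allSum_mem L.a11 v⟩)
      invFun := fun p => p.1.1 + p.2.1
      left_inv := fun v => by
        show allSum a v + (v + allSum a v) = v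
        rw [add_comm v, ← add_assoc, vadd_self, zero_add]
      right_inv := fun p => by
        obtain ⟨⟨x, hx⟩, y, hy⟩ := p
        have h1 : allSum a (x + y) = x := by
          rw [allSum_add, allSum_fixed hx, show allSum a y = 0 from hy, add_zero]
        refine Prod.ext (Subtype.ext h1) (Subtype.ext ?_)
        show x + y + allSum a (x + y) = y
        rw [h1, add_comm x, add_assoc, vadd_self, add_zero] }
  have h := Nat.card_congr e
  rw [Nat.card_prod, hfree, c.cardV] at h
  norm_num at h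
  omega

theorem sigma_cases {a f u : K} (L : Lifts n M a f u) :
    (∀ x ∈ freePart (V := V) a, sigma a x = n • x) ∨ (∀ x ∈ freePart (V := V) a, sigma a x = (n * n) • x) := by
  by_cases h : ∀ x ∈ freePart (V := V) a, sigma a x = n • x
  · exact .inl h
  right
  simp only [not_forall] at h
  obtain ⟨x, hx, hne⟩ := h
  let S : AddSubgroup V :=
    { carrier := {y | y ∈ freePart (V := V) a ∧ sigma a y = (n * n) • y}
      zero_mem' := ⟨zero_mem _, by simp [sigma]⟩
      add_mem' := fun {y y'} hy hy' => ⟨add_mem hy.1 hy'.1, by rw [sigma_add, hy.2, hy'.2, smul_add]⟩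
      neg_mem' := fun {y} hy => by
        show -y ∈ freePart (V := V) a ∧ _
        rw [ZModModule.neg_eq_self]; exact hy }
  have hcm : ∀ (m : K), Commute m a → ∀ y : V, sigma a (m • y) = m • sigma a y := fun m hm y => by
    simp only [sigma, smul_add, smul_smul, (hm.pow_right _).eq, hm.eq]
  have hfree_smul : ∀ (m : K), Commute m a → ∀ y ∈ freePart (V := V) a, m • y ∈ freePart (V := V) a := by
    intro m hm y hy
    rw [mem_freePart, allSum_smul hm, show allSum a y = 0 from hy, smul_zero]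
  have hna : Commute n a := (c.commute a L.am).symm
  have hinv : ∀ y ∈ S, a • y ∈ S := fun y hy =>
    ⟨hfree_smul a (Commute.refl a) y hy.1, by
      rw [hcm a (Commute.refl a), hy.2, smul_smul, smul_smul, (hna.mul_left hna).eq]⟩
  have hsig : sigma a x ∈ freePart (V := V) a := by
    simp only [sigma]
    refine add_mem (add_mem (add_mem (add_mem ?_ ?_) ?_) ?_) ?_
    all_goals first
      | exact hfree_smul _ (Commute.refl a) x hx
      | exact hfree_smul _ ((Commute.refl a).pow_left _) x hx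
  have hy : sigma a x + n • x ∈ S := by
    refine ⟨add_mem hsig (hfree_smul n hna x hx), ?_⟩
    rw [sigma_add, hcm n hna, smul_add, smul_smul (n * n) n x, c.n_three, one_smul, c.smul_sq]
    have h2 := sigma_sigma L.a11 x
    rw [show allSum a x = 0 from hx, add_assoc] at h2
    rw [eq_of_vadd h2]
    abel
  have hcard := card_free_sub L.a11 c.cardV S (fun y hy => hy.1) hinv
    ⟨_, hy, fun e => hne (eq_of_vadd e)⟩
  have hS : S = freePart (V := V) a := AddSubgroup.eq_of_le_of_card_ge (fun y hy => hy.1)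
    (by rw [hcard, (c.fix_cases L).1])
  intro y hy
  rw [← hS] at hy
  exact hy.2

theorem fixed_of_mod {m : K} {p : ℕ} [Fact p.Prime] (hm : m ^ p = 1) (S : AddSubgroup V)
    (hS : ∀ x ∈ S, m • x ∈ S) (h : Nat.card ↥S % p ≠ 1 % p) : ∃ x ∈ S, x ≠ 0 ∧ m • x = x := by
  by_contra hc
  simp only [not_exists, not_and] at hc
  have h1 : Nat.card {x : ↥S // m • (x : V) = x} = 1 := by
    rw [Nat.card_eq_one_iff_unique]
    refine ⟨⟨fun x y => ?_⟩, ⟨⟨0, by simp⟩⟩⟩
    have e : ∀ z : {x : ↥S // m • (x : V) = x}, (z.1 : V) = 0 := fun z => by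
      by_contra h0
      exact hc _ z.1.2 h0 z.2
    exact Subtype.ext (Subtype.ext ((e x).trans (e y).symm))
  have := card_pgroup_fixed hm S hS
  rw [h1] at this
  exact h this

end Core

/-- Lifts with the two base vectors. -/
structure Base (q : QuadraticForm (ZMod 2) V) (n : K) (M : Subgroup K) (a f u : K) (v e : V) : Prop where
  lifts : Lifts n M a f u
  sig : ∀ x ∈ freePart (V := V) a, sigma a x = (n * n) • x
  v_mem : v ∈ freePart (V := V) a
  v_ne : v ≠ 0
  fv : f • v = v
  ae : a • e = e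
  e_ne : e ≠ 0
  fe : f • e = e
  fix : ∀ x : V, a • x = x → x = 0 ∨ x = e ∨ x = n • e ∨ x = n • n • e
  perp : ∀ x ∈ freePart (V := V) a, polar q e x = 0
  qe : q e = 1

theorem exists_base (c : Core q n M φ) :
    ∃ (n' a f u : K) (v e : V), (n' = n ∨ n' = n * n) ∧ Core q n' M φ ∧ Base q n' M a f u v e := by
  classical
  obtain ⟨a, f, u, L0⟩ := c.exists_lifts
  obtain ⟨n', hn', c', L, hsig⟩ : ∃ n', (n' = n ∨ n' = n * n) ∧ ∃ _ : Core q n' M φ, ∃ _ : Lifts n' M a f u,
      ∀ x ∈ freePart (V := V) a, sigma a x = (n' * n') • x := by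
    rcases c.sigma_cases L0 with h | h
    · refine ⟨n * n, .inr rfl, c.symm, L0.change ?_, fun x hx => ?_⟩
      · refine le_antisymm (zpowers_le.2 ?_) (zpowers_le.2 (mul_mem (mem_zpowers n) (mem_zpowers n)))
        have h4 : n * n * (n * n) = n := by rw [← mul_assoc, c.n_three, one_mul]
        have := mul_mem (mem_zpowers (n * n)) (mem_zpowers (n * n))
        rwa [h4] at this
      · rw [h x hx, show n * n * (n * n) = n by rw [← mul_assoc, c.n_three, one_mul]]
    · exact ⟨n, .inl rfl, c, L0, h⟩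
  have hfa : Commute f (1 : K) := Commute.one_right f
  obtain ⟨hfree, hfix⟩ := c'.fix_cases L
  haveI : Fact (Nat.Prime 5) := ⟨by norm_num⟩
  have hff : ∀ x ∈ freePart (V := V) a, f • x ∈ freePart (V := V) a := by
    intro x hx
    have hp : ∀ i : ℕ, f * a ^ i = a ^ (4 * i) * f := fun i => by
      rw [← mul_inv_eq_iff_eq_mul, ← conj_pow, L.conj_fa, pow_mul]
    have hi : ∀ i : ℕ, a ^ i • (f • x) = f • (a ^ (3 * i) • x) := fun i => by
      rw [smul_smul, smul_smul, hp, show 4 * (3 * i) = 11 * i + i by ring, pow_add, pow_mul, L.a11, one_pow,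
        one_mul]
    rw [mem_freePart] at hx ⊢
    simp only [allSum, hi, ← Finset.smul_sum]
    rw [show ∑ i ∈ Finset.range 11, a ^ (3 * i) • x = allSum a x from ?_, hx, smul_zero]
    simp only [allSum, Finset.sum_range_succ, Finset.sum_range_zero, zero_add, pow_eq_pow_mod (3 * _) L.a11]
    norm_num
    abel
  obtain ⟨v, hv, hv0, hfv⟩ := c'.fixed_of_mod L.f5 (freePart (V := V) a) hff (by rw [hfree]; norm_num)
  let W : AddSubgroup V :=
    { carrier := {x | a • x = x}
      zero_mem' := smul_zero a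
      add_mem' := fun {x y} hx hy => by
        show a • (x + y) = x + y
        rw [smul_add, show a • x = x from hx, show a • y = y from hy]
      neg_mem' := fun {x} hx => by
        show a • (-x) = -x
        rw [smul_neg, show a • x = x from hx] }
  have hWc : Nat.card ↥W = 4 := hfix
  have hfW : ∀ x ∈ W, f • x ∈ W := by
    intro x (hx : a • x = x)
    show a • f • x = f • x
    have h3 : a * f = f * a ^ 3 := by
      have hp : f * a ^ 3 * f⁻¹ = a := by
        rw [← conj_pow, L.conj_fa, ← pow_mul, show 4 * 3 = 11 + 1 by norm_num, pow_succ, L.a11, one_mul]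
      rw [eq_comm, ← mul_inv_eq_iff_eq_mul]
      exact hp
    rw [smul_smul, h3, mul_smul]
    congr 1
    simp only [pow_succ, pow_zero, one_mul, mul_smul, hx]
  obtain ⟨e, he, he0, hfe⟩ := c'.fixed_of_mod L.f5 W hfW (by rw [hWc]; norm_num)
  have hnW : ∀ x ∈ W, n' • x ∈ W := fun x (hx : a • x = x) => by
    show a • n' • x = n' • x
    rw [c'.smul_n_comm L.am, hx]
  have hfour : ∀ x : V, a • x = x → x = 0 ∨ x = e ∨ x = n' • e ∨ x = n' • n' • e := by
    intro x hx
    have h1 : n' • e ≠ e := fun h => he0 (c'.nfix e h)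
    have h0 : n' • e ≠ 0 := fun h => he0 (by rw [← one_smul K e, ← c'.n_three, mul_smul, h, smul_zero])
    have h2 : n' • n' • e ≠ 0 := fun h => he0 (by
      rw [← one_smul K e, ← c'.n_three, mul_assoc, mul_smul, mul_smul, h, smul_zero])
    have h3 : n' • n' • e ≠ e := fun h => h1 (by
      conv_lhs => rw [← h]
      rw [smul_smul, smul_smul, c'.n_three, one_smul])
    have h4 : n' • n' • e ≠ n' • e := fun h => h1 (MulAction.injective n' h)
    haveI : Fintype ↥W := Fintype.ofFinite _
    set S : Finset V := {0, e, n' • e, n' • n' • e} with hS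
    have hS4 : S.card = 4 := by
      rw [hS, Finset.card_insert_of_notMem, Finset.card_insert_of_notMem, Finset.card_pair h4.symm]
      · simp [Ne.symm h1, Ne.symm h3]
      · simp [Ne.symm he0, Ne.symm h0, Ne.symm h2]
    have hsub : S ⊆ (Finset.univ : Finset ↥W).map ⟨Subtype.val, Subtype.val_injective⟩ := by
      intro y hy
      rw [hS] at hy
      simp only [Finset.mem_insert, Finset.mem_singleton] at hy
      simp only [Finset.mem_map, Finset.mem_univ, true_and, Function.Embedding.coeFn_mk, Subtype.exists,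
        exists_prop, exists_eq_right]
      rcases hy with rfl | rfl | rfl | rfl
      exacts [W.zero_mem, he, hnW _ he, hnW _ (hnW _ he)]
    have heq := Finset.eq_of_subset_of_card_le hsub (by
      rw [Finset.card_map, Finset.card_univ, hS4, ← Nat.card_eq_fintype_card, hWc])
    have hxS : x ∈ S := by
      rw [heq]
      exact Finset.mem_map.2 ⟨⟨x, hx⟩, Finset.mem_univ _, rfl⟩
    simpa [hS] using hxS
  have hperp : ∀ w : V, a • w = w → ∀ x ∈ freePart (V := V) a, polar q w x = 0 := by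
    intro w hw x hx
    have hi : ∀ i : ℕ, polar q w (a ^ i • x) = polar q w x := fun i => by
      induction i with
      | zero => simp
      | succ i ih => rw [pow_succ', mul_smul]; nth_rw 1 [← hw]; rw [c'.pol_smul, ih]
    have hadd : ∀ s : Finset ℕ, polar q w (∑ i ∈ s, a ^ i • x) = ∑ _i ∈ s, polar q w x := by
      intro s
      induction s using Finset.induction_on with
      | empty => simp [polar]
      | insert i s hi' ih => rw [Finset.sum_insert hi', Finset.sum_insert hi', QuadraticMap.polar_add_right, ih, hi]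
    have h := hadd (Finset.range 11)
    rw [show ∑ i ∈ Finset.range 11, a ^ i • x = 0 from hx] at h
    simp only [QuadraticMap.polar_zero_right, Finset.sum_const, Finset.card_range] at h
    rcases z2_cases (polar q w x) with e0 | e0
    · exact e0
    · rw [e0] at h; exact absurd h (by decide)
  have hqe : q e = 1 := by
    rcases z2_cases (q e) with h | h
    swap
    · exact h
    exfalso
    refine he0 (c'.nondeg e fun w => ?_)
    have hq1 : ∀ x : V, a • x = x → q x = 0 := fun x hx => by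
      rcases hfour x hx with rfl | rfl | rfl | rfl <;> simp [c'.isom, h, q_zero]
    have hw : w = allSum a w + (w + allSum a w) := by
      rw [add_comm w, ← add_assoc, vadd_self, zero_add]
    rw [hw, QuadraticMap.polar_add_right, hperp e he _ (add_allSum_mem L.a11 w), add_zero, polar,
      hq1 _ (by rw [smul_add, he, smul_allSum L.a11]), h, hq1 _ (smul_allSum L.a11 w)]
    simp
  exact ⟨n', a, f, u, v, e, hn', c', L, hsig, hv, hv0, hfv, he, he0, hfe, hfour, hperp e he, hqe⟩

end CfsgLib.JankoFour
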