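import Cfsg.Agent.Lib.JankoFour.Core
import Cfsg.Agent.Lib.LargeFischer.Count
import Cfsg.Agent.Lib.JankoFour.Rigid.Apply

/-!
# The rigid model: coordinates in which five generators act by explicit matrices
-/

set_option autoImplicit false
set_option linter.unusedSectionVars false

namespace CfsgLib.JankoFour

open Subgroup QuadraticMap
open CfsgLib.LargeFischer (vadd_self)

variable {V : Type*} [AddCommGroup V] [Module (ZMod 2) V] [Finite V]
  {K : Type*} [Group K] [Finite K] [DistribMulAction K V]

/-- Bits read in the ring of two elements. -/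
def b2 (b : Bool) : ZMod 2 := if b then 1 else 0

theorem b2_xor (x y : Bool) : b2 (Bool.xor x y) = b2 x + b2 y := by cases x <;> cases y <;> decide

theorem b2_inj {x y : Bool} (h : b2 x = b2 y) : x = y := by
  revert h; cases x <;> cases y <;> decide

/-- `k` acts by the matrix `g`. -/
def Acts (crd : ℕ → V) (k : K) (g : List ℕ) : Prop := ∀ x, k • crd x = crd (Rigid.app g x)

theorem Acts.mul {crd : ℕ → V} {k k' : K} {g g' : List ℕ} (h : Acts crd k g) (h' : Acts crd k' g') :
    Acts crd (k * k') (Rigid.comp g g') := fun x => by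
  rw [mul_smul, h', h, Rigid.app_comp]

/-- The rigid model. -/
structure Rig (q : QuadraticForm (ZMod 2) V) (n : K) (M : Subgroup K) (crd : ℕ → V) (a f u t : K) : Prop where
  core : ∃ φ : ↥M →* ↥Cfsg.Spor.M22, Core q n M φ
  cardK : Nat.card K = 2661120
  crd_xor : ∀ x y, crd (x ^^^ y) = crd x + crd y
  crd_mod : ∀ x, crd (x % 4096) = crd x
  surj : ∀ y : V, ∃ x < 4096, crd x = y
  inj : ∀ x y, x < 4096 → y < 4096 → crd x = crd y → x = y
  q_crd : ∀ x, q (crd x) = b2 (Rigid.quad x)
  am : a ∈ M
  fm : f ∈ M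
  um : u ∈ M
  tm : t ∉ M
  gen : Subgroup.closure {a, f, u, n} = M
  actA : Acts crd a Rigid.mA
  actF : Acts crd f Rigid.mF
  actU : Acts crd u Rigid.mU
  actN : Acts crd n Rigid.mW
  actT : Acts crd t Rigid.mT

/-- The element of a word. -/
def wordK (a f u n t : K) : List ℕ → K
  | [] => 1
  | i :: w => [a, f, u, n, t].getD i 1 * wordK a f u n t w

namespace Rig

variable {q : QuadraticForm (ZMod 2) V} {n : K} {M : Subgroup K} {crd : ℕ → V} {a f u t : K}
  (R : Rig q n M crd a f u t)

include R

theorem crd_zero : crd 0 = 0 := by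
  have h := R.crd_xor 0 0
  rwa [Nat.xor_self, left_eq_add] at h

theorem crd_eq_zero {x : ℕ} (hx : x < 4096) : crd x = 0 ↔ x = 0 :=
  ⟨fun h => R.inj x 0 hx (by norm_num) (h.trans R.crd_zero.symm), fun h => h ▸ R.crd_zero⟩

theorem pol_crd (x y : ℕ) : polar q (crd x) (crd y) = b2 (Rigid.pol x y) := by
  rw [polar, ← R.crd_xor, R.q_crd, R.q_crd, R.q_crd, Rigid.pol, b2_xor, b2_xor]
  generalize b2 (Rigid.quad (x ^^^ y)) = A
  generalize b2 (Rigid.quad x) = A1
  generalize b2 (Rigid.quad y) = A2
  revert A A1 A2; decide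

theorem acts_one : Acts crd (1 : K) Rigid.mI := fun x => by rw [one_smul, Rigid.app_mI, R.crd_mod]

theorem acts_unique {k k' : K} {g : List ℕ} (h : Acts crd k g) (h' : Acts crd k' g) : k = k' := by
  obtain ⟨φ, c⟩ := R.core
  have : k⁻¹ * k' = 1 := c.faithful _ fun v => by
    obtain ⟨x, -, rfl⟩ := R.surj v
    rw [mul_smul, h', ← h, inv_smul_smul]
  exact inv_mul_eq_one.1 this

theorem acts_ext {k : K} {g g' : List ℕ} (hg : Rigid.Valid g = true) (hg' : Rigid.Valid g' = true)
    (h : Acts crd k g) (h' : Acts crd k g') : g = g' :=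
  Rigid.ext_valid hg hg' fun x _ =>
    R.inj _ _ (Rigid.app_lt hg x) (Rigid.app_lt hg' x) ((h x).symm.trans (h' x))

theorem acts_word : ∀ w : List ℕ, Acts crd (wordK a f u n t w) (Rigid.wordG w)
  | [] => R.acts_one
  | i :: w => by
    refine Acts.mul ?_ (acts_word w)
    match i with
    | 0 => exact R.actA
    | 1 => exact R.actF
    | 2 => exact R.actU
    | 3 => exact R.actN
    | 4 => exact R.actT
    | i + 5 => exact R.acts_one

theorem word_mem {w : List ℕ} (hw : (w.all fun i => Nat.blt i 4) = true) : wordK a f u n t w ∈ M := by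
  induction w with
  | nil => exact one_mem _
  | cons i w ih =>
    simp only [List.all_cons, Bool.and_eq_true] at hw
    refine mul_mem ?_ (ih hw.2)
    obtain ⟨φ, c⟩ := R.core
    match i, Nat.le_of_ble_eq_true hw.1 with
    | 0, _ => exact R.am
    | 1, _ => exact R.fm
    | 2, _ => exact R.um
    | 3, _ => exact c.nM
    | j + 4, hj => exact absurd hj (by omega)

theorem closure_top : Subgroup.closure {a, f, u, n, t} = (⊤ : Subgroup K) := by
  obtain ⟨φ, c⟩ := R.core
  have hle : M ≤ Subgroup.closure {a, f, u, n, t} := by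
    rw [← R.gen]; apply Subgroup.closure_mono; intro x hx; simp only [Set.mem_insert_iff, Set.mem_singleton_iff] at hx ⊢; tauto
  have ht : t ∈ Subgroup.closure {a, f, u, n, t} := Subgroup.subset_closure (by simp)
  refine eq_top_iff.2 fun k _ => ?_
  by_cases hk : k ∈ M
  · exact hle hk
  · have : t * k ∈ M := by
      rw [Subgroup.mul_mem_iff_of_index_two c.indexM]; exact iff_of_false R.tm hk
    simpa using mul_mem (inv_mem ht) (hle this)

/-- Induction along words in the generators. -/
theorem induction {P : K → Prop} (h1 : P 1) (hm : ∀ g ∈ ({a, f, u, n, t} : Set K), ∀ k, P k → P (g * k))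
    (k : K) : P k := by
  have h : k ∈ (Subgroup.closure ({a, f, u, n, t} : Set K)).toSubmonoid := by rw [R.closure_top]; trivial
  rw [Subgroup.closure_toSubmonoid_of_finite] at h
  induction h using Submonoid.closure_induction_left with
  | one => exact h1
  | mul_left g hg y _ ih => exact hm g hg y ih

/-- A set of coordinates closed under the five matrices is invariant under the whole group. -/
theorem invariant {S : ℕ → Prop} (hS : ∀ g ∈ Rigid.gensL, ∀ x < 4096, S x → S (Rigid.app g x))
    (k : K) {x : ℕ} (hx : x < 4096) (h : S x) : ∃ y < 4096, S y ∧ k • crd x = crd y := by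
  refine R.induction (P := fun k => ∃ y < 4096, S y ∧ k • crd x = crd y) ⟨x, hx, h, one_smul _ _⟩ ?_ k
  rintro g hg k ⟨y, hy, hSy, hk⟩
  obtain ⟨l, hl, hv, hact⟩ : ∃ l ∈ Rigid.gensL, Rigid.Valid l = true ∧ Acts crd g l := by
    rcases hg with rfl | rfl | rfl | rfl | rfl
    · exact ⟨_, by simp [Rigid.gensL], by decide, R.actA⟩
    · exact ⟨_, by simp [Rigid.gensL], by decide, R.actF⟩
    · exact ⟨_, by simp [Rigid.gensL], by decide, R.actU⟩
    · exact ⟨_, by simp [Rigid.gensL], by decide, R.actN⟩
    · exact ⟨_, by simp [Rigid.gensL], by decide, R.actT⟩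
  exact ⟨_, Rigid.app_lt hv y, hS l hl y hy hSy, by rw [mul_smul, hk, hact]⟩

end Rig

end CfsgLib.JankoFour
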