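import Cfsg.Agent.Lib.JankoFour.Rigid.Table
import Cfsg.Agent.Lib.JankoFour.Rigid.Lifts
import Cfsg.Agent.Lib.JankoFour.Rigid.Rig

/-!
# Coordinates on the module
-/

set_option autoImplicit false
set_option linter.unusedSectionVars false

namespace CfsgLib.JankoFour

open Subgroup QuadraticMap Rigid
open CfsgLib.LargeFischer (vadd_self eq_of_vadd z2_cases q_add q_zero polar_self_zero)

variable {V : Type*} [AddCommGroup V] [Module (ZMod 2) V] [Finite V]
  {K : Type*} [Group K] [Finite K] [DistribMulAction K V]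
  {q : QuadraticForm (ZMod 2) V} {n : K} {M : Subgroup K} {φ : ↥M →* ↥Cfsg.Spor.M22}

/-- The twelve base vectors. -/
def bVec (n a : K) (v e : V) (k : ℕ) : V :=
  if k < 10 then n ^ (k % 2) • (a ^ (k / 2) • v) else n ^ (k % 2) • e

/-- The combination of the first `k` base vectors. -/
def cmb (n a : K) (v e : V) : ℕ → ℕ → V
  | 0, _ => 0
  | k + 1, x => if x.testBit k then cmb n a v e k x + bVec n a v e k else cmb n a v e k x

/-- The vector with given coordinates. -/
def crd (n a : K) (v e : V) (x : ℕ) : V := cmb n a v e 12 x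

theorem cmb_xor (n a : K) (v e : V) : ∀ k x y : ℕ,
    cmb n a v e k (x ^^^ y) = cmb n a v e k x + cmb n a v e k y
  | 0, x, y => by simp [cmb]
  | k + 1, x, y => by
    simp only [cmb, Nat.testBit_xor, cmb_xor n a v e k x y]
    cases x.testBit k <;> cases y.testBit k <;> simp only [Bool.xor_false, Bool.xor_true, Bool.not_false,
      Bool.not_true, Bool.false_eq_true, if_false, if_true, ↓reduceIte]
    all_goals first
      | rfl
      | (rw [add_add_add_comm, vadd_self, add_zero]; done)
      | abel

theorem crd_xor (n a : K) (v e : V) (x y : ℕ) : crd n a v e (x ^^^ y) = crd n a v e x + crd n a v e y :=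
  cmb_xor n a v e 12 x y

theorem cmb_two_pow (n a : K) (v e : V) : ∀ k i : ℕ,
    cmb n a v e k (2 ^ i) = if i < k then bVec n a v e i else 0
  | 0, i => by simp [cmb]
  | k + 1, i => by
    simp only [cmb, Nat.testBit_two_pow, cmb_two_pow n a v e k i]
    by_cases h : i = k
    · subst h; simp
    · simp only [h, decide_false, Bool.false_eq_true, if_false]
      by_cases h2 : i < k
      · simp [h2, Nat.lt_succ_of_lt h2]
      · simp [h2, show ¬ i < k + 1 by omega]

theorem crd_two_pow (n a : K) (v e : V) {i : ℕ} (hi : i < 12) : crd n a v e (2 ^ i) = bVec n a v e i := by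
  rw [crd, cmb_two_pow, if_pos hi]

theorem crd_zero (n a : K) (v e : V) : crd n a v e 0 = 0 := by
  have h := crd_xor n a v e 0 0
  rwa [Nat.xor_self, left_eq_add] at h

/-- An additive map given by its values on the base vectors. -/
theorem crd_map (n a : K) (v e : V) (L : V → V) (hL : ∀ x y, L (x + y) = L x + L y) (g : List ℕ)
    (hg : ∀ k < 12, L (bVec n a v e k) = crd n a v e (g.getD k 0)) (x : ℕ) :
    L (crd n a v e x) = crd n a v e (app g x) := by
  have h0 : L 0 = 0 := by
    have h := hL 0 0
    rwa [add_zero, left_eq_add] at h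
  have key : ∀ k ≤ 12, L (cmb n a v e k x) = crd n a v e (appUpTo g k x) := by
    intro k
    induction k with
    | zero => intro _; simp [cmb, appUpTo, crd_zero, h0]
    | succ k ih =>
      intro hk
      simp only [cmb, appUpTo]
      cases x.testBit k
      · simpa using ih (by omega)
      · simp only [if_true, ↓reduceIte]
        rw [hL, ih (by omega), hg k (by omega), crd_xor]
  exact key 12 le_rfl

variable {a f u : K} {v e : V}

namespace Base

variable (c : Core q n M φ) (B : Base q n M a f u v e)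

include c B

theorem an (i : ℕ) (x : V) : a ^ i • (n • x) = n • (a ^ i • x) :=
  c.smul_n_comm (pow_mem B.lifts.am i) x

theorem bVec_even {j : ℕ} (hj : j < 5) : bVec n a v e (2 * j) = a ^ j • v := by
  rw [bVec, if_pos (by omega), show 2 * j % 2 = 0 by omega, show 2 * j / 2 = j by omega, pow_zero, one_smul]

theorem bVec_odd {j : ℕ} (hj : j < 5) : bVec n a v e (2 * j + 1) = n • (a ^ j • v) := by
  rw [bVec, if_pos (by omega), show (2 * j + 1) % 2 = 1 by omega, show (2 * j + 1) / 2 = j by omega, pow_one]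

theorem bVec_last : bVec n a v e 10 = e ∧ bVec n a v e 11 = n • e := by
  simp [bVec]

theorem n_crd (x : ℕ) : n • crd n a v e x = crd n a v e (app mW x) := by
  refine crd_map n a v e (fun y => n • y) (smul_add n) mW (fun k hk => ?_) x
  obtain ⟨h10, h11⟩ := B.bVec_last c
  have ho : ∀ j, j < 5 → n • bVec n a v e (2 * j + 1) = bVec n a v e (2 * j) + bVec n a v e (2 * j + 1) :=
    fun j hj => by rw [B.bVec_odd c hj, B.bVec_even c hj, c.smul_nn, add_comm]
  have he : ∀ j, j < 5 → n • bVec n a v e (2 * j) = bVec n a v e (2 * j + 1) :=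
    fun j hj => by rw [B.bVec_odd c hj, B.bVec_even c hj]
  have e2 : ∀ i, i < 12 → bVec n a v e i = crd n a v e (2 ^ i) := fun i hi => (crd_two_pow n a v e hi).symm
  interval_cases k
  · exact (he 0 (by omega)).trans (e2 1 (by omega))
  · exact ((ho 0 (by omega)).trans (by rw [e2 0 (by omega), e2 1 (by omega), ← crd_xor]; rfl))
  · exact (he 1 (by omega)).trans (e2 3 (by omega))
  · exact ((ho 1 (by omega)).trans (by rw [e2 2 (by omega), e2 3 (by omega), ← crd_xor]; rfl))
  · exact (he 2 (by omega)).trans (e2 5 (by omega))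
  · exact ((ho 2 (by omega)).trans (by rw [e2 4 (by omega), e2 5 (by omega), ← crd_xor]; rfl))
  · exact (he 3 (by omega)).trans (e2 7 (by omega))
  · exact ((ho 3 (by omega)).trans (by rw [e2 6 (by omega), e2 7 (by omega), ← crd_xor]; rfl))
  · exact (he 4 (by omega)).trans (e2 9 (by omega))
  · exact ((ho 4 (by omega)).trans (by rw [e2 8 (by omega), e2 9 (by omega), ← crd_xor]; rfl))
  · show n • bVec n a v e 10 = _
    rw [h10]
    exact h11.symm.trans (e2 11 (by omega))
  · show n • bVec n a v e 11 = _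
    rw [h11, c.smul_nn]
    exact (congrArg₂ (· + ·) (h11.symm.trans (e2 11 (by omega))) (h10.symm.trans (e2 10 (by omega)))).trans
      (crd_xor n a v e _ _).symm

theorem five : a ^ 5 • v = crd n a v e 857 := by
  have h := c.pOp_eq_zero B.lifts.am B.lifts.a11 B.v_mem (B.sig v B.v_mem)
  rw [pOp] at h
  have e2 : ∀ i, i < 12 → bVec n a v e i = crd n a v e (2 ^ i) := fun i hi => (crd_two_pow n a v e hi).symm
  have hv : v = crd n a v e 1 := by
    have h' := e2 0 (by omega)
    rw [B.bVec_even c (j := 0) (by omega), pow_zero, one_smul] at h'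
    exact h'
  have h1 : n • a • v = crd n a v e 8 := by
    have h' := e2 3 (by omega)
    rw [B.bVec_odd c (j := 1) (by omega), pow_one] at h'
    exact h'
  have h2 : a ^ 2 • v = crd n a v e 16 := by
    have h' := e2 4 (by omega); rw [B.bVec_even c (j := 2) (by omega)] at h'; exact h'
  have h3 : a ^ 3 • v = crd n a v e 64 := by
    have h' := e2 6 (by omega); rw [B.bVec_even c (j := 3) (by omega)] at h'; exact h'
  have h4 : a ^ 4 • v = crd n a v e 256 := by
    have h' := e2 8 (by omega); rw [B.bVec_even c (j := 4) (by omega)] at h'; exact h'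
  have h4' : (n * n) • a ^ 4 • v = crd n a v e 768 := by
    have h' := e2 9 (by omega); rw [B.bVec_odd c (j := 4) (by omega)] at h'
    rw [c.smul_sq, h', h4, ← crd_xor]
    rfl
  have := eq_of_vadd h
  rw [← this, h1, h2, h3, h4']
  nth_rw 1 [hv]
  rw [← crd_xor, ← crd_xor, ← crd_xor, ← crd_xor]
  rfl

theorem a_crd (x : ℕ) : a • crd n a v e x = crd n a v e (app mA x) := by
  refine crd_map n a v e (fun y => a • y) (smul_add a) mA (fun k hk => ?_) x
  obtain ⟨h10, h11⟩ := B.bVec_last c
  have e2 : ∀ i, i < 12 → bVec n a v e i = crd n a v e (2 ^ i) := fun i hi => (crd_two_pow n a v e hi).symm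
  have he : ∀ j, j < 5 → a • bVec n a v e (2 * j) = a ^ (j + 1) • v :=
    fun j hj => by rw [B.bVec_even c hj, smul_smul, ← pow_succ']
  have ho : ∀ j, j < 5 → a • bVec n a v e (2 * j + 1) = n • (a ^ (j + 1) • v) :=
    fun j hj => by rw [B.bVec_odd c hj, c.smul_n_comm B.lifts.am, smul_smul a, ← pow_succ']
  interval_cases k
  · exact (he 0 (by omega)).trans ((B.bVec_even c (j := 1) (by omega)).symm.trans (e2 2 (by omega)))
  · exact (ho 0 (by omega)).trans ((B.bVec_odd c (j := 1) (by omega)).symm.trans (e2 3 (by omega)))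
  · exact (he 1 (by omega)).trans ((B.bVec_even c (j := 2) (by omega)).symm.trans (e2 4 (by omega)))
  · exact (ho 1 (by omega)).trans ((B.bVec_odd c (j := 2) (by omega)).symm.trans (e2 5 (by omega)))
  · exact (he 2 (by omega)).trans ((B.bVec_even c (j := 3) (by omega)).symm.trans (e2 6 (by omega)))
  · exact (ho 2 (by omega)).trans ((B.bVec_odd c (j := 3) (by omega)).symm.trans (e2 7 (by omega)))
  · exact (he 3 (by omega)).trans ((B.bVec_even c (j := 4) (by omega)).symm.trans (e2 8 (by omega)))
  · exact (ho 3 (by omega)).trans ((B.bVec_odd c (j := 4) (by omega)).symm.trans (e2 9 (by omega)))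
  · exact (he 4 (by omega)).trans (B.five c)
  · refine (ho 4 (by omega)).trans ?_
    rw [B.five c, B.n_crd c, eq_of_beq table_checks.2.2.2.2.2.2.1]
    rfl
  · show a • bVec n a v e 10 = _
    rw [h10, B.ae]
    exact h10.symm.trans (e2 10 (by omega))
  · show a • bVec n a v e 11 = _
    rw [h11, c.smul_n_comm B.lifts.am, B.ae]
    exact h11.symm.trans (e2 11 (by omega))

theorem a_pow_crd (i x : ℕ) : a ^ i • crd n a v e x = crd n a v e (app (mpow mA i) x) := by
  refine crd_map n a v e (fun y => a ^ i • y) (smul_add _) (mpow mA i) (fun k hk => ?_) x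
  induction i with
  | zero =>
    rw [pow_zero, one_smul, ← crd_two_pow n a v e hk]
    simp [mpow, mI, List.getD_eq_getElem?_getD, hk]
  | succ i ih =>
    rw [pow_succ', mul_smul, ih, B.a_crd c]
    show _ = crd n a v e ((Rigid.comp mA (mpow mA i)).getD k 0)
    congr 1
    rw [Rigid.comp, ← List.getD_map (f := app mA), app_zero]

theorem f_pow_a (j : ℕ) : f • (a ^ j • v) = a ^ (4 * j) • v := by
  have hp : f * a ^ j = a ^ (4 * j) * f := by
    rw [← mul_inv_eq_iff_eq_mul, ← conj_pow, B.lifts.conj_fa, pow_mul]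
  rw [smul_smul, hp, mul_smul, B.fv]

theorem f_crd (x : ℕ) : f • crd n a v e x = crd n a v e (app mF x) := by
  refine crd_map n a v e (fun y => f • y) (smul_add f) mF (fun k hk => ?_) x
  obtain ⟨h10, h11⟩ := B.bVec_last c
  have e2 : ∀ i, i < 12 → bVec n a v e i = crd n a v e (2 ^ i) := fun i hi => (crd_two_pow n a v e hi).symm
  have hv : v = crd n a v e 1 := by
    have h' := e2 0 (by omega)
    rw [B.bVec_even c (j := 0) (by omega), pow_zero, one_smul] at h'
    exact h'
  have htab := List.all_eq_true.1 table_checks.2.2.2.2.2.1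
  rcases (show k < 10 ∨ k = 10 ∨ k = 11 by omega) with h | rfl | rfl
  · have hj := htab (k / 2) (List.mem_range.2 (by omega))
    rw [Bool.and_eq_true] at hj
    have hav : a ^ (4 * (k / 2)) • v = crd n a v e (app (mpow mA (4 * (k / 2))) 1) := by
      conv_lhs => rw [hv]
      exact B.a_pow_crd c _ 1
    rcases Nat.even_or_odd k with ⟨j, rfl⟩ | ⟨j, rfl⟩
    · rw [show j + j = 2 * j by ring, show 2 * j / 2 = j by omega] at hav hj
      show f • bVec n a v e (j + j) = _
      rw [show j + j = 2 * j by ring, B.bVec_even c (by omega), B.f_pow_a c, hav, eq_of_beq hj.1]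
    · rw [show (2 * j + 1) / 2 = j by omega] at hav hj
      show f • bVec n a v e (2 * j + 1) = _
      rw [B.bVec_odd c (by omega), c.smul_n_comm B.lifts.fm, B.f_pow_a c, hav, B.n_crd c, eq_of_beq hj.2]
  · show f • bVec n a v e 10 = _
    rw [h10, B.fe]
    exact h10.symm.trans (e2 10 (by omega))
  · show f • bVec n a v e 11 = _
    rw [h11, c.smul_n_comm B.lifts.fm, B.fe]
    exact h11.symm.trans (e2 11 (by omega))

theorem free_smul {m : K} (hm : Commute m a) {y : V} (hy : y ∈ freePart (V := V) a) :
    m • y ∈ freePart (V := V) a := by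
  rw [mem_freePart, allSum_smul hm, show allSum a y = 0 from hy, smul_zero]

theorem na : Commute n a := (c.commute a B.lifts.am).symm

theorem crd_free {x : ℕ} (hx : x < 1024) : crd n a v e x ∈ freePart (V := V) a := by
  have key : ∀ k ≤ 12, cmb n a v e k x ∈ freePart (V := V) a := by
    intro k
    induction k with
    | zero => intro _; exact zero_mem _
    | succ k ih =>
      intro hk
      simp only [cmb]
      cases h : x.testBit k
      · simpa using ih (by omega)
      · simp only [if_true, ↓reduceIte]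
        have hk10 : k < 10 := by
          by_contra h10
          rw [Nat.testBit_lt_two_pow (show x < 2 ^ k from lt_of_lt_of_le hx (by
            calc (1024 : ℕ) = 2 ^ 10 := by norm_num
              _ ≤ 2 ^ k := Nat.pow_le_pow_right (by norm_num) (by omega)))] at h
          exact absurd h Bool.false_ne_true
        refine add_mem (ih (by omega)) ?_
        rw [bVec, if_pos hk10]
        exact B.free_smul c ((B.na c).pow_left _) (B.free_smul c ((Commute.refl a).pow_left _) B.v_mem)
  exact key 12 le_rfl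

theorem crd_surj (y : V) : ∃ x < 4096, crd n a v e x = y := by
  classical
  let S : AddSubgroup V :=
    { carrier := {y | ∃ x < 1024, crd n a v e x = y}
      zero_mem' := ⟨0, by norm_num, crd_zero n a v e⟩
      add_mem' := fun {y y'} ⟨x, hx, hy⟩ ⟨x', hx', hy'⟩ =>
        ⟨x ^^^ x', Nat.xor_lt_two_pow (n := 10) hx hx', by rw [crd_xor, hy, hy']⟩
      neg_mem' := fun {y} ⟨x, hx, hy⟩ => ⟨x, hx, by rw [ZModModule.neg_eq_self]; exact hy⟩ }
  have hle : S ≤ freePart (V := V) a := by rintro _ ⟨x, hx, rfl⟩; exact B.crd_free c hx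
  have hinv : ∀ y ∈ S, a • y ∈ S := by
    rintro _ ⟨x, hx, rfl⟩
    exact ⟨_, Nat.le_of_ble_eq_true (List.all_eq_true.1 table_checks.2.2.2.1 x (List.mem_range.2 hx)), (B.a_crd c x).symm⟩
  have hv0 : v = crd n a v e (2 ^ 0) := by
    rw [crd_two_pow n a v e (by omega)]
    simp [bVec]
  have hS := card_free_sub B.lifts.a11 c.cardV S hle hinv ⟨v, ⟨2 ^ 0, by norm_num, hv0.symm⟩, B.v_ne⟩
  have heq : S = freePart (V := V) a :=
    AddSubgroup.eq_of_le_of_card_ge hle (by rw [hS, (c.fix_cases B.lifts).1])
  have hmem : y + allSum a y ∈ S := heq ▸ add_allSum_mem B.lifts.a11 y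
  obtain ⟨x, hx, hxy⟩ := hmem
  obtain ⟨h10, h11⟩ := B.bVec_last c
  obtain ⟨w, hw, hwy⟩ : ∃ w < 4096, crd n a v e w = allSum a y := by
    rcases B.fix _ (smul_allSum B.lifts.a11 y) with h | h | h | h <;> rw [h]
    · exact ⟨0, by norm_num, crd_zero n a v e⟩
    · exact ⟨2 ^ 10, by norm_num, (crd_two_pow n a v e (by omega)).trans h10⟩
    · exact ⟨2 ^ 11, by norm_num, (crd_two_pow n a v e (by omega)).trans h11⟩
    · refine ⟨2 ^ 11 ^^^ 2 ^ 10, by decide, ?_⟩
      rw [crd_xor, crd_two_pow n a v e (by omega), crd_two_pow n a v e (by omega), h10, h11, c.smul_nn]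
  refine ⟨x ^^^ w, Nat.xor_lt_two_pow (n := 12) (by omega) hw, ?_⟩
  rw [crd_xor, hxy, hwy, add_assoc, vadd_self, add_zero]

theorem crd_inj {x y : ℕ} (hx : x < 4096) (hy : y < 4096) (h : crd n a v e x = crd n a v e y) : x = y := by
  have hbij : Function.Bijective (fun i : Fin 4096 => crd n a v e i) := by
    refine (Nat.bijective_iff_surjective_and_card _).2 ⟨fun z => ?_, by rw [Nat.card_fin, c.cardV]; norm_num⟩
    obtain ⟨w, hw, e⟩ := B.crd_surj c z
    exact ⟨⟨w, hw⟩, e⟩
  exact congrArg Fin.val (hbij.1 (a₁ := ⟨x, hx⟩) (a₂ := ⟨y, hy⟩) h)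

theorem pol_n_left (x y : V) : polar q (n • x) y = polar q x ((n * n) • y) := by
  rw [← c.pol_smul (n * n) (n • x) y, smul_smul, c.n_three, one_smul]

theorem base_val : ∀ s < 3, ∀ k < 11, polar q v (n ^ s • (a ^ k • v)) = b2 (baseVal s k) := by
  set g : ℕ → ZMod 2 := fun k => polar q v (a ^ k • v) with hg
  set r : ℕ → ZMod 2 := fun k => polar q v (n • (a ^ k • v)) with hr
  have hf : ∀ k, g (4 * k % 11) = g k ∧ r (4 * k % 11) = r k := by
    intro k
    have e : a ^ (4 * k % 11) • v = f • (a ^ k • v) := by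
      rw [B.f_pow_a c, ← pow_eq_pow_mod _ B.lifts.a11]
    constructor
    · show polar q v (a ^ (4 * k % 11) • v) = polar q v (a ^ k • v)
      nth_rw 1 [e, ← B.fv]
      rw [c.pol_smul]
    · show polar q v (n • (a ^ (4 * k % 11) • v)) = polar q v (n • (a ^ k • v))
      rw [e, ← c.smul_n_comm B.lifts.fm]
      nth_rw 1 [← B.fv]
      rw [c.pol_smul]
  have hsym : ∀ k, k ≤ 11 → g (11 - k) = g k ∧ r (11 - k) = r k + g k := by
    intro k hk
    have e : ∀ y : V, polar q v y = polar q (a ^ k • v) (a ^ k • y) := fun y => (c.pol_smul _ _ _).symm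
    have e' : a ^ k • (a ^ (11 - k) • v) = v := by
      rw [smul_smul, ← pow_add, Nat.add_sub_cancel' hk, B.lifts.a11, one_smul]
    constructor
    · show polar q v (a ^ (11 - k) • v) = _
      rw [e, e', QuadraticMap.polar_comm]
    · show polar q v (n • (a ^ (11 - k) • v)) = _
      rw [e, B.an c, e', QuadraticMap.polar_comm, B.pol_n_left c, c.smul_sq, QuadraticMap.polar_add_right]
  have g0 : g 0 = 0 := by
    show polar q v (a ^ 0 • v) = 0
    rw [pow_zero, one_smul, polar_self_zero]
  have gk : ∀ k, 1 ≤ k → k < 11 → g k = g 1 := by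
    have a4 : g 4 = g 1 := (hf 1).1
    have a5 : g 5 = g 1 := (hf 4).1.trans a4
    have a9 : g 9 = g 1 := (hf 5).1.trans a5
    have a3 : g 3 = g 1 := (hf 9).1.trans a9
    intro k h1 h2
    interval_cases k
    · rfl
    · exact (hsym 9 (by omega)).1.trans a9
    · exact a3
    · exact a4
    · exact a5
    · exact (hsym 5 (by omega)).1.trans a5
    · exact (hsym 4 (by omega)).1.trans a4
    · exact (hsym 3 (by omega)).1.trans a3
    · exact a9
    · exact (hsym 1 (by omega)).1
  have r4 : r 4 = r 1 := (hf 1).2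
  have r5 : r 5 = r 1 := (hf 4).2.trans r4
  have r9 : r 9 = r 1 := (hf 5).2.trans r5
  have r3 : r 3 = r 1 := (hf 9).2.trans r9
  have r2 : r 2 = r 1 + g 1 := by rw [(hsym 9 (by omega)).2, r9, gk 9 (by omega) (by omega)]
  have r6 : r 6 = r 1 + g 1 := by rw [(hsym 5 (by omega)).2, r5, gk 5 (by omega) (by omega)]
  have r7 : r 7 = r 1 + g 1 := by rw [(hsym 4 (by omega)).2, r4, gk 4 (by omega) (by omega)]
  have r8 : r 8 = r 1 + g 1 := by rw [(hsym 3 (by omega)).2, r3, gk 3 (by omega) (by omega)]
  have r10 : r 10 = r 1 + g 1 := (hsym 1 (by omega)).2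
  have r0 : r 0 = g 1 := by
    have h : polar q v (n • allSum a v) = 0 := by
      rw [show allSum a v = 0 from B.v_mem, smul_zero, QuadraticMap.polar_zero_right]
    simp only [allSum, smul_add, Finset.sum_range_succ, Finset.sum_range_zero, zero_add,
      QuadraticMap.polar_add_right] at h
    change r 0 + r 1 + r 2 + r 3 + r 4 + r 5 + r 6 + r 7 + r 8 + r 9 + r 10 = 0 at h
    rw [r2, r3, r4, r5, r6, r7, r8, r9, r10] at h
    revert h
    generalize r 0 = A; generalize r 1 = B; generalize g 1 = C
    revert A B C; decide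
  have r1 : r 1 = 0 := by
    have h : polar q v (n • (a • pOp n a v)) = 0 := by
      rw [c.pOp_eq_zero B.lifts.am B.lifts.a11 B.v_mem (B.sig v B.v_mem), smul_zero, smul_zero,
        QuadraticMap.polar_zero_right]
    have hp : ∀ (i : ℕ) (y : V), a • (a ^ i • y) = a ^ (i + 1) • y := fun i y => by rw [pow_succ', mul_smul]
    have hp2 : ∀ y : V, a • (a • y) = a ^ 2 • y := fun y => by rw [pow_two, mul_smul]
    have hnn : ∀ y : V, a • ((n * n) • y) = (n * n) • (a • y) := fun y => by
      rw [mul_smul, mul_smul, c.smul_n_comm B.lifts.am, c.smul_n_comm B.lifts.am]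
    have hn3 : ∀ y : V, n • ((n * n) • y) = y := fun y => by
      rw [smul_smul, ← mul_assoc, c.n_three, one_smul]
    simp only [pOp, smul_add, c.smul_n_comm B.lifts.am, hnn, hp, hp2, hn3, QuadraticMap.polar_add_right,
      c.smul_nn] at h
    have ea : polar q v (n • a • v) = r 1 := by simp [hr]
    rw [ea] at h
    change r 1 + (r 2 + g 2) + r 3 + r 4 + g 5 + r 6 = 0 at h
    rw [r2, r3, r4, r6, gk 2 (by omega) (by omega), gk 5 (by omega) (by omega)] at h
    revert h
    generalize r 1 = B; generalize g 1 = C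
    revert B C; decide
  have g1 : g 1 = 1 := by
    rcases z2_cases (g 1) with h | h
    swap
    · exact h
    exfalso
    refine B.v_ne (c.nondeg v fun y => ?_)
    obtain ⟨x, -, rfl⟩ := B.crd_surj c y
    have key : ∀ k ≤ 12, polar q v (cmb n a v e k x) = 0 := by
      intro k
      induction k with
      | zero => intro _; simp [cmb]
      | succ k ih =>
        intro hk
        simp only [cmb]
        split_ifs
        · rw [QuadraticMap.polar_add_right, ih (by omega), zero_add]
          rcases (show k < 10 ∨ k = 10 ∨ k = 11 by omega) with hk' | rfl | rfl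
          · rw [bVec, if_pos hk']
            have hg0 : ∀ j, j < 5 → g j = 0 ∧ r j = 0 := by
              intro j hj
              interval_cases j
              · exact ⟨g0, r0.trans h⟩
              · exact ⟨h, r1⟩
              · exact ⟨(gk 2 (by omega) (by omega)).trans h, by rw [r2, r1, h]; simp⟩
              · exact ⟨(gk 3 (by omega) (by omega)).trans h, r3.trans r1⟩
              · exact ⟨(gk 4 (by omega) (by omega)).trans h, r4.trans r1⟩
            rcases Nat.mod_two_eq_zero_or_one k with e0 | e0 <;> rw [e0]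
            · rw [pow_zero, one_smul]; exact (hg0 _ (by omega)).1
            · rw [pow_one]; exact (hg0 _ (by omega)).2
          · rw [(B.bVec_last c).1, QuadraticMap.polar_comm]; exact B.perp v B.v_mem
          · rw [(B.bVec_last c).2, QuadraticMap.polar_comm, B.pol_n_left c]
            exact B.perp _ (B.free_smul c ((B.na c).mul_left (B.na c)) B.v_mem)
        · exact ih (by omega)
    exact key 12 le_rfl
  intro s hs k hk
  have hrk : r k = b2 (baseVal 1 k) ∧ g k = b2 (baseVal 0 k) := by
    refine ⟨?_, ?_⟩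
    · interval_cases k <;> simp only [r0, r1, r2, r3, r4, r5, r6, r7, r8, r9, r10, g1] <;> decide
    · rcases Nat.eq_zero_or_pos k with rfl | hk1
      · rw [g0]; decide
      · rw [gk k hk1 hk, g1]
        have : baseVal 0 k = true := by simp [baseVal, Nat.mod_eq_of_lt hk]; omega
        rw [this]; rfl
  interval_cases s
  · rw [pow_zero, one_smul]; exact hrk.2
  · rw [pow_one]; exact hrk.1
  · rw [pow_two, c.smul_sq, QuadraticMap.polar_add_right]
    show r k + g k = _
    rw [hrk.1, hrk.2, ← b2_xor]
    congr 1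
    interval_cases k <;> decide

theorem polar_bVec {i j : ℕ} (hi : i < 12) (hj : j < 12) :
    polar q (bVec n a v e i) (bVec n a v e j) = b2 ((gramMask.getD i 0).testBit j) := by
  obtain ⟨h10, h11⟩ := B.bVec_last c
  obtain ⟨t1, t2, t3, -⟩ := table_checks
  simp only [List.all_eq_true, List.mem_range, Bool.and_eq_true, Bool.not_eq_true', beq_iff_eq] at t1 t2 t3
  have hfree : ∀ k, k < 10 → bVec n a v e k ∈ freePart (V := V) a := fun k hk => by
    rw [bVec, if_pos hk]
    exact B.free_smul c ((B.na c).pow_left _) (B.free_smul c ((Commute.refl a).pow_left _) B.v_mem)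
  have hlow : ∀ k, k < 10 → polar q (bVec n a v e 10) (bVec n a v e k) = 0 ∧
      polar q (bVec n a v e 11) (bVec n a v e k) = 0 := fun k hk => by
    rw [h10, h11, B.pol_n_left c]
    exact ⟨B.perp _ (hfree k hk), B.perp _ (B.free_smul c ((B.na c).mul_left (B.na c)) (hfree k hk))⟩
  have hen : polar q e (n • e) = 1 := by
    rw [polar, c.isom, B.qe, add_comm e, ← c.smul_nn, c.isom, c.isom, B.qe]; decide
  rcases (show i < 10 ∨ i = 10 ∨ i = 11 by omega) with hi' | rfl | rfl <;>
    rcases (show j < 10 ∨ j = 10 ∨ j = 11 by omega) with hj' | rfl | rfl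
  · rw [t1 i hi' j hj', bVec, if_pos hi', bVec, if_pos hj',
      ← c.pol_smul (n ^ (3 - i % 2) * a ^ (11 - i / 2))]
    have hcn : ∀ p r : ℕ, Commute (n ^ p) (a ^ r) := fun p r => (B.na c).pow_pow p r
    have e1 : (n ^ (3 - i % 2) * a ^ (11 - i / 2)) • n ^ (i % 2) • a ^ (i / 2) • v = v := by
      simp only [smul_smul]
      rw [show n ^ (3 - i % 2) * a ^ (11 - i / 2) * (n ^ (i % 2) * a ^ (i / 2)) =
          (n ^ (3 - i % 2) * n ^ (i % 2)) * (a ^ (11 - i / 2) * a ^ (i / 2)) by
        rw [mul_assoc, ← mul_assoc (a ^ _), ← (hcn (i % 2) (11 - i / 2)).eq]; group,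
        ← pow_add, ← pow_add, show 3 - i % 2 + i % 2 = 3 by omega, show 11 - i / 2 + i / 2 = 11 by omega,
        B.lifts.a11, mul_one, pow_three, ← mul_assoc, c.n_three, one_smul]
    have e2 : (n ^ (3 - i % 2) * a ^ (11 - i / 2)) • n ^ (j % 2) • a ^ (j / 2) • v =
        n ^ ((j % 2 + (3 - i % 2)) % 3) • a ^ ((j / 2 + (11 - i / 2)) % 11) • v := by
      simp only [smul_smul]
      rw [show n ^ (3 - i % 2) * a ^ (11 - i / 2) * (n ^ (j % 2) * a ^ (j / 2)) =
          (n ^ (3 - i % 2) * n ^ (j % 2)) * (a ^ (11 - i / 2) * a ^ (j / 2)) by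
        rw [mul_assoc, ← mul_assoc (a ^ _), ← (hcn (j % 2) (11 - i / 2)).eq]; group,
        ← pow_add, ← pow_add, add_comm (3 - i % 2), add_comm (11 - i / 2),
        pow_eq_pow_mod (j / 2 + (11 - i / 2)) B.lifts.a11,
        pow_eq_pow_mod (j % 2 + (3 - i % 2)) (show n ^ 3 = 1 by rw [pow_three, ← mul_assoc, c.n_three])]
    rw [e1, e2, B.base_val c _ (Nat.mod_lt _ (by norm_num)) _ (Nat.mod_lt _ (by norm_num))]
    congr 1
    simp [baseVal, Nat.mod_mod]
  · rw [(t2 i hi').1.1.1, QuadraticMap.polar_comm]; exact (hlow i hi').1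
  · rw [(t2 i hi').1.1.2, QuadraticMap.polar_comm]; exact (hlow i hi').2
  · rw [(t2 j hj').1.2]; exact (hlow j hj').1
  · rw [t3.1.2, polar_self_zero]; rfl
  · rw [h10, h11, t3.1.1.1, hen]; rfl
  · rw [(t2 j hj').2]; exact (hlow j hj').2
  · rw [h10, h11, t3.1.1.2, QuadraticMap.polar_comm, hen]; rfl
  · rw [t3.2, polar_self_zero]; rfl

theorem q_bVec {i : ℕ} (hi : i < 12) : q (bVec n a v e i) = 1 := by
  have hv : q v = 1 := by
    have h := B.base_val c 1 (by norm_num) 0 (by norm_num)
    rw [pow_one, pow_zero, one_smul, polar, c.isom, add_comm v, ← c.smul_nn, c.isom, c.isom,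
      show baseVal 1 0 = true from rfl] at h
    revert h
    generalize q v = A
    revert A; decide
  rw [bVec]
  split_ifs
  · rw [c.isom, c.isom, hv]
  · rw [c.isom, B.qe]

theorem q_crd (x : ℕ) : q (crd n a v e x) = b2 (quad x) := by
  have hpol : ∀ i < 12, ∀ k ≤ 12, polar q (cmb n a v e k x) (bVec n a v e i) =
      b2 (parUpTo ((gramMask.getD i 0) &&& x) k) := by
    intro i hi k
    induction k with
    | zero => intro _; simp [cmb, parUpTo, b2]
    | succ k ih =>
      intro hk
      simp only [cmb, parUpTo, Nat.testBit_land]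
      cases x.testBit k
      · simpa using ih (by omega)
      · simp only [if_true, ↓reduceIte, Bool.and_true]
        rw [QuadraticMap.polar_add_left, ih (by omega), QuadraticMap.polar_comm q (bVec n a v e k),
          B.polar_bVec c hi (by omega), b2_xor]
  have key : ∀ k ≤ 12, q (cmb n a v e k x) = b2 (quadUpTo k x) := by
    intro k
    induction k with
    | zero => intro _; simp [cmb, quadUpTo, b2, q_zero]
    | succ k ih =>
      intro hk
      simp only [cmb, quadUpTo]
      cases x.testBit k
      · simpa using ih (by omega)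
      · simp only [if_true, ↓reduceIte]
        rw [q_add, ih (by omega), B.q_bVec c (by omega), hpol k (by omega) k (by omega),
          b2_xor, b2_xor, List.all_eq_true.1 table_checks.2.2.2.2.1 k (List.mem_range.2 (by omega)), add_assoc]
        rfl
  exact key 12 le_rfl

theorem pol_crd (x y : ℕ) : polar q (crd n a v e x) (crd n a v e y) = b2 (pol x y) := by
  rw [polar, ← crd_xor, B.q_crd c, B.q_crd c, B.q_crd c, pol, b2_xor, b2_xor]
  generalize b2 (quad (x ^^^ y)) = A
  generalize b2 (quad x) = A1
  generalize b2 (quad y) = A2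
  revert A A1 A2; decide

end Base

end CfsgLib.JankoFour
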