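import Cfsg.Agent.Lib.JankoFour.Rigid.HexadOrbit
import Cfsg.Agent.Lib.JankoFour.Rigid.Orbit

/-!
# The facts about the hexad groups
-/

set_option autoImplicit false
set_option linter.unusedSectionVars false
set_option linter.style.haveILetI false

namespace CfsgLib.JankoFour

open Subgroup QuadraticMap
open CfsgLib.LargeFischer (perpSub perpSub_card vadd_self eq_of_vadd q_add z2_cases)

variable {V : Type*} [AddCommGroup V] [Module (ZMod 2) V] [Finite V]
  {K : Type*} [Group K] [Finite K] [DistribMulAction K V]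
  {q : QuadraticForm (ZMod 2) V} {n : K} {M : Subgroup K} {crd : ℕ → V} {a f u t : K}

/-- An elementary group of order sixteen of the index-two subgroup with a fixed space of order 64. -/
def HexLike (M : Subgroup K) (V : Type*) [AddCommGroup V] [DistribMulAction K V] (A : Subgroup K) : Prop :=
  A ≤ M ∧ Cfsg.IsElementaryAbelian 2 A ∧ Nat.card ↥A = 16 ∧ (fixSet (V := V) A).ncard = 64

theorem Hex.like {s : V} {A : Subgroup K} (h : Hex q n M s A) : HexLike M V A :=
  ⟨h.le, h.elem, h.card, h.fix_card⟩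

theorem map_conj_inv (B : Subgroup K) (y : K) :
    (B.map (MulAut.conj y).toMonoidHom).map (MulAut.conj y⁻¹).toMonoidHom = B := by
  rw [Subgroup.map_map]
  convert Subgroup.map_id B
  ext x; simp [mul_assoc]

theorem fixSet_conj_cls (A : Subgroup K) (y : K) (S : Set V) (hS : ∀ v, v ∈ S → y • v ∈ S) (hS' : ∀ v, v ∈ S → y⁻¹ • v ∈ S) :
    {v : V | v ∈ fixSet (A.map (MulAut.conj y).toMonoidHom) ∧ v ∈ S} =
      (fun v => y • v) '' {v : V | v ∈ fixSet A ∧ v ∈ S} := by
  ext v
  rw [Set.mem_setOf_eq, fixSet_map]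
  constructor
  · rintro ⟨⟨w, hw, rfl⟩, hv⟩
    exact ⟨w, ⟨hw, by simpa using hS' _ hv⟩, rfl⟩
  · rintro ⟨w, ⟨hw, hwS⟩, rfl⟩
    exact ⟨⟨w, hw, rfl⟩, hS w hwS⟩

namespace Rig

variable (R : Rig q n M crd a f u t)

include R

theorem conj_mem_M {y x : K} (hx : x ∈ M) : y * x * y⁻¹ ∈ M := by
  obtain ⟨φ, c⟩ := R.core
  exact (Subgroup.normal_of_index_eq_two c.indexM).conj_mem x hx y

theorem map_le_M {A : Subgroup K} (hA : A ≤ M) (y : K) : A.map (MulAut.conj y).toMonoidHom ≤ M := by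
  rintro _ ⟨x, hx, rfl⟩
  exact R.conj_mem_M (hA hx)

theorem hexLike_conj {A : Subgroup K} (h : HexLike M V A) (y : K) :
    HexLike M V (A.map (MulAut.conj y).toMonoidHom) := by
  refine ⟨R.map_le_M h.1 y, elem_map_conj h.2.1 y, ?_, ?_⟩
  · rw [card_map_of_injective (MulEquiv.injective _)]; exact h.2.2.1
  · rw [fixSet_map, ncard_smul_image]; exact h.2.2.2

theorem p0_hex {B : Subgroup K} (hB : Cfsg.IsElementaryAbelian 2 B) (hle : B ≤ p0Sub crd)
    (h16 : 16 ≤ Nat.card ↥B) (hfix : 5 ≤ (fixSet (V := V) B).ncard) : B = a0Sub crd := by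
  rcases R.p0_big hB hle h16 with h | ⟨-, hb⟩
  · exact h
  exfalso
  have hsub : fixSet (V := V) B ⊆
      crd '' {x | x ∈ (List.range 4096).filter fun x => Rigid.b0Gen.all fun i => Rigid.app (Rigid.p0At i) x == x} := by
    intro v hv
    obtain ⟨x, hx, rfl⟩ := R.surj v
    refine ⟨x, List.mem_filter.2 ⟨List.mem_range.2 hx, List.all_eq_true.2 fun i hi => ?_⟩, rfl⟩
    have h4 := Rigid.group_checks.2.2.2.1
    simp only [Bool.and_eq_true, List.all_eq_true, List.contains_iff_mem] at h4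
    obtain ⟨g, hg, hga⟩ := hb i (h4.2 i hi)
    have e := hv g hg
    rw [hga] at e
    have h5 := Rigid.group_checks.2.2.2.2
    simp only [Bool.and_eq_true, List.all_eq_true] at h5
    exact beq_iff_eq.2 (R.inj _ _ (Rigid.app_lt (R.p0_valid i (Nat.le_of_ble_eq_true (h5.1.1.2 i (h4.2 i hi)))) x) hx e)
  have h1 := (Set.ncard_le_ncard hsub (Set.toFinite _)).trans (Set.ncard_image_le (List.finite_toSet _))
  rw [show {x | x ∈ (List.range 4096).filter fun x => Rigid.b0Gen.all fun i => Rigid.app (Rigid.p0At i) x == x} =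
      ↑((List.range 4096).filter fun x => Rigid.b0Gen.all fun i => Rigid.app (Rigid.p0At i) x == x).toFinset by
      ext x; simp, Set.ncard_coe_finset] at h1
  have h2 := (List.toFinset_card_le _).trans Rigid.fix_checks.2.2.1
  omega

theorem hexLike_a0 : HexLike M V (a0Sub crd : Subgroup K) :=
  ⟨R.a0_le, R.a0_elem, R.a0_card, by rw [R.fix_a0]; exact R.w0_ncard⟩

/-- Every such group is conjugate in `M` to the listed one. -/
theorem hexLike_exists {A : Subgroup K} (h : HexLike M V A) :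
    ∃ y ∈ M, A = (a0Sub crd : Subgroup K).map (MulAut.conj y).toMonoidHom := by
  obtain ⟨y, hy, hyle⟩ := R.conj_into (isPGroup_of_elem h.2.1) h.1
  have h' := R.hexLike_conj h y
  refine ⟨y⁻¹, inv_mem hy, ?_⟩
  rw [← R.p0_hex h'.2.1 hyle h'.2.2.1.ge (by rw [h'.2.2.2]; norm_num), map_conj_inv]

/-- The fixed space of such a group is one of the 77 images. -/
theorem hexLike_fix {A : Subgroup K} (h : HexLike M V A) :
    ∃ i < 77, fixSet A = (wSet crd i : Set V) ∧ (i = 0 → A = a0Sub crd) := by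
  obtain ⟨y, -, rfl⟩ := R.hexLike_exists h
  obtain ⟨i, hi, e⟩ := R.w0_image y
  refine ⟨i, hi, by rw [fixSet_map, R.fix_a0, e], fun h0 => ?_⟩
  subst h0
  refine Subgroup.eq_of_le_of_card_ge (fun x hx => R.pointwise fun v hv => ?_)
    (by rw [R.a0_card, card_map_of_injective (MulEquiv.injective _), R.a0_card])
  rw [← wSet_zero, ← e, ← R.fix_a0, ← fixSet_map] at hv
  exact hv x hx

theorem orbit_cls {s : V} (hs : s ≠ 0) (hq : q s = 0) (h : (MulAction.orbit K s).ncard = 693) :
    MulAction.orbit K s = crd '' {x | x < 4096 ∧ Rigid.cls693.testBit x = true} := by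
  have hr0 : crd Rigid.root693 ≠ 0 := by
    rw [Ne, R.crd_eq_zero (by decide)]; decide
  have hrq : q (crd Rigid.root693) = 0 := by
    rw [R.q_crd, show Rigid.quad Rigid.root693 = false by decide +kernel]; rfl
  rw [← R.orbit693]
  exact (MulAction.orbit_eq_iff.2 (R.orbit_eq s _ hs hq hr0 hrq (h.trans R.orbit693_card.symm))).symm

theorem crd_mem_cls {cls x : ℕ} (hx : x < 4096) :
    crd x ∈ crd '' {y | y < 4096 ∧ cls.testBit y = true} ↔ cls.testBit x = true :=
  ⟨fun ⟨y, hy, e⟩ => R.inj y x hy.1 hx e ▸ hy.2, fun h => ⟨x, ⟨hx, h⟩, rfl⟩⟩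

theorem w0_count (p : ℕ → Bool) (S : Set V) (hS : ∀ x ∈ Rigid.w0L, (crd x ∈ S ↔ p x = true)) :
    {v : V | v ∈ (w0Set crd : Set V) ∧ v ∈ S}.ncard = (Rigid.w0L.filter p).length := by
  obtain ⟨h, -⟩ := Rigid.w0_checks
  simp only [Bool.and_eq_true, decide_eq_true_eq] at h
  have e : {v : V | v ∈ (w0Set crd : Set V) ∧ v ∈ S} = crd '' {x | x ∈ Rigid.w0L.filter p} := by
    ext v
    constructor
    · rintro ⟨⟨x, hx, rfl⟩, hv⟩; exact ⟨x, List.mem_filter.2 ⟨hx, (hS x hx).1 hv⟩, rfl⟩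
    · rintro ⟨x, hx, rfl⟩
      obtain ⟨h1, h2⟩ := List.mem_filter.1 hx
      exact ⟨⟨x, h1, rfl⟩, (hS x h1).2 h2⟩
  rw [e, Set.InjOn.ncard_image (s := {x | x ∈ Rigid.w0L.filter p})
      (fun x hx y hy e => R.inj x y (R.w0_lt (List.mem_filter.1 hx).1) (R.w0_lt (List.mem_filter.1 hy).1) e),
    show {x | x ∈ Rigid.w0L.filter p} = ↑(Rigid.w0L.filter p).toFinset by ext x; simp, Set.ncard_coe_finset,
    List.toFinset_card_of_nodup (h.1.2.filter _)]

/-- The count of central vectors singles out the short orbit. -/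
theorem hex_class {s : V} {A : Subgroup K} (h : Hex q n M s A) :
    MulAction.orbit K s = crd '' {x | x < 4096 ∧ Rigid.cls693.testBit x = true} := by
  obtain ⟨v, hv, hv0, hvs⟩ : (csetK A s).Nonempty := Set.nonempty_of_ncard_ne_zero (by rw [h.cset_card]; norm_num)
  have hvq : q v = 0 := h.sing v hv
  rw [← MulAction.orbit_eq_iff.2 hvs]
  rcases R.orbit_two v hv0 hvq with h1 | h1
  · rw [MulAction.orbit_eq_iff.2 h1, R.orbit693]
  exfalso
  have ho : MulAction.orbit K s = crd '' {x | x < 4096 ∧ Rigid.cls1386.testBit x = true} := by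
    rw [← MulAction.orbit_eq_iff.2 hvs, MulAction.orbit_eq_iff.2 h1, R.orbit1386]
  obtain ⟨y, -, rfl⟩ := R.hexLike_exists h.like
  have hz : ∀ w : V, w ∈ MulAction.orbit K s → w ≠ 0 := by
    intro w hw e
    subst e
    rw [← MulAction.orbit_eq_iff.2 hvs] at hw
    obtain ⟨k, hk⟩ := hw
    exact hv0 ((smul_eq_zero_iff_eq k).1 hk)
  have hc : (csetK ((a0Sub crd : Subgroup K).map (MulAut.conj y).toMonoidHom) s).ncard =
      (Rigid.w0L.filter fun x => Rigid.cls1386.testBit x).length := by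
    rw [show csetK ((a0Sub crd : Subgroup K).map (MulAut.conj y).toMonoidHom) s =
      {w : V | w ∈ fixSet ((a0Sub crd : Subgroup K).map (MulAut.conj y).toMonoidHom) ∧ w ∈ MulAction.orbit K s}
      from Set.ext fun w => ⟨fun h => ⟨h.1, h.2.2⟩, fun h => ⟨h.1, hz w h.2, h.2⟩⟩,
      fixSet_conj_cls _ _ _ (fun w hw => MulAction.mem_orbit_of_mem_orbit _ hw)
        (fun w hw => MulAction.mem_orbit_of_mem_orbit _ hw), ncard_smul_image, R.fix_a0,
      R.w0_count _ _ fun x hx => by rw [ho]; exact R.crd_mem_cls (R.w0_lt hx)]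
  rw [h.cset_card] at hc
  revert hc
  decide +kernel

theorem line_mem {x y : ℕ} (h : y ∈ Rigid.lineX x) : crd y ∈ ln n (crd x) := by
  simp only [Rigid.lineX, List.mem_cons, List.not_mem_nil, or_false] at h
  simp only [ln, Set.mem_insert_iff, Set.mem_singleton_iff, R.actN x, R.actN (Rigid.app Rigid.mW x)]
  rcases h with rfl | rfl | rfl <;> simp

theorem mem_line {x y : ℕ} (hx : x < 4096) (hy : y < 4096) (h : crd y ∈ ln n (crd x)) :
    y ∈ 0 :: Rigid.lineX x := by
  have hW : Rigid.Valid Rigid.mW = true := by decide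
  simp only [ln, Set.mem_insert_iff, Set.mem_singleton_iff, R.actN x, R.actN (Rigid.app Rigid.mW x)] at h
  simp only [Rigid.lineX, List.mem_cons, List.not_mem_nil, or_false]
  rcases h with h | h | h | h
  · exact .inl ((R.crd_eq_zero hy).1 h)
  · exact .inr (.inl (R.inj _ _ hy hx h))
  · exact .inr (.inr (.inl (R.inj _ _ hy (Rigid.app_lt hW _) h)))
  · exact .inr (.inr (.inr (R.inj _ _ hy (Rigid.app_lt hW _) h)))

theorem word_norm {w : List ℕ} (h : (Rigid.w0Bas.all fun x => Rigid.w0L.contains (Rigid.app (Rigid.wordG w) x)) = true) :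
    wordK a f u n t w ∈ normalizer ((a0Sub crd : Subgroup K) : Set K) := by
  obtain ⟨j, hj, e⟩ := R.w0_image (wordK a f u n t w)
  rw [R.a0_normalizer, e, ← wSet_zero]
  refine congrArg (wSet crd) (R.wSet_le (by norm_num : 0 < 77) hj ?_).symm
  rw [wSet_zero, ← e]
  rintro _ ⟨_, ⟨x, hx, rfl⟩, rfl⟩
  exact ⟨_, spanX_app _ _ _ (fun z hz => List.contains_iff_mem.1 (List.all_eq_true.1 h z hz)) hx,
    (R.acts_word w x).symm⟩

theorem a0_reach (j : ℕ) (hj : j ∈ Rigid.a0Idx) (hj0 : j ≠ 0) {g : K} (hg : Acts crd g (Rigid.p0At j))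
    {r : K} (hr : Acts crd r (Rigid.p0At (Rigid.a0Idx.getD 1 0))) :
    ∃ y, y ∈ normalizer ((a0Sub crd : Subgroup K) : Set K) ∧ y ∈ M ∧ y * r * y⁻¹ = g := by
  obtain ⟨k, hk, rfl⟩ := List.mem_iff_getElem.1 hj
  obtain ⟨h1, -⟩ := Rigid.group_checks
  simp only [Bool.and_eq_true, beq_iff_eq, decide_eq_true_eq] at h1
  have hk0 : k ≠ 0 := by
    rintro rfl
    have h0 : Rigid.a0Idx.getD 0 0 = 0 := by decide +kernel
    rw [List.getD_eq_getElem _ _ hk] at h0
    exact hj0 h0
  obtain ⟨hw1, hw2, -⟩ := Rigid.word_checks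
  simp only [Bool.and_eq_true, beq_iff_eq, List.all_eq_true] at hw1
  have h := List.all_eq_true.1 hw2 (k - 1) (List.mem_range.2 (by omega))
  simp only [Bool.and_eq_true, beq_iff_eq] at h
  set w := Rigid.toWords.getD (k - 1) []
  refine ⟨wordK a f u n t w, R.word_norm h.1, R.word_mem ?_, ?_⟩
  · rw [show w = Rigid.toWords[k - 1]'(by omega) from List.getD_eq_getElem _ _ _, List.all_eq_true]
    exact hw1.1.1.2 _ (List.getElem_mem _)
  · rw [mul_inv_eq_iff_eq_mul]
    refine R.acts_unique (h.2 ▸ (R.acts_word w).mul hr) ?_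
    rw [show k - 1 + 1 = k by omega, List.getD_eq_getElem _ _ hk]
    exact hg.mul (R.acts_word w)

theorem a0_transitive : ∀ x ∈ (a0Sub crd : Subgroup K), x ≠ 1 → ∀ y ∈ (a0Sub crd : Subgroup K), y ≠ 1 →
    ∃ g, g ∈ normalizer ((a0Sub crd : Subgroup K) : Set K) ∧ g ∈ M ∧ g * x * g⁻¹ = y := by
  intro x hx hx1 y hy hy1
  obtain ⟨i, hi, hxi⟩ := R.a0_acts hx
  obtain ⟨j, hj, hyj⟩ := R.a0_acts hy
  obtain ⟨r, -, hr⟩ := R.p0_elt (Rigid.a0Idx.getD 1 0) (by decide +kernel)
  have h0 : ∀ {k : ℕ} {g : K}, Acts crd g (Rigid.p0At k) → g ≠ 1 → k ≠ 0 := fun hg hg1 e =>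
    hg1 (R.acts_unique (e ▸ hg) R.p0_one)
  obtain ⟨g1, h11, h12, e1⟩ := R.a0_reach i hi (h0 hxi hx1) hxi hr
  obtain ⟨g2, h21, h22, e2⟩ := R.a0_reach j hj (h0 hyj hy1) hyj hr
  exact ⟨g2 * g1⁻¹, mul_mem h21 (inv_mem h11), mul_mem h22 (inv_mem h12), by rw [← e1, ← e2]; group⟩

theorem a0_rg {x : K} (hx : x ∈ (a0Sub crd : Subgroup K)) (hx1 : x ≠ 1) :
    (∀ v : V, x • v + v ∈ (w0Set crd : Set V)) ∧ Nat.card ↥(rg x : AddSubgroup V) = 16 := by
  obtain ⟨r, hrP, hr⟩ := R.p0_elt (Rigid.a0Idx.getD 1 0) (by decide +kernel)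
  have hrA : r ∈ (a0Sub crd : Subgroup K) := subset_closure ⟨_, by decide +kernel, hr⟩
  have hr1 : r ≠ 1 := fun e => by
    have := R.p0_inj (by decide +kernel) (by norm_num) (e ▸ hr) R.p0_one
    revert this
    decide +kernel
  obtain ⟨g, hg, -, rfl⟩ := R.a0_transitive r hrA hr1 x hx hx1
  have hsm : ∀ v : V, (g * r * g⁻¹) • v + v = g • (r • g⁻¹ • v + g⁻¹ • v) := fun v => by
    rw [smul_add, smul_inv_smul, mul_smul, mul_smul]
  have hr4 : ∀ v : V, r • v + v ∈ (w0Set crd : Set V) := by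
    intro v
    obtain ⟨y, hy, rfl⟩ := R.surj v
    rw [hr, ← R.crd_xor, R.mem_w0 (Nat.xor_lt_two_pow (n := 12)
      (Rigid.app_lt (R.p0_valid _ (by decide +kernel)) y) hy)]
    exact List.all_eq_true.1 Rigid.w0_checks.2.2.2.2 y (List.mem_range.2 hy)
  refine ⟨fun v => ?_, ?_⟩
  · rw [hsm, ← (R.a0_normalizer).1 hg]
    exact ⟨_, hr4 _, rfl⟩
  · let ψ : V →+ V := AddMonoidHom.mk' (fun v : V => (g * r * g⁻¹) • v + v) fun a b => by
      simp only [smul_add]; abel
    have hcard := ψ.ker.card_mul_index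
    rw [AddSubgroup.index_ker] at hcard
    have hk : Nat.card ↥ψ.ker = 256 := by
      have e : (ψ.ker : Set V) = (fun v => g • v) '' {v : V | r • v = v} := by
        ext v
        constructor
        · intro hv
          have hv' : (g * r * g⁻¹) • v + v = 0 := hv
          rw [hsm, smul_eq_zero_iff_eq] at hv'
          exact ⟨g⁻¹ • v, eq_of_vadd hv', smul_inv_smul _ _⟩
        · rintro ⟨w, hw, rfl⟩
          show (g * r * g⁻¹) • g • w + g • w = 0
          rw [mul_smul, mul_smul, inv_smul_smul, show r • w = w from hw, vadd_self]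
      have h2 : Nat.card ↥ψ.ker = (ψ.ker : Set V).ncard := Nat.card_coe_set_eq _
      rw [h2, e, ncard_smul_image]
      have e2 : {v : V | r • v = v} = crd '' {y | y ∈ (List.range 4096).filter fun y =>
          Rigid.app (Rigid.p0At (Rigid.a0Idx.getD 1 0)) y == y} := by
        ext v
        obtain ⟨y, hy, rfl⟩ := R.surj v
        constructor
        · intro hv
          refine ⟨y, List.mem_filter.2 ⟨List.mem_range.2 hy, beq_iff_eq.2 (R.inj _ _ ?_ hy ((hr y).symm.trans hv))⟩, rfl⟩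
          exact Rigid.app_lt (R.p0_valid _ (by decide +kernel)) y
        · rintro ⟨z, hz, e⟩
          show r • crd y = crd y
          rw [← e, hr, eq_of_beq (List.mem_filter.1 hz).2]
      rw [e2, Set.InjOn.ncard_image (s := {y | y ∈ (List.range 4096).filter fun y =>
          Rigid.app (Rigid.p0At (Rigid.a0Idx.getD 1 0)) y == y})
          (fun y hy z hz e => R.inj y z (List.mem_range.1 (List.mem_filter.1 hy).1)
            (List.mem_range.1 (List.mem_filter.1 hz).1) e),
        show {y | y ∈ (List.range 4096).filter fun y => Rigid.app (Rigid.p0At (Rigid.a0Idx.getD 1 0)) y == y} =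
          ↑((List.range 4096).filter fun y => Rigid.app (Rigid.p0At (Rigid.a0Idx.getD 1 0)) y == y).toFinset by
          ext; simp, Set.ncard_coe_finset, List.toFinset_card_of_nodup (List.nodup_range.filter _)]
      exact Rigid.fix_checks.2.2.2
    obtain ⟨φ, c⟩ := R.core
    rw [hk, c.cardV] at hcard
    show Nat.card ↥ψ.range = 16
    omega

omit R in
theorem sixPerm_eq : ∀ x y i : Fin 6,
    (((Equiv.swap x y * Equiv.swap 0 1 : Equiv.Perm (Fin 6)) i : Fin 6) : ℕ) = Rigid.sixPerm x y i := by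
  decide +kernel

theorem six_perm (σ : Equiv.Perm (Fin 6)) (hσ : σ ∈ alternatingGroup (Fin 6)) :
    ∃ k : K, k ∈ normalizer ((a0Sub crd : Subgroup K) : Set K) ∧ k ∈ M ∧
      ∀ i : Fin 6, k • crd (Rigid.sixL.getD i 0) ∈ ln n (crd (Rigid.sixL.getD (σ i) 0)) := by
  obtain ⟨φ, c⟩ := R.core
  have hn : ∀ T w : V, w ∈ ln n T → n • w ∈ ln n T := by
    intro T w hw
    simp only [ln, Set.mem_insert_iff, Set.mem_singleton_iff] at hw ⊢
    rcases hw with rfl | rfl | rfl | rfl
    · exact .inl (smul_zero _)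
    · exact .inr (.inr (.inl rfl))
    · exact .inr (.inr (.inr rfl))
    · exact .inr (.inl (by rw [← mul_smul, ← mul_smul, c.n_three, one_smul]))
  let H : Subgroup (Equiv.Perm (Fin 6)) :=
    { carrier := {σ | ∃ k : K, k ∈ normalizer ((a0Sub crd : Subgroup K) : Set K) ∧ k ∈ M ∧
        ∀ i : Fin 6, k • crd (Rigid.sixL.getD i 0) ∈ ln n (crd (Rigid.sixL.getD (σ i) 0))}
      one_mem' := ⟨1, one_mem _, one_mem _, fun i => by rw [one_smul]; simp [ln]⟩
      mul_mem' := by
        rintro σ τ ⟨k, hk1, hk2, hk⟩ ⟨l, hl1, hl2, hl⟩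
        refine ⟨k * l, mul_mem hk1 hl1, mul_mem hk2 hl2, fun i => ?_⟩
        have h1 := hl i
        have h2 := hk (τ i)
        rw [mul_smul, Equiv.Perm.mul_apply]
        simp only [ln, Set.mem_insert_iff, Set.mem_singleton_iff] at h1
        rcases h1 with e | e | e | e <;> rw [e]
        · rw [smul_zero]; simp [ln]
        · exact h2
        · rw [c.smul_n_comm hk2]; exact hn _ _ h2
        · rw [c.smul_n_comm hk2, c.smul_n_comm hk2]; exact hn _ _ (hn _ _ h2)
      inv_mem' := by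
        rintro σ ⟨k, hk1, hk2, hk⟩
        refine ⟨k⁻¹, inv_mem hk1, inv_mem hk2, fun i => ?_⟩
        have h2 := hk (σ⁻¹ i)
        rw [show σ (σ⁻¹ i) = i from σ.apply_symm_apply i] at h2
        have hnk : ∀ v : V, k⁻¹ • n • v = n • k⁻¹ • v := fun v => c.smul_n_comm (inv_mem hk2) v
        simp only [ln, Set.mem_insert_iff, Set.mem_singleton_iff] at h2 ⊢
        set T := crd (Rigid.sixL.getD (σ⁻¹ i : Fin 6) 0)
        set S := crd (Rigid.sixL.getD (i : Fin 6) 0)
        rcases h2 with e | e | e | e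
        · exfalso
          rw [smul_eq_zero_iff_eq] at e
          obtain ⟨h6, -⟩ := Rigid.six_checks
          simp only [Bool.and_eq_true, beq_iff_eq, List.all_eq_true, Bool.not_eq_true', List.contains_iff_mem,
            beq_eq_false_iff_ne, ne_eq] at h6
          have hm : Rigid.sixL.getD (σ⁻¹ i : Fin 6) 0 ∈ Rigid.sixL := by
            rw [List.getD_eq_getElem _ _ (by rw [h6.1]; exact (σ⁻¹ i).2)]; exact List.getElem_mem _
          exact (h6.2 _ hm).2 ((R.crd_eq_zero (R.w0_lt (h6.2 _ hm).1.1)).1 e)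
        · exact .inr (.inl (by rw [← e, inv_smul_smul]))
        · have e' : T = n • k⁻¹ • S := by rw [← hnk, ← e, inv_smul_smul]
          refine .inr (.inr (.inr ?_))
          rw [e', ← mul_smul n n, ← mul_smul, c.n_three, one_smul]
        · have e' : T = n • n • k⁻¹ • S := by rw [← hnk, ← hnk, ← e, inv_smul_smul]
          refine .inr (.inr (.inl ?_))
          rw [e', ← mul_smul n n, ← mul_smul, c.n_three, one_smul] }
  have hgen : ∀ x y : Fin 6, x < y → Equiv.swap x y * Equiv.swap 0 1 ∈ H := by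
    intro x y hxy
    obtain ⟨hl, -, -, h4⟩ := Rigid.six_checks
    have h := List.all_eq_true.1 (List.all_eq_true.1 h4 x (List.mem_range.2 x.2)) y (List.mem_range.2 y.2)
    simp only [Bool.or_eq_true, Bool.not_eq_true', List.any_eq_true, Bool.and_eq_true, beq_iff_eq] at h
    rcases h with h | ⟨e, he, ⟨hex, hey⟩, hyn, hyl⟩
    · exact absurd (Nat.ble_eq_true_of_le (show (x : ℕ) + 1 ≤ y from hxy)) (by
        rw [show ((x : ℕ) + 1).ble y = (x : ℕ).blt y from rfl, h]; simp)
    · refine ⟨wordK a f u n t e.2.2, R.word_norm hyn, R.word_mem ?_, fun i => ?_⟩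
      · have hw := Rigid.word_checks.1
        simp only [Bool.and_eq_true, List.all_eq_true] at hw
        exact List.all_eq_true.2 (hw.2 e he)
      · have hi := List.all_eq_true.1 hyl i (List.mem_range.2 i.2)
        rw [List.contains_iff_mem] at hi
        rw [R.acts_word]
        have hperm := sixPerm_eq x y i
        rw [hperm]
        exact R.line_mem hi
  have hswap : ∀ x y : Fin 6, x ≠ y → Equiv.swap x y * Equiv.swap 0 1 ∈ H := by
    intro x y h
    rcases lt_or_gt_of_ne h with h | h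
    · exact hgen x y h
    · rw [Equiv.swap_comm]; exact hgen y x h
  have key : ∀ σ : Equiv.Perm (Fin 6), (Equiv.Perm.sign σ = 1 → σ ∈ H) ∧
      (Equiv.Perm.sign σ = -1 → Equiv.swap 0 1 * σ ∈ H) := by
    intro σ
    induction σ using Equiv.Perm.swap_induction_on with
    | one => exact ⟨fun _ => one_mem _, fun h => absurd h (by rw [map_one]; decide)⟩
    | swap_mul σ x y hxy ih =>
      rw [map_mul, Equiv.Perm.sign_swap hxy]
      rcases Int.units_eq_one_or (Equiv.Perm.sign σ) with e | e <;> rw [e]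
      · refine ⟨fun h => absurd h (by decide), fun _ => ?_⟩
        have h1 := mul_mem (inv_mem (hswap x y hxy)) (ih.1 e)
        rwa [mul_inv_rev, Equiv.swap_inv, Equiv.swap_inv, mul_assoc] at h1
      · refine ⟨fun _ => ?_, fun h => absurd h (by decide)⟩
        have h1 := mul_mem (hswap x y hxy) (ih.2 e)
        rwa [mul_assoc, ← mul_assoc (Equiv.swap (0 : Fin 6) 1), Equiv.swap_mul_self, one_mul] at h1
  exact (key σ).1 (Equiv.Perm.mem_alternatingGroup.1 hσ)

end Rig

end CfsgLib.JankoFour
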