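import Cfsg.Agent.Lib.JankoFour.Rigid.Apply
import Cfsg.Agent.Lib.JankoFour.Rigid.HexadData
import Cfsg.Agent.Lib.JankoFour.Rigid.OrbitData

/-!
# Kernel checks for the hexad groups
-/

set_option autoImplicit false
set_option maxRecDepth 100000
set_option Elab.async false

namespace CfsgLib.JankoFour.Rigid

/-- An element of the Sylow 2-subgroup. -/
def p0At (i : ℕ) : List ℕ := p0L.getD i []

/-- The xor span of a list. -/
def spanX : List ℕ → List ℕ
  | [] => [0]
  | b :: bs => let s := spanX bs; s ++ s.map fun x => b ^^^ x

/-- The fixed space of the hexad group. -/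
def w0L : List ℕ := spanX w0Bas

/-- The bit set of the fixed space. -/
def w0Mask : ℕ := w0L.foldl (fun acc x => acc ||| 2 ^ x) 0

/-- A position lies in the hexad group. -/
def inA0 (k : ℕ) : Bool := a0Idx.contains (p0Inv.getD k 0)

/-- A position lies in the other elementary group of order sixteen. -/
def inB0 (k : ℕ) : Bool := b0Idx.contains (p0Inv.getD k 0)

/-- All large sets of commuting involutions are the two groups of order sixteen. -/
def bigOk : ℕ → List ℕ → List ℕ → Bool
  | _, cur, [] => Nat.blt cur.length 15 || cur.all inA0 || cur.all inB0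
  | 0, _, _ :: _ => false
  | fuel + 1, cur, x :: xs =>
    Nat.blt (cur.length + xs.length + 1) 15 ||
      (bigOk fuel (x :: cur) (xs.filter fun y => (p0Adj.getD x 0).testBit y) && bigOk fuel cur xs)

theorem p0_checks :
    ((p0Gens.all fun w => w.all fun i => Nat.blt i 4) && (p0L.length == 128) && (p0Par.length == 128) &&
      (p0L.all Valid) && (p0At 0 == mI)) = true ∧
    ((List.range 127).all fun k => let e := p0Par.getD (k + 1) (0, 0)
      Nat.blt e.1 (k + 1) && Nat.blt e.2 p0Gens.length &&
        (p0At (k + 1) == comp (wordG (p0Gens.getD e.2 [])) (p0At e.1))) = true ∧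
    ((List.range 128).all fun k => (List.range p0Gens.length).all fun j =>
      Nat.blt ((p0Next.getD k []).getD j 0) 128 &&
        (comp (wordG (p0Gens.getD j [])) (p0At k) == p0At ((p0Next.getD k []).getD j 0))) = true ∧
    decide p0L.Nodup = true := by
  refine ⟨?_, ?_, ?_, ?_⟩ <;> decide +kernel

theorem inv_checks :
    ((List.range 128).all fun i => !(comp (p0At i) (p0At i) == mI) || (p0At i == mI) || p0Inv.contains i) = true ∧
    ((p0Inv.length == 35) && (p0Inv.all fun i => Nat.blt i 128)) = true ∧
    ((List.range 35).all fun k => (List.range 35).all fun l => (k == l) ||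
      !(comp (p0At (p0Inv.getD k 0)) (p0At (p0Inv.getD l 0)) == comp (p0At (p0Inv.getD l 0)) (p0At (p0Inv.getD k 0))) ||
        (p0Adj.getD k 0).testBit l) = true ∧
    bigOk 35 [] (List.range 35) = true := by
  refine ⟨?_, ?_, ?_, ?_⟩ <;> decide +kernel

theorem group_checks :
    ((a0Idx.length == 16) && decide a0Idx.Nodup && (a0Idx.all fun i => Nat.blt i 128) && a0Idx.contains 0) = true ∧
    (a0Idx.all fun i => a0Idx.all fun j => (comp (p0At i) (p0At j) == comp (p0At j) (p0At i)) &&
      a0Idx.any fun k => comp (p0At i) (p0At j) == p0At k) = true ∧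
    (a0Idx.all fun i => comp (p0At i) (p0At i) == mI) = true ∧
    ((a0Gen.all fun i => a0Idx.contains i) && (b0Gen.all fun i => b0Idx.contains i)) = true ∧
    ((b0Idx.length == 16) && (b0Idx.all fun i => Nat.blt i 128) && decide b0Idx.Nodup && b0Idx.contains 0) = true := by
  refine ⟨?_, ?_, ?_, ?_, ?_⟩ <;> decide +kernel

theorem fix_checks :
    ((List.range 4096).all fun x => (a0Gen.all fun i => app (p0At i) x == x) == w0Mask.testBit x) = true ∧
    (a0Idx.all fun i => w0L.all fun x => app (p0At i) x == x) = true ∧
    ((List.range 4096).filter fun x => b0Gen.all fun i => app (p0At i) x == x).length ≤ 4 ∧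
    ((List.range 4096).filter fun x => app (p0At (a0Idx.getD 1 0)) x == x).length = 256 := by
  refine ⟨?_, ?_, ?_, ?_⟩ <;> decide +kernel

theorem w0_checks :
    ((w0L.length == 64) && decide w0L.Nodup && (w0L.all fun x => Nat.blt x 4096)) = true ∧
    (w0L.all fun x => !quad x) = true ∧
    (w0L.all fun x => w0L.contains (app mW x)) = true ∧
    ((List.range 4096).all fun x => w0Mask.testBit x == w0L.contains x) = true ∧
    ((List.range 4096).all fun x => w0Mask.testBit (app (p0At (a0Idx.getD 1 0)) x ^^^ x)) = true := by
  refine ⟨?_, ?_, ?_, ?_, ?_⟩ <;> decide +kernel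

theorem orbit_checks :
    ((wOrb.length == 77) && (wPar.length == 77) && (wOrb.all fun b => b.all fun x => Nat.blt x 4096) &&
      (wOrb.getD 0 [] == w0Bas)) = true ∧
    ((List.range 77).all fun i => (List.range 5).all fun j => let l := (wNext.getD i []).getD j 0
      Nat.blt l 77 && let s := spanX (wOrb.getD l [])
        (wOrb.getD i []).all fun x => s.contains (app (gensL.getD j mI) x)) = true ∧
    ((List.range 76).all fun k => let e := wPar.getD (k + 1) (0, 0)
      Nat.blt e.1 (k + 1) && Nat.blt e.2 5 && ((wNext.getD e.1 []).getD e.2 0 == k + 1)) = true ∧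
    ((List.range 77).all fun i => let s := spanX (wOrb.getD i [])
      (List.range 77).all fun l => (i == l) || (wOrb.getD l []).any fun x => !s.contains x) = true := by
  refine ⟨?_, ?_, ?_, ?_⟩ <;> decide +kernel

theorem class_checks :
    ((w0L.filter fun x => cls693.testBit x).length == 45) = true ∧
    ((List.range 77).all fun i => (i == 0) || let s := spanX (wOrb.getD i [])
      w0L.all fun x => (x == 0) || cls693.testBit x || !s.contains x) = true ∧
    ((List.range 77).all fun i => (i == 0) || a0Idx.all fun j => (j == 0) ||
      (wOrb.getD i []).any fun x => !(app (p0At j) x == x)) = true := by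
  refine ⟨?_, ?_, ?_⟩ <;> decide +kernel

theorem word_checks :
    ((toWords.length == 15) && (invWords.length == 35) && (toWords.all fun w => w.all fun i => Nat.blt i 4) &&
      (invWords.all fun e => (e.2.all fun i => Nat.blt i 4) && Nat.blt e.1 16) &&
      (sixWords.all fun e => e.2.2.all fun i => Nat.blt i 4)) = true ∧
    ((List.range 15).all fun k => let y := wordG (toWords.getD k [])
      (w0Bas.all fun x => w0L.contains (app y x)) &&
        (comp y (p0At (a0Idx.getD 1 0)) == comp (p0At (a0Idx.getD (k + 1) 0)) y)) = true ∧
    ((List.range 35).all fun k => let e := invWords.getD k (0, [])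
      comp (wordG e.2) (p0At (p0Inv.getD k 0)) == comp (p0At (a0Idx.getD e.1 0)) (wordG e.2)) = true := by
  refine ⟨?_, ?_, ?_⟩ <;> decide +kernel

/-- The line of a coordinate vector. -/
def lineX (x : ℕ) : List ℕ := [x, app mW x, app mW (app mW x)]

/-- The image of an index under the product of two transpositions. -/
def sixPerm (a b i : ℕ) : ℕ :=
  let j := if i == 0 then 1 else if i == 1 then 0 else i
  if j == a then b else if j == b then a else j

theorem six_checks :
    ((sixL.length == 6) && sixL.all fun x => w0L.contains x && !cls693.testBit x && !(x == 0)) = true ∧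
    (w0L.all fun x => (x == 0) || cls693.testBit x || sixL.any fun r => (lineX r).contains x) = true ∧
    ((List.range 6).all fun i => (List.range 6).all fun j =>
      (i == j) || !(0 :: lineX (sixL.getD i 0)).contains (sixL.getD j 0)) = true ∧
    ((List.range 6).all fun a => (List.range 6).all fun b => !Nat.blt a b || sixWords.any fun e =>
      (e.1 == a) && (e.2.1 == b) && let y := wordG e.2.2
        (w0Bas.all fun x => w0L.contains (app y x)) &&
          (List.range 6).all fun i => (lineX (sixL.getD (sixPerm a b i) 0)).contains (app y (sixL.getD i 0))) = true := by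
  refine ⟨?_, ?_, ?_, ?_⟩ <;> decide +kernel

end CfsgLib.JankoFour.Rigid
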