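import Cfsg.Agent.Lib.JankoFour.Rigid.Rig
import Cfsg.Agent.Lib.JankoFour.Rigid.Basic
import Cfsg.Agent.Lib.JankoFour.Rigid.HexadCheck

/-!
# A Sylow 2-subgroup of the index-two subgroup and the hexad group in it
-/

set_option autoImplicit false
set_option linter.unusedSectionVars false
set_option linter.style.haveILetI false

namespace CfsgLib.JankoFour

open Subgroup QuadraticMap

variable {V : Type*} [AddCommGroup V] [Module (ZMod 2) V] [Finite V]
  {K : Type*} [Group K] [Finite K] [DistribMulAction K V]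
  {q : QuadraticForm (ZMod 2) V} {n : K} {M : Subgroup K} {crd : ℕ → V} {a f u t : K}

/-- The fixed vectors of a subgroup. -/
def fixSet (A : Subgroup K) : Set V := {v : V | ∀ x ∈ A, x • v = v}

theorem fixSet_map (A : Subgroup K) (y : K) :
    fixSet (V := V) (A.map (MulAut.conj y).toMonoidHom) = (fun v => y • v) '' fixSet A := by
  ext v
  constructor
  · intro hv
    refine ⟨y⁻¹ • v, fun x hx => ?_, smul_inv_smul _ _⟩
    have h := hv _ ⟨x, hx, rfl⟩
    simp only [MulEquiv.coe_toMonoidHom, MulAut.conj_apply, mul_smul] at h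
    calc x • y⁻¹ • v = y⁻¹ • (y • x • y⁻¹ • v) := (inv_smul_smul _ _).symm
      _ = y⁻¹ • v := by rw [h]
  · rintro ⟨w, hw, rfl⟩ _ ⟨x, hx, rfl⟩
    simp only [MulEquiv.coe_toMonoidHom, MulAut.conj_apply]
    rw [mul_smul, mul_smul, inv_smul_smul, hw x hx]

theorem ncard_smul_image (y : K) (S : Set V) : ((fun v => y • v) '' S).ncard = S.ncard :=
  Set.ncard_image_of_injective S (MulAction.injective y)

theorem elem_map_conj {B : Subgroup K} (h : Cfsg.IsElementaryAbelian 2 B) (y : K) :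
    Cfsg.IsElementaryAbelian 2 (B.map (MulAut.conj y).toMonoidHom) := by
  refine ⟨⟨⟨fun p r => Subtype.ext ?_⟩⟩, ?_⟩
  · obtain ⟨p', hp, e1⟩ := p.2
    obtain ⟨r', hr, e2⟩ := r.2
    haveI := h.1
    have h12 : p' * r' = r' * p' := congrArg Subtype.val (mul_comm' (⟨p', hp⟩ : ↥B) ⟨r', hr⟩)
    show (p : K) * r = r * p
    rw [← e1, ← e2, ← map_mul, ← map_mul, h12]
  · rintro _ ⟨x, hx, rfl⟩
    rw [← map_pow, h.2 x hx, map_one]

theorem isPGroup_of_elem {B : Subgroup K} (h : Cfsg.IsElementaryAbelian 2 B) : IsPGroup 2 ↥B :=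
  fun x => ⟨1, Subtype.ext (by simpa using h.2 x x.2)⟩

/-- The Sylow 2-subgroup of `M` in the coordinates. -/
def p0Sub (crd : ℕ → V) : Subgroup K :=
  closure {g : K | ∃ w ∈ Rigid.p0Gens, Acts crd g (Rigid.wordG w)}

/-- The hexad group in the coordinates. -/
def a0Sub (crd : ℕ → V) : Subgroup K :=
  closure {g : K | ∃ i ∈ Rigid.a0Idx, Acts crd g (Rigid.p0At i)}

namespace Rig

variable (R : Rig q n M crd a f u t)

include R

theorem cardM : Nat.card ↥M = 1330560 := by
  obtain ⟨φ, c⟩ := R.core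
  have h := M.card_mul_index
  rw [c.indexM, R.cardK] at h
  omega

theorem p0_valid (i : ℕ) (hi : i < 128) : Rigid.Valid (Rigid.p0At i) = true := by
  obtain ⟨h, -⟩ := Rigid.p0_checks
  simp only [Bool.and_eq_true, beq_iff_eq, List.all_eq_true] at h
  rw [Rigid.p0At, List.getD_eq_getElem _ _ (by rw [h.1.1.1.2]; exact hi)]
  exact h.1.2 _ (List.getElem_mem _)

theorem p0_inj {i j : ℕ} (hi : i < 128) (hj : j < 128) {g : K} (h1 : Acts crd g (Rigid.p0At i))
    (h2 : Acts crd g (Rigid.p0At j)) : i = j := by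
  have e := R.acts_ext (R.p0_valid i hi) (R.p0_valid j hj) h1 h2
  obtain ⟨h, -, -, hnd⟩ := Rigid.p0_checks
  simp only [Bool.and_eq_true, beq_iff_eq] at h
  have hl := h.1.1.1.2
  rw [Rigid.p0At, Rigid.p0At, List.getD_eq_getElem _ _ (by omega), List.getD_eq_getElem _ _ (by omega)] at e
  exact ((of_decide_eq_true hnd).getElem_inj_iff).1 e

theorem p0_one : Acts crd (1 : K) (Rigid.p0At 0) := by
  obtain ⟨h, -⟩ := Rigid.p0_checks
  simp only [Bool.and_eq_true, beq_iff_eq] at h
  rw [h.2]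
  exact R.acts_one

theorem p0_le : p0Sub crd ≤ M := by
  rw [p0Sub, closure_le]
  rintro g ⟨w, hw, hg⟩
  obtain ⟨h, -⟩ := Rigid.p0_checks
  simp only [Bool.and_eq_true, List.all_eq_true] at h
  rw [R.acts_unique hg (R.acts_word w)]
  exact R.word_mem (List.all_eq_true.2 (h.1.1.1.1 w hw))

theorem p0_elt : ∀ i < 128, ∃ g ∈ (p0Sub crd : Subgroup K), Acts crd g (Rigid.p0At i) := by
  intro i
  induction i using Nat.strong_induction_on with
  | _ i ih =>
    intro hi
    rcases i with _ | k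
    · exact ⟨1, one_mem _, R.p0_one⟩
    · have h := List.all_eq_true.1 Rigid.p0_checks.2.1 k (List.mem_range.2 (by omega))
      simp only [Bool.and_eq_true, beq_iff_eq] at h
      have h1 := Nat.le_of_ble_eq_true h.1.1
      have h2 := Nat.le_of_ble_eq_true h.1.2
      obtain ⟨g, hg, hga⟩ := ih (Rigid.p0Par.getD (k + 1) (0, 0)).1 (by omega) (by omega)
      refine ⟨wordK a f u n t (Rigid.p0Gens.getD (Rigid.p0Par.getD (k + 1) (0, 0)).2 []) * g, mul_mem ?_ hg, ?_⟩
      · refine subset_closure ⟨_, ?_, R.acts_word _⟩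
        rw [List.getD_eq_getElem _ _ (by omega)]
        exact List.getElem_mem _
      · rw [h.2]; exact (R.acts_word _).mul hga

theorem p0_acts {g : K} (hg : g ∈ (p0Sub crd : Subgroup K)) : ∃ i < 128, Acts crd g (Rigid.p0At i) := by
  have hg' : g ∈ (p0Sub crd : Subgroup K).toSubmonoid := hg
  rw [p0Sub, Subgroup.closure_toSubmonoid_of_finite] at hg'
  induction hg' using Submonoid.closure_induction_left with
  | one => exact ⟨0, by norm_num, R.p0_one⟩
  | mul_left x hx y hy ih =>
    obtain ⟨w, hw, hxw⟩ := hx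
    have hy' : y ∈ (p0Sub crd : Subgroup K) := by
      rw [← Subgroup.mem_toSubmonoid, p0Sub, Subgroup.closure_toSubmonoid_of_finite]; exact hy
    obtain ⟨i, hi, hyi⟩ := ih hy'
    obtain ⟨j, hj, rfl⟩ := List.mem_iff_getElem.1 hw
    have h := List.all_eq_true.1 (List.all_eq_true.1 Rigid.p0_checks.2.2.1 i (List.mem_range.2 hi)) j
      (List.mem_range.2 hj)
    simp only [Bool.and_eq_true, beq_iff_eq] at h
    refine ⟨_, Nat.le_of_ble_eq_true h.1, ?_⟩
    rw [← h.2, List.getD_eq_getElem _ _ hj]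
    exact hxw.mul hyi

theorem p0_card : Nat.card ↥(p0Sub crd : Subgroup K) = 128 := by
  choose g hg hga using R.p0_elt
  let F : Fin 128 → ↥(p0Sub crd : Subgroup K) := fun k => ⟨g k k.2, hg k k.2⟩
  have hinj : Function.Injective F := fun i j e => Fin.ext (R.p0_inj i.2 j.2 (hga i i.2)
    (by rw [show g i i.2 = g j j.2 from congrArg Subtype.val e]; exact hga j j.2))
  have hsurj : Function.Surjective F := fun x => by
    obtain ⟨i, hi, hxi⟩ := R.p0_acts x.2
    exact ⟨⟨i, hi⟩, Subtype.ext (R.acts_unique (hga i hi) hxi)⟩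
  rw [← Nat.card_eq_of_bijective F ⟨hinj, hsurj⟩, Nat.card_fin]

/-- A 2-subgroup of `M` is conjugate in `M` into the listed group. -/
theorem conj_into {X : Subgroup K} (hX : IsPGroup 2 ↥X) (hXM : X ≤ M) :
    ∃ y ∈ M, X.map (MulAut.conj y).toMonoidHom ≤ p0Sub crd := by
  classical
  haveI : Fact (Nat.Prime 2) := ⟨Nat.prime_two⟩
  have hP : IsPGroup 2 ↥((p0Sub crd : Subgroup K).subgroupOf M) := IsPGroup.of_card (n := 7) (by
    rw [Nat.card_congr (subgroupOfEquivOfLe R.p0_le).toEquiv, R.p0_card]; norm_num)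
  have hidx : ¬ 2 ∣ ((p0Sub crd : Subgroup K).subgroupOf M).index := by
    have h := ((p0Sub crd : Subgroup K).subgroupOf M).card_mul_index
    rw [Nat.card_congr (subgroupOfEquivOfLe R.p0_le).toEquiv, R.p0_card, R.cardM] at h
    intro hd
    omega
  obtain ⟨S, hS⟩ := (hX.comap_of_injective M.subtype M.subtype_injective :
    IsPGroup 2 ↥(X.subgroupOf M)).exists_le_sylow
  obtain ⟨y, hy⟩ := MulAction.exists_smul_eq ↥M S (hP.toSylow hidx)
  refine ⟨y, y.2, ?_⟩
  rintro _ ⟨x, hx, rfl⟩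
  have h1 : y * ⟨x, hXM hx⟩ * y⁻¹ ∈ (y • S : Sylow 2 ↥M) := by
    show _ ∈ ((y • S : Sylow 2 ↥M) : Subgroup ↥M)
    rw [Sylow.coe_subgroup_smul]
    exact ⟨⟨x, hXM hx⟩, hS (mem_subgroupOf.2 hx), rfl⟩
  rw [hy] at h1
  exact mem_subgroupOf.1 h1

theorem p0_invol {g : K} (hg : g ∈ (p0Sub crd : Subgroup K)) (h2 : g * g = 1) (h1 : g ≠ 1) :
    ∃ k < 35, Acts crd g (Rigid.p0At (Rigid.p0Inv.getD k 0)) := by
  obtain ⟨i, hi, hgi⟩ := R.p0_acts hg
  have h := List.all_eq_true.1 Rigid.inv_checks.1 i (List.mem_range.2 hi)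
  simp only [Bool.or_eq_true, Bool.not_eq_true', beq_eq_false_iff_ne, ne_eq, beq_iff_eq,
    List.contains_iff_mem] at h
  rcases h with (h | h) | h
  · exact absurd (R.acts_ext (Rigid.comp_valid (R.p0_valid i hi) (R.p0_valid i hi))
      (Bool.and_eq_true _ _ ▸ Rigid.gens_valid).2 (h2 ▸ hgi.mul hgi) R.acts_one) h
  · exact absurd (R.acts_unique (h ▸ hgi) R.acts_one) h1
  · obtain ⟨k, hk, rfl⟩ := List.mem_iff_getElem.1 h
    have hl : Rigid.p0Inv.length = 35 := by
      have := Rigid.inv_checks.2.1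
      simp only [Bool.and_eq_true, beq_iff_eq] at this
      exact this.1
    exact ⟨k, hl ▸ hk, by rw [List.getD_eq_getElem _ _ hk]; exact hgi⟩

omit R in
theorem bigOk_sound : ∀ (fuel : ℕ) (cur cands L : List ℕ), Rigid.bigOk fuel cur cands = true →
    L.Sublist cands → L.Pairwise (fun k l => (Rigid.p0Adj.getD k 0).testBit l = true) →
    15 ≤ cur.length + L.length →
    (∀ x, x ∈ cur ∨ x ∈ L → Rigid.inA0 x = true) ∨ (∀ x, x ∈ cur ∨ x ∈ L → Rigid.inB0 x = true) := by
  intro fuel cur cands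
  induction fuel generalizing cur cands with
  | zero =>
    intro L h hs _ hlen
    cases cands with
    | nil =>
      rw [List.sublist_nil.1 hs] at hlen ⊢
      simp only [Rigid.bigOk, Bool.or_eq_true, List.all_eq_true, List.length_nil, add_zero] at h hlen
      rcases h with (h | h) | h
      · have := Nat.le_of_ble_eq_true h; omega
      · exact .inl fun x hx => h x (hx.resolve_right List.not_mem_nil)
      · exact .inr fun x hx => h x (hx.resolve_right List.not_mem_nil)
    | cons x xs => simp [Rigid.bigOk] at h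
  | succ fuel ih =>
    intro L h hs hp hlen
    cases cands with
    | nil =>
      rw [List.sublist_nil.1 hs] at hlen ⊢
      simp only [Rigid.bigOk, Bool.or_eq_true, List.all_eq_true, List.length_nil, add_zero] at h hlen
      rcases h with (h | h) | h
      · have := Nat.le_of_ble_eq_true h; omega
      · exact .inl fun x hx => h x (hx.resolve_right List.not_mem_nil)
      · exact .inr fun x hx => h x (hx.resolve_right List.not_mem_nil)
    | cons x xs =>
      simp only [Rigid.bigOk, Bool.or_eq_true, Bool.and_eq_true] at h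
      rcases h with h | ⟨ha, hb⟩
      · have h' := Nat.le_of_ble_eq_true h
        have h2 : L.length ≤ xs.length + 1 := hs.length_le
        omega
      · rcases List.sublist_cons_iff.1 hs with hs' | ⟨r, rfl, hr⟩
        · exact ih cur xs L hb hs' hp hlen
        · rw [List.pairwise_cons] at hp
          have hr' : r.Sublist (xs.filter fun y => (Rigid.p0Adj.getD x 0).testBit y) := by
            have := hr.filter (fun y => (Rigid.p0Adj.getD x 0).testBit y)
            rwa [List.filter_eq_self.2 fun y hy => hp.1 y hy] at this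
          rcases ih (x :: cur) _ r ha hr' hp.2 (by simp only [List.length_cons] at hlen ⊢; omega) with h | h
          · exact .inl fun y hy => h y (by simp only [List.mem_cons] at hy ⊢; tauto)
          · exact .inr fun y hy => h y (by simp only [List.mem_cons] at hy ⊢; tauto)

theorem a0_idx_lt {i : ℕ} (hi : i ∈ Rigid.a0Idx) : i < 128 := by
  obtain ⟨h, -⟩ := Rigid.group_checks
  simp only [Bool.and_eq_true, List.all_eq_true] at h
  exact Nat.le_of_ble_eq_true (h.1.2 i hi)

theorem a0_zero : (0 : ℕ) ∈ Rigid.a0Idx := by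
  obtain ⟨h, -⟩ := Rigid.group_checks
  simp only [Bool.and_eq_true, List.contains_iff_mem] at h
  exact h.2

theorem a0_acts {g : K} (hg : g ∈ (a0Sub crd : Subgroup K)) : ∃ i ∈ Rigid.a0Idx, Acts crd g (Rigid.p0At i) := by
  have hg' : g ∈ (a0Sub crd : Subgroup K).toSubmonoid := hg
  rw [a0Sub, Subgroup.closure_toSubmonoid_of_finite] at hg'
  clear hg
  induction hg' using Submonoid.closure_induction_left with
  | one => exact ⟨0, R.a0_zero, R.p0_one⟩
  | mul_left x hx y hy ih =>
    obtain ⟨i, hi, hxi⟩ := hx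
    obtain ⟨j, hj, hyj⟩ := ih
    have h := List.all_eq_true.1 (List.all_eq_true.1 Rigid.group_checks.2.1 i hi) j hj
    simp only [Bool.and_eq_true, List.any_eq_true, beq_iff_eq] at h
    obtain ⟨-, k, hk, hijk⟩ := h
    exact ⟨k, hk, hijk ▸ hxi.mul hyj⟩

theorem a0_elt {i : ℕ} (hi : i ∈ Rigid.a0Idx) :
    ∃ g ∈ (a0Sub crd : Subgroup K), Acts crd g (Rigid.p0At i) := by
  obtain ⟨g, -, hg⟩ := R.p0_elt i (R.a0_idx_lt hi)
  exact ⟨g, subset_closure ⟨i, hi, hg⟩, hg⟩

theorem a0_le_p0 : (a0Sub crd : Subgroup K) ≤ p0Sub crd := by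
  intro g hg
  obtain ⟨i, hi, hgi⟩ := R.a0_acts hg
  obtain ⟨g', hg', hgi'⟩ := R.p0_elt i (R.a0_idx_lt hi)
  rwa [R.acts_unique hgi hgi']

theorem a0_le : (a0Sub crd : Subgroup K) ≤ M := R.a0_le_p0.trans R.p0_le

theorem a0_elem : Cfsg.IsElementaryAbelian 2 (a0Sub crd : Subgroup K) := by
  obtain ⟨-, h2, h3, -⟩ := Rigid.group_checks
  refine ⟨⟨⟨fun p r => Subtype.ext ?_⟩⟩, fun x hx => ?_⟩
  · obtain ⟨i, hi, hpi⟩ := R.a0_acts p.2
    obtain ⟨j, hj, hrj⟩ := R.a0_acts r.2
    have h := List.all_eq_true.1 (List.all_eq_true.1 h2 i hi) j hj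
    simp only [Bool.and_eq_true, beq_iff_eq] at h
    exact R.acts_unique (hpi.mul hrj) (h.1 ▸ hrj.mul hpi)
  · obtain ⟨i, hi, hxi⟩ := R.a0_acts hx
    rw [pow_two]
    exact R.acts_unique (eq_of_beq (List.all_eq_true.1 h3 i hi) ▸ hxi.mul hxi) R.acts_one

theorem card_idx {L : List ℕ} (hnd : L.Nodup) (hlt : ∀ i ∈ L, i < 128) (B : Subgroup K)
    (hB : ∀ i ∈ L, ∃ g ∈ B, Acts crd g (Rigid.p0At i)) (hB' : ∀ g ∈ B, ∃ i ∈ L, Acts crd g (Rigid.p0At i)) :
    Nat.card ↥B = L.length := by
  choose g hg hga using hB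
  let F : {i // i ∈ L.toFinset} → ↥B := fun k => ⟨g k (List.mem_toFinset.1 k.2), hg _ _⟩
  have hinj : Function.Injective F := fun i j e => Subtype.ext (R.p0_inj
    (hlt _ (List.mem_toFinset.1 i.2)) (hlt _ (List.mem_toFinset.1 j.2)) (hga i (List.mem_toFinset.1 i.2))
    (by rw [show g i (List.mem_toFinset.1 i.2) = g j (List.mem_toFinset.1 j.2) from congrArg Subtype.val e]; exact hga j (List.mem_toFinset.1 j.2)))
  have hsurj : Function.Surjective F := fun x => by
    obtain ⟨i, hi, hxi⟩ := hB' x x.2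
    exact ⟨⟨i, List.mem_toFinset.2 hi⟩, Subtype.ext (R.acts_unique (hga i hi) hxi)⟩
  rw [← Nat.card_eq_of_bijective F ⟨hinj, hsurj⟩, Nat.card_eq_fintype_card, Fintype.card_coe,
    List.toFinset_card_of_nodup hnd]

theorem a0_card : Nat.card ↥(a0Sub crd : Subgroup K) = 16 := by
  obtain ⟨h, -⟩ := Rigid.group_checks
  simp only [Bool.and_eq_true, beq_iff_eq, decide_eq_true_eq] at h
  rw [R.card_idx h.1.1.2 (fun i hi => R.a0_idx_lt hi) _ (fun i hi => R.a0_elt hi) (fun g hg => R.a0_acts hg)]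
  exact h.1.1.1

/-- Elementary subgroups of order at least sixteen of the listed group. -/
theorem p0_big {B : Subgroup K} (hB : Cfsg.IsElementaryAbelian 2 B) (hle : B ≤ p0Sub crd)
    (h16 : 16 ≤ Nat.card ↥B) :
    (B = a0Sub crd) ∨ (Nat.card ↥B = 16 ∧ ∀ i ∈ Rigid.b0Idx, ∃ g ∈ B, Acts crd g (Rigid.p0At i)) := by
  classical
  let P : ℕ → Prop := fun k => ∃ g ∈ B, Acts crd g (Rigid.p0At (Rigid.p0Inv.getD k 0))
  set L := (List.range 35).filter fun k => decide (P k) with hL
  have hmemL : ∀ {k}, k ∈ L ↔ k < 35 ∧ P k := fun {k} => by simp [hL]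
  have hinv : ∀ g ∈ B, g ≠ 1 → ∃ k ∈ L, Acts crd g (Rigid.p0At (Rigid.p0Inv.getD k 0)) := fun g hg h1 => by
    obtain ⟨k, hk, hgk⟩ := R.p0_invol (hle hg) (by rw [← pow_two]; exact hB.2 g hg) h1
    exact ⟨k, hmemL.2 ⟨hk, g, hg, hgk⟩, hgk⟩
  have hlen : 15 ≤ L.length := by
    choose k hk hga using hinv
    have hinj : Function.Injective (fun g : {g : ↥B // g ≠ 1} =>
        (⟨k g g.1.2 (fun e => g.2 (Subtype.ext e)), List.mem_toFinset.2 (hk _ _ _)⟩ : {x // x ∈ L.toFinset})) := by
      intro g g' e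
      have e' := congrArg Subtype.val e
      refine Subtype.ext (Subtype.ext (R.acts_unique (hga _ g.1.2 fun e => g.2 (Subtype.ext e)) ?_))
      simp only at e'
      rw [e']
      exact hga _ _ _
    have h1 := Nat.card_le_card_of_injective _ hinj
    rw [Nat.card_eq_fintype_card (α := {x // x ∈ L.toFinset}), Fintype.card_coe,
      List.toFinset_card_of_nodup (show L.Nodup from List.nodup_range.filter _)] at h1
    haveI := Fintype.ofFinite ↥B
    have h2 : Nat.card {g : ↥B // g ≠ 1} = Nat.card ↥B - 1 := by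
      rw [Nat.card_eq_fintype_card, Nat.card_eq_fintype_card, Fintype.card_subtype_compl,
        Fintype.card_subtype_eq]
    omega
  have hp : L.Pairwise fun k l => (Rigid.p0Adj.getD k 0).testBit l = true := by
    refine (List.pairwise_iff_getElem.2 fun i j hi hj hij => ?_)
    obtain ⟨hk, g, hg, hgk⟩ := hmemL.1 (List.getElem_mem hi)
    obtain ⟨hl, g', hg', hgl⟩ := hmemL.1 (List.getElem_mem hj)
    have hne : L[i] ≠ L[j] := fun e => by
      have := ((List.nodup_range.filter _ : L.Nodup).getElem_inj_iff).1 e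
      omega
    have h := List.all_eq_true.1 (List.all_eq_true.1 Rigid.inv_checks.2.2.1 _ (List.mem_range.2 hk)) _
      (List.mem_range.2 hl)
    simp only [Bool.or_eq_true, beq_iff_eq, Bool.not_eq_true', beq_eq_false_iff_ne, ne_eq] at h
    rcases h with (h | h) | h
    · exact absurd h hne
    · refine absurd ?_ h
      have hlt : ∀ m, m < 35 → Rigid.p0Inv.getD m 0 < 128 := fun m hm => by
        have h2 := Rigid.inv_checks.2.1
        simp only [Bool.and_eq_true, beq_iff_eq, List.all_eq_true] at h2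
        rw [List.getD_eq_getElem _ _ (by omega)]
        exact Nat.le_of_ble_eq_true (h2.2 _ (List.getElem_mem _))
      haveI := hB.1
      have hcomm : g * g' = g' * g := congrArg Subtype.val (mul_comm' (⟨g, hg⟩ : ↥B) ⟨g', hg'⟩)
      exact R.acts_ext (Rigid.comp_valid (R.p0_valid _ (hlt _ hk)) (R.p0_valid _ (hlt _ hl)))
        (Rigid.comp_valid (R.p0_valid _ (hlt _ hl)) (R.p0_valid _ (hlt _ hk)))
        (hgk.mul hgl) (hcomm ▸ hgl.mul hgk)
    · exact h
  rcases bigOk_sound 35 [] (List.range 35) L Rigid.inv_checks.2.2.2 List.filter_sublist hp (by simpa using hlen)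
    with h | h
  · left
    refine Subgroup.eq_of_le_of_card_ge (fun g hg => ?_) (by rw [R.a0_card]; exact h16)
    by_cases h1 : g = 1
    · rw [h1]; exact one_mem _
    · obtain ⟨k, hk, hgk⟩ := hinv g hg h1
      have h2 := h k (.inr hk)
      rw [Rigid.inA0, List.contains_iff_mem] at h2
      obtain ⟨g', hg', hgk'⟩ := R.a0_elt h2
      rwa [R.acts_unique hgk hgk']
  · right
    have hB' : ∀ g ∈ B, ∃ i ∈ Rigid.b0Idx, Acts crd g (Rigid.p0At i) := by
      intro g hg
      by_cases h1 : g = 1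
      · subst h1
        refine ⟨0, ?_, R.p0_one⟩
        have := Rigid.group_checks.2.2.2.2
        simp only [Bool.and_eq_true, List.contains_iff_mem] at this
        exact this.2
      · obtain ⟨k, hk, hgk⟩ := hinv g hg h1
        have h2 := h k (.inr hk)
        rw [Rigid.inB0, List.contains_iff_mem] at h2
        exact ⟨_, h2, hgk⟩
    choose i hi hga using hB'
    let F : ↥B → {x // x ∈ Rigid.b0Idx.toFinset} := fun g => ⟨i g g.2, List.mem_toFinset.2 (hi g g.2)⟩
    have hFinj : Function.Injective F := fun g g' e => Subtype.ext (R.acts_unique (hga g g.2)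
      (by rw [show i g g.2 = i g' g'.2 from congrArg Subtype.val e]; exact hga g' g'.2))
    have hb := Rigid.group_checks.2.2.2.2
    simp only [Bool.and_eq_true, beq_iff_eq, decide_eq_true_eq] at hb
    have hcardF : Nat.card {x // x ∈ Rigid.b0Idx.toFinset} = 16 := by
      rw [Nat.card_eq_fintype_card, Fintype.card_coe, List.toFinset_card_of_nodup hb.1.2, hb.1.1.1]
    have hle16 : Nat.card ↥B = 16 :=
      le_antisymm (hcardF ▸ Nat.card_le_card_of_injective F hFinj) h16
    refine ⟨hle16, fun j hj => ?_⟩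
    obtain ⟨g, hg⟩ := ((Nat.bijective_iff_injective_and_card F).2 ⟨hFinj, by rw [hle16, hcardF]⟩).2
      ⟨j, List.mem_toFinset.2 hj⟩
    refine ⟨g, g.2, ?_⟩
    rw [← show i g g.2 = j from congrArg Subtype.val hg]
    exact hga g g.2

/-- The bound on elementary subgroups of `M`. -/
theorem elem_le (A : Subgroup K) (hA : A ≤ M) (he : Cfsg.IsElementaryAbelian 2 A) : Nat.card ↥A ≤ 16 := by
  by_contra h
  obtain ⟨y, -, hy⟩ := R.conj_into (isPGroup_of_elem he) hA
  have hc : Nat.card ↥(A.map (MulAut.conj y).toMonoidHom) = Nat.card ↥A :=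
    card_map_of_injective (MulEquiv.injective _)
  rcases R.p0_big (elem_map_conj he y) hy (by omega) with e | ⟨e, -⟩
  · rw [e, R.a0_card] at hc; omega
  · omega

end Rig

end CfsgLib.JankoFour
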