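import Cfsg.Agent.Lib.JankoFour.Rigid.HexadBasic

/-!
# The fixed space of the hexad group, its 77 images and its stabiliser
-/

set_option autoImplicit false
set_option linter.unusedSectionVars false
set_option linter.style.haveILetI false

namespace CfsgLib.JankoFour

open Subgroup QuadraticMap
open CfsgLib.LargeFischer (perpSub perpSub_card vadd_self eq_of_vadd q_add z2_cases)

variable {V : Type*} [AddCommGroup V] [Module (ZMod 2) V] [Finite V]
  {K : Type*} [Group K] [Finite K] [DistribMulAction K V]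
  {q : QuadraticForm (ZMod 2) V} {n : K} {M : Subgroup K} {crd : ℕ → V} {a f u t : K}

theorem spanX_zero : ∀ L : List ℕ, 0 ∈ Rigid.spanX L
  | [] => by simp [Rigid.spanX]
  | b :: bs => by simp [Rigid.spanX, spanX_zero bs]

theorem spanX_xor : ∀ (L : List ℕ) {x y : ℕ}, x ∈ Rigid.spanX L → y ∈ Rigid.spanX L → x ^^^ y ∈ Rigid.spanX L
  | [], x, y, hx, hy => by
    simp only [Rigid.spanX, List.mem_singleton] at hx hy ⊢
    subst hx hy; rfl
  | b :: bs, x, y, hx, hy => by
    simp only [Rigid.spanX, List.mem_append, List.mem_map] at hx hy ⊢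
    rcases hx with hx | ⟨x', hx, rfl⟩ <;> rcases hy with hy | ⟨y', hy, rfl⟩
    · exact .inl (spanX_xor bs hx hy)
    · exact .inr ⟨x ^^^ y', spanX_xor bs hx hy, by rw [← Nat.xor_assoc, Nat.xor_comm b x, Nat.xor_assoc]⟩
    · exact .inr ⟨x' ^^^ y, spanX_xor bs hx hy, (Nat.xor_assoc _ _ _).symm⟩
    · refine .inl ?_
      have e : (b ^^^ x') ^^^ (b ^^^ y') = x' ^^^ y' := by
        rw [Nat.xor_comm b x', Nat.xor_assoc, ← Nat.xor_assoc b b y', Nat.xor_self, Nat.zero_xor]
      rw [e]; exact spanX_xor bs hx hy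

theorem spanX_self : ∀ (L : List ℕ) {x : ℕ}, x ∈ L → x ∈ Rigid.spanX L
  | b :: bs, x, hx => by
    simp only [Rigid.spanX, List.mem_append, List.mem_map]
    rcases List.mem_cons.1 hx with rfl | hx
    · exact .inr ⟨0, spanX_zero bs, Nat.xor_zero _⟩
    · exact .inl (spanX_self bs hx)

theorem spanX_min : ∀ (L : List ℕ) {S : ℕ → Prop}, S 0 → (∀ x y, S x → S y → S (x ^^^ y)) →
    (∀ x ∈ L, S x) → ∀ {x : ℕ}, x ∈ Rigid.spanX L → S x
  | [], _, h0, _, _, x, hx => by
    simp only [Rigid.spanX, List.mem_singleton] at hx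
    subst hx; exact h0
  | b :: bs, S, h0, hadd, hL, x, hx => by
    simp only [Rigid.spanX, List.mem_append, List.mem_map] at hx
    have ih : ∀ {y : ℕ}, y ∈ Rigid.spanX bs → S y :=
      spanX_min bs h0 hadd fun y hy => hL y (List.mem_cons_of_mem _ hy)
    rcases hx with hx | ⟨x', hx, rfl⟩
    · exact ih hx
    · exact hadd _ _ (hL b List.mem_cons_self) (ih hx)

theorem spanX_app (g : List ℕ) (L T : List ℕ) (h : ∀ x ∈ L, Rigid.app g x ∈ Rigid.spanX T) {x : ℕ}
    (hx : x ∈ Rigid.spanX L) : Rigid.app g x ∈ Rigid.spanX T :=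
  spanX_min L (S := fun x => Rigid.app g x ∈ Rigid.spanX T) (by rw [Rigid.app_zero]; exact spanX_zero T)
    (fun x y hx hy => by rw [Rigid.app_xor]; exact spanX_xor T hx hy) h hx

/-- One of the images of the fixed space. -/
def wSet (crd : ℕ → V) (i : ℕ) : Set V := crd '' {x | x ∈ Rigid.spanX (Rigid.wOrb.getD i [])}

/-- The fixed space of the hexad group. -/
def w0Set (crd : ℕ → V) : Set V := crd '' {x | x ∈ Rigid.w0L}

theorem wSet_zero : wSet crd 0 = w0Set crd := by
  obtain ⟨h, -⟩ := Rigid.orbit_checks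
  simp only [Bool.and_eq_true, beq_iff_eq] at h
  rw [wSet, w0Set, h.2, Rigid.w0L]

namespace Rig

variable (R : Rig q n M crd a f u t)

include R

theorem w0_lt {x : ℕ} (hx : x ∈ Rigid.w0L) : x < 4096 := by
  obtain ⟨h, -⟩ := Rigid.w0_checks
  simp only [Bool.and_eq_true, List.all_eq_true] at h
  exact Nat.le_of_ble_eq_true (h.2 x hx)

theorem w0_ncard : (w0Set crd : Set V).ncard = 64 := by
  obtain ⟨h, -⟩ := Rigid.w0_checks
  simp only [Bool.and_eq_true, beq_iff_eq, decide_eq_true_eq] at h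
  rw [w0Set, Set.InjOn.ncard_image (s := {x | x ∈ Rigid.w0L}) (fun x hx y hy e => R.inj x y (R.w0_lt hx) (R.w0_lt hy) e),
    show {x | x ∈ Rigid.w0L} = ↑Rigid.w0L.toFinset by ext x; simp, Set.ncard_coe_finset,
    List.toFinset_card_of_nodup h.1.2, h.1.1]

theorem mem_w0 {x : ℕ} (hx : x < 4096) : crd x ∈ (w0Set crd : Set V) ↔ Rigid.w0Mask.testBit x = true := by
  have h := List.all_eq_true.1 Rigid.w0_checks.2.2.2.1 x (List.mem_range.2 hx)
  rw [beq_iff_eq] at h
  rw [h, List.contains_iff_mem]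
  exact ⟨fun ⟨y, hy, e⟩ => R.inj y x (R.w0_lt hy) hx e ▸ hy, fun h => ⟨x, h, rfl⟩⟩

theorem fix_a0 : fixSet (a0Sub crd : Subgroup K) = (w0Set crd : Set V) := by
  ext v
  obtain ⟨x, hx, rfl⟩ := R.surj v
  have h := List.all_eq_true.1 Rigid.fix_checks.1 x (List.mem_range.2 hx)
  rw [beq_iff_eq] at h
  constructor
  · intro hv
    rw [R.mem_w0 hx, ← h, List.all_eq_true]
    intro i hi
    have hia : i ∈ Rigid.a0Idx := by
      have h4 := Rigid.group_checks.2.2.2.1
      simp only [Bool.and_eq_true, List.all_eq_true, List.contains_iff_mem] at h4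
      exact h4.1 i hi
    obtain ⟨g, hg, hga⟩ := R.a0_elt hia
    have e := hv g hg
    rw [hga] at e
    exact beq_iff_eq.2 (R.inj _ _ (Rigid.app_lt (R.p0_valid i (R.a0_idx_lt hia)) x) hx e)
  · rintro ⟨y, hy, e⟩ g hg
    obtain ⟨i, hi, hgi⟩ := R.a0_acts hg
    rw [← e, hgi, eq_of_beq (List.all_eq_true.1 (List.all_eq_true.1 Rigid.fix_checks.2.1 i hi) y hy)]

theorem w0_sing {v : V} (hv : v ∈ (w0Set crd : Set V)) : q v = 0 := by
  obtain ⟨x, hx, rfl⟩ := hv
  have h := List.all_eq_true.1 Rigid.w0_checks.2.1 x hx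
  simp only [Bool.not_eq_true'] at h
  rw [R.q_crd, h]; rfl

theorem w0_add {v w : V} (hv : v ∈ (w0Set crd : Set V)) (hw : w ∈ (w0Set crd : Set V)) : v + w ∈ (w0Set crd : Set V) := by
  rw [← R.fix_a0] at hv hw ⊢
  exact fun g hg => by rw [smul_add, hv g hg, hw g hg]

theorem w0_smul_n {v : V} (hv : v ∈ (w0Set crd : Set V)) : n • v ∈ (w0Set crd : Set V) := by
  obtain ⟨x, hx, rfl⟩ := hv
  exact ⟨_, List.contains_iff_mem.1 (List.all_eq_true.1 Rigid.w0_checks.2.2.1 x hx), (R.actN x).symm⟩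

theorem w0_perp {v : V} (hv : ∀ w ∈ (w0Set crd : Set V), polar q v w = 0) : v ∈ (w0Set crd : Set V) := by
  obtain ⟨φ, c⟩ := R.core
  let U : AddSubgroup V :=
    { carrier := w0Set crd
      zero_mem' := ⟨0, spanX_zero _, R.crd_zero⟩
      add_mem' := fun {x y} hx hy => R.w0_add hx hy
      neg_mem' := fun {x} hx => by rw [neg_eq_of_add_eq_zero_left (vadd_self x)]; exact hx }
  have hle : U ≤ perpSub q U := fun x hx y hy => by
    rw [polar, R.w0_sing (R.w0_add hx hy), R.w0_sing hx, R.w0_sing hy]; decide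
  have h := perpSub_card q c.nondeg U
  have h64 : Nat.card ↥U = 64 := by
    rw [← R.w0_ncard]; exact Nat.card_coe_set_eq _
  rw [c.cardV, h64] at h
  have hsub : (U : Set V) ⊆ (perpSub q U : Set V) := hle
  have heq := Set.eq_of_subset_of_ncard_le hsub (by
    rw [← Nat.card_coe_set_eq, ← Nat.card_coe_set_eq]
    show Nat.card ↥(perpSub q U) ≤ Nat.card ↥U
    norm_num at h
    omega) (Set.toFinite _)
  have : v ∈ (perpSub q U : Set V) := fun w hw => hv w hw
  rwa [← heq] at this

/-- The pointwise stabiliser of the fixed space. -/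
theorem pointwise {k : K} (hk : ∀ v ∈ (w0Set crd : Set V), k • v = v) : k ∈ (a0Sub crd : Subgroup K) := by
  obtain ⟨φ, c⟩ := R.core
  let F : Subgroup K :=
    { carrier := {k | ∀ v ∈ (w0Set crd : Set V), k • v = v}
      one_mem' := fun v _ => one_smul _ v
      mul_mem' := fun {x y} hx hy v hv => by rw [mul_smul, hy v hv, hx v hv]
      inv_mem' := fun {x} hx v hv => by rw [inv_smul_eq_iff, hx v hv] }
  have hM : F ≤ M := fun k hk => by
    by_contra hkM
    obtain ⟨v, hv, hv0⟩ : ∃ v ∈ (w0Set crd : Set V), v ≠ 0 := by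
      obtain ⟨v, hv, hne⟩ := Set.exists_ne_of_one_lt_ncard (s := (w0Set crd : Set V))
        (by rw [R.w0_ncard]; norm_num) 0
      exact ⟨v, hv, hne⟩
    have h1 := c.flip hkM
    have h2 : (n * n) • v = n • v := by
      rw [← h1, mul_smul, mul_smul, show k⁻¹ • v = v by rw [inv_smul_eq_iff, hk v hv], hk _ (R.w0_smul_n hv)]
    rw [mul_smul] at h2
    exact hv0 (c.nfix v (smul_left_cancel n h2))
  have hsq : ∀ k ∈ F, k * k = 1 := fun k hk => by
    refine c.faithful _ fun v => ?_
    have hmem : k • v + v ∈ (w0Set crd : Set V) := R.w0_perp fun w hw => by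
      rw [QuadraticMap.polar_add_left]
      conv_lhs => arg 1; rw [← hk w hw, c.pol_smul]
      generalize polar q v w = p
      revert p; decide
    have h1 : k • (k • v + v) = k • v + v := hk _ hmem
    rw [smul_add, add_comm (k • k • v)] at h1
    rw [mul_smul]
    exact add_left_cancel h1
  have hel : Cfsg.IsElementaryAbelian 2 F := by
    refine ⟨⟨⟨fun x y => Subtype.ext ?_⟩⟩, fun x hx => by rw [pow_two]; exact hsq x hx⟩
    have h1 := hsq _ (mul_mem x.2 y.2)
    show (x : K) * y = y * x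
    calc (x : K) * y = (x : K) * ((x : K) * y * ((x : K) * y)) * y := by rw [h1, mul_one]
      _ = ((x : K) * x) * (y * x) * ((y : K) * y) := by group
      _ = y * x := by rw [hsq _ x.2, hsq _ y.2, one_mul, mul_one]
  have hle : (a0Sub crd : Subgroup K) ≤ F := fun g hg v hv => by
    rw [← R.fix_a0] at hv; exact hv g hg
  rw [Subgroup.eq_of_le_of_card_ge hle (by rw [R.a0_card]; exact R.elem_le F hM hel)]
  exact hk

theorem orbit_wOrb (i : ℕ) (hi : i < 77) (j : ℕ) (hj : j < 5) :
    (Rigid.wNext.getD i []).getD j 0 < 77 ∧ ∀ x ∈ Rigid.spanX (Rigid.wOrb.getD i []),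
      Rigid.app (Rigid.gensL.getD j Rigid.mI) x ∈
        Rigid.spanX (Rigid.wOrb.getD ((Rigid.wNext.getD i []).getD j 0) []) := by
  have h := List.all_eq_true.1 (List.all_eq_true.1 Rigid.orbit_checks.2.1 i (List.mem_range.2 hi)) j
    (List.mem_range.2 hj)
  simp only [Bool.and_eq_true, List.all_eq_true, List.contains_iff_mem] at h
  exact ⟨Nat.le_of_ble_eq_true h.1, fun x hx => spanX_app _ _ _ h.2 hx⟩

theorem gen_acts (j : ℕ) (hj : j < 5) : Acts crd ([a, f, u, n, t].getD j 1) (Rigid.gensL.getD j Rigid.mI) := by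
  match j, hj with
  | 0, _ => exact R.actA
  | 1, _ => exact R.actF
  | 2, _ => exact R.actU
  | 3, _ => exact R.actN
  | 4, _ => exact R.actT
  | j + 5, h => exact absurd h (by omega)

theorem wSet_sub (k : K) : ∀ i < 77, ∃ j < 77, ∀ v ∈ (wSet crd i : Set V), k • v ∈ (wSet crd j : Set V) := by
  refine R.induction (P := fun k => ∀ i < 77, ∃ j < 77, ∀ v ∈ (wSet crd i : Set V), k • v ∈ (wSet crd j : Set V))
    (fun i hi => ⟨i, hi, fun v hv => by rw [one_smul]; exact hv⟩) ?_ k
  intro g hg k ih i hi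
  obtain ⟨j, hj, hk⟩ := ih i hi
  obtain ⟨l, hl, rfl⟩ : ∃ l < 5, g = [a, f, u, n, t].getD l 1 := by
    rcases hg with rfl | rfl | rfl | rfl | rfl
    exacts [⟨0, by norm_num, rfl⟩, ⟨1, by norm_num, rfl⟩, ⟨2, by norm_num, rfl⟩, ⟨3, by norm_num, rfl⟩,
      ⟨4, by norm_num, rfl⟩]
  obtain ⟨h1, h2⟩ := R.orbit_wOrb j hj l hl
  refine ⟨_, h1, fun v hv => ?_⟩
  obtain ⟨x, hx, e⟩ := hk v hv
  exact ⟨_, h2 x hx, by rw [mul_smul, ← e, R.gen_acts l hl]⟩

theorem wOrb_lt {i x : ℕ} (hi : i < 77) (hx : x ∈ Rigid.spanX (Rigid.wOrb.getD i [])) : x < 4096 := by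
  obtain ⟨h, -⟩ := Rigid.orbit_checks
  simp only [Bool.and_eq_true, beq_iff_eq, List.all_eq_true] at h
  refine spanX_min _ (S := fun x => x < 4096) (by norm_num) (fun x y hx hy => ?_) (fun y hy => ?_) hx
  · exact Nat.xor_lt_two_pow (n := 12) hx hy
  · rw [List.getD_eq_getElem _ _ (by rw [h.1.1.1]; exact hi)] at hy
    exact Nat.le_of_ble_eq_true (h.1.2 _ (List.getElem_mem _) y hy)

theorem wSet_le {i l : ℕ} (hi : i < 77) (hl : l < 77) (h : (wSet crd l : Set V) ⊆ wSet crd i) : i = l := by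
  have hc := List.all_eq_true.1 (List.all_eq_true.1 Rigid.orbit_checks.2.2.2 i (List.mem_range.2 hi)) l
    (List.mem_range.2 hl)
  simp only [Bool.or_eq_true, beq_iff_eq, List.any_eq_true, Bool.not_eq_true'] at hc
  rcases hc with hc | ⟨x, hx, hxs⟩
  · exact hc
  · exfalso
    obtain ⟨y, hy, e⟩ := h ⟨x, spanX_self _ hx, rfl⟩
    rw [R.inj y x (R.wOrb_lt hi hy) (R.wOrb_lt hl (spanX_self _ hx)) e] at hy
    exact Bool.eq_false_iff.1 hxs (List.contains_iff_mem.2 hy)

/-- The group permutes the 77 images. -/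
theorem wSet_image (k : K) (i : ℕ) (hi : i < 77) :
    ∃ j < 77, (fun v => k • v) '' (wSet crd i : Set V) = wSet crd j := by
  obtain ⟨j, hj, h⟩ := R.wSet_sub k i hi
  refine ⟨j, hj, ?_⟩
  obtain ⟨l, hl, h'⟩ := R.wSet_sub k⁻¹ j hj
  have hli : l = i := R.wSet_le hl hi fun v hv => by
    have := h' _ (h v hv)
    rwa [inv_smul_smul] at this
  subst hli
  ext v
  constructor
  · rintro ⟨w, hw, rfl⟩; exact h w hw
  · exact fun hv => ⟨_, h' v hv, smul_inv_smul _ _⟩

theorem wSet_reach : ∀ i < 77, ∃ k : K, (fun v => k • v) '' (w0Set crd : Set V) = wSet crd i := by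
  intro i
  induction i using Nat.strong_induction_on with
  | _ i ih =>
    intro hi
    rcases i with _ | k
    · exact ⟨1, by simp [wSet_zero]⟩
    · have h := List.all_eq_true.1 Rigid.orbit_checks.2.2.1 k (List.mem_range.2 (by omega))
      simp only [Bool.and_eq_true, beq_iff_eq] at h
      have h1 := Nat.le_of_ble_eq_true h.1.1
      have h2 := Nat.le_of_ble_eq_true h.1.2
      obtain ⟨g, hg⟩ := ih (Rigid.wPar.getD (k + 1) (0, 0)).1 (by omega) (by omega)
      obtain ⟨j, hj, hjx⟩ := R.wSet_image ([a, f, u, n, t].getD (Rigid.wPar.getD (k + 1) (0, 0)).2 1) _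
        (show (Rigid.wPar.getD (k + 1) (0, 0)).1 < 77 by omega)
      obtain ⟨o1, o2⟩ := R.orbit_wOrb (Rigid.wPar.getD (k + 1) (0, 0)).1 (by omega) _ h2
      rw [h.2] at o1 o2
      have hjk : j = k + 1 := by
        refine (R.wSet_le o1 hj ?_).symm
        rw [← hjx]
        rintro _ ⟨_, ⟨x, hx, rfl⟩, rfl⟩
        exact ⟨_, o2 x hx, (R.gen_acts _ h2 x).symm⟩
      refine ⟨[a, f, u, n, t].getD (Rigid.wPar.getD (k + 1) (0, 0)).2 1 * g, ?_⟩
      rw [show wSet crd (k + 1) = wSet crd j by rw [hjk], ← hjx, ← hg, Set.image_image]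
      simp only [mul_smul]

/-- Where the fixed space goes. -/
theorem w0_image (k : K) : ∃ j < 77, (fun v => k • v) '' (w0Set crd : Set V) = wSet crd j := by
  rw [← wSet_zero]; exact R.wSet_image k 0 (by norm_num)

theorem a0_normalizer {k : K} :
    k ∈ normalizer ((a0Sub crd : Subgroup K) : Set K) ↔ (fun v => k • v) '' (w0Set crd : Set V) = w0Set crd := by
  constructor
  · intro h
    have e : (a0Sub crd : Subgroup K).map (MulAut.conj k).toMonoidHom = a0Sub crd := by
      ext x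
      constructor
      · rintro ⟨y, hy, rfl⟩; exact (mem_normalizer_iff.1 h y).1 hy
      · intro hx
        refine ⟨k⁻¹ * x * k, (mem_normalizer_iff.1 h _).2 (by simpa [mul_assoc] using hx), ?_⟩
        simp [mul_assoc]
    rw [← R.fix_a0, ← fixSet_map, e]
  · intro h
    refine mem_normalizer_iff.2 fun x => ⟨fun hx => R.pointwise fun v hv => ?_, fun hx => R.pointwise fun v hv => ?_⟩
    · rw [← h] at hv
      obtain ⟨w, hw, rfl⟩ := hv
      rw [← R.fix_a0] at hw
      simp only [mul_smul, inv_smul_smul, hw x hx]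
    · have hkv : k • v ∈ (w0Set crd : Set V) := h ▸ ⟨v, hv, rfl⟩
      rw [← R.fix_a0] at hkv
      have h2 := hkv _ hx
      rwa [mul_smul, mul_smul, inv_smul_smul, smul_left_cancel_iff] at h2

theorem a0_norm_card : Nat.card ↥(normalizer ((a0Sub crd : Subgroup K) : Set K)) = 34560 := by
  classical
  choose idx hidx himg using fun k : K => R.w0_image k
  set N := normalizer ((a0Sub crd : Subgroup K) : Set K) with hN
  have hfib : ∀ k k' : K, (idx k = idx k' ↔ k⁻¹ * k' ∈ N) := by
    intro k k'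
    rw [hN, R.a0_normalizer]
    constructor
    · intro e
      have e1 : (fun v => k • v) '' (w0Set crd : Set V) = (fun v => k' • v) '' w0Set crd := by rw [himg, himg, e]
      have e2 : (fun v => (k⁻¹ * k') • v) '' (w0Set crd : Set V) = (fun v => k⁻¹ • v) '' ((fun v => k' • v) '' w0Set crd) := by
        rw [Set.image_image]; simp only [mul_smul]
      rw [e2, ← e1, Set.image_image]
      simp
    · intro e
      have e2 : (fun v => k' • v) '' (w0Set crd : Set V) = (fun v => k • v) '' ((fun v => (k⁻¹ * k') • v) '' w0Set crd) := by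
        rw [Set.image_image]; simp only [← mul_smul, mul_inv_cancel_left]
      rw [e, himg, himg] at e2
      exact (R.wSet_le (hidx k) (hidx k') e2.le)
  let F : K ⧸ N → Fin 77 := Quotient.lift (fun k => ⟨idx k, hidx k⟩) fun k k' e =>
    Fin.ext ((hfib k k').2 (QuotientGroup.leftRel_apply.1 e))
  have hF : Function.Bijective F := by
    refine ⟨?_, fun i => ?_⟩
    · intro x y
      induction x using QuotientGroup.induction_on with | H k => ?_
      induction y using QuotientGroup.induction_on with | H k' => ?_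
      intro e
      exact QuotientGroup.eq.2 ((hfib k k').1 (congrArg Fin.val e))
    · obtain ⟨k, hk⟩ := R.wSet_reach i i.2
      refine ⟨(k : K ⧸ N), Fin.ext (R.wSet_le (hidx k) i.2 (show wSet crd i ⊆ wSet crd (idx k) from ?_))⟩
      rw [← hk, ← himg]
  have h := N.card_mul_index
  rw [Subgroup.index, Nat.card_eq_of_bijective F hF, Nat.card_fin, R.cardK] at h
  omega

end Rig

end CfsgLib.JankoFour
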