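import Cfsg.Agent.Lib.JankoFour.Rigid.Check

/-!
Kernel checks on the tables of the rigid model.
-/

set_option autoImplicit false
set_option maxRecDepth 100000
set_option Elab.async false

namespace CfsgLib.JankoFour.Rigid

/-- The values of the polar form between the second base vector and its translates. -/
def baseVal (s k : ℕ) : Bool :=
  if s % 3 == 0 then !(k % 11 == 0)
  else if s % 3 == 1 then [0, 2, 6, 7, 8, 10].contains (k % 11)
  else [0, 1, 3, 4, 5, 9].contains (k % 11)

theorem table_checks :
    ((List.range 10).all fun i => (List.range 10).all fun j =>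
      (gramMask.getD i 0).testBit j == baseVal (j % 2 + (3 - i % 2)) (j / 2 + (11 - i / 2))) = true ∧
    ((List.range 10).all fun i => !(gramMask.getD i 0).testBit 10 && !(gramMask.getD i 0).testBit 11 &&
      !(gramMask.getD 10 0).testBit i && !(gramMask.getD 11 0).testBit i) = true ∧
    ((gramMask.getD 10 0).testBit 11 && (gramMask.getD 11 0).testBit 10 &&
      !(gramMask.getD 10 0).testBit 10 && !(gramMask.getD 11 0).testBit 11) = true ∧
    ((List.range 1024).all fun x => Nat.blt (app mA x) 1024) = true ∧
    ((List.range 12).all fun k => quadMask.testBit k) = true ∧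
    ((List.range 5).all fun j => (mF.getD (2 * j) 0 == app (mpow mA (4 * j)) 1) &&
      (mF.getD (2 * j + 1) 0 == app mW (app (mpow mA (4 * j)) 1))) = true ∧
    (app mW 857 == 430) = true ∧
    ([mI, mA, mF, mU, mW, mC, mT, mT0].all fun g => g.all fun x => Nat.blt x 4096) = true := by
  refine ⟨?_, ?_, ?_, ?_, ?_, ?_, ?_, ?_⟩ <;> decide +kernel

end CfsgLib.JankoFour.Rigid
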